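import Mathlib
set_option linter.all false

/-!
# `2`-adic valuations of factorials and of `q ^ n - 1`
-/

set_option autoImplicit false

namespace Cfsg.Agent.H637

open Nat

/-- `v₂ ((2 ^ a)!) = 2 ^ a - 1`. -/
theorem val_factorial_two_pow (a : ℕ) : padicValNat 2 ((2 ^ a)!) + 1 = 2 ^ a := by
  induction a with
  | zero => simp
  | succ a ih =>
    have h := padicValNat_factorial_mul (p := 2) (2 ^ a)
    rw [pow_succ, mul_comm (2 ^ a) 2, h]
    omega

/-- `v₂ ((2 ^ a + n)!) = v₂ ((2 ^ a)!) + v₂ (n!)` for `n < 2 ^ a`. -/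
theorem val_factorial_add (a : ℕ) : ∀ n : ℕ, n < 2 ^ a →
    padicValNat 2 ((2 ^ a + n)!) = padicValNat 2 ((2 ^ a)!) + padicValNat 2 (n !) := by
  induction a with
  | zero =>
    intro n hn
    have : n = 0 := by simpa using hn
    subst this
    simp
  | succ a ih =>
    intro n hn
    have hk : n / 2 < 2 ^ a := by
      rw [pow_succ] at hn
      omega
    have hr : n % 2 < 2 := Nat.mod_lt _ (by norm_num)
    have e1 : 2 ^ (a + 1) + n = 2 * (2 ^ a + n / 2) + n % 2 := by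
      rw [pow_succ]; omega
    have e2 : n = 2 * (n / 2) + n % 2 := by omega
    have e3 : (2 : ℕ) ^ (a + 1) = 2 * 2 ^ a := by rw [pow_succ]; ring
    have h1 : padicValNat 2 ((2 ^ (a + 1) + n)!) =
        padicValNat 2 ((2 ^ a + n / 2)!) + (2 ^ a + n / 2) := by
      rw [e1, padicValNat_factorial_mul_add (p := 2) _ hr, padicValNat_factorial_mul]
    have h2 : padicValNat 2 (n !) = padicValNat 2 ((n / 2)!) + n / 2 := by
      conv_lhs => rw [e2]
      rw [padicValNat_factorial_mul_add (p := 2) _ hr, padicValNat_factorial_mul]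
    have h3 : padicValNat 2 ((2 ^ (a + 1))!) = padicValNat 2 ((2 ^ a)!) + 2 ^ a := by
      rw [e3, padicValNat_factorial_mul]
    rw [h1, h2, h3, ih (n / 2) hk]
    ring

theorem val_factorial_double (a : ℕ) :
    padicValNat 2 ((2 * 2 ^ a)!) = 2 * padicValNat 2 ((2 ^ a)!) + 1 := by
  have h1 := val_factorial_two_pow a
  have h2 := val_factorial_two_pow (a + 1)
  rw [pow_succ, mul_comm (2 ^ a) 2] at h2
  omega

/-- `v₂ (q ^ (2 j) - 1) = v₂ (q ^ 2 - 1) + v₂ j`. -/
theorem val_pow_even (q : ℕ) (hq : Odd q) (hq1 : 1 < q) (j : ℕ) (hj : j ≠ 0) :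
    padicValNat 2 (q ^ (2 * j) - 1) = padicValNat 2 (q ^ 2 - 1) + padicValNat 2 j := by
  have h2q : ¬ 2 ∣ q := hq.not_two_dvd_nat
  have hdiv : 2 ∣ q - 1 := by
    obtain ⟨k, hk⟩ := hq
    exact ⟨k, by omega⟩
  have h1 := padicValNat.pow_two_sub_pow (x := q) (y := 1) hq1 hdiv h2q (n := 2 * j)
    (by omega) ⟨j, by ring⟩
  have h2 := padicValNat.pow_two_sub_pow (x := q) (y := 1) hq1 hdiv h2q (n := 2)
    (by omega) ⟨1, by ring⟩
  rw [one_pow] at h1 h2
  have h3 : padicValNat 2 (2 * j) = padicValNat 2 2 + padicValNat 2 j :=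
    padicValNat.mul (by norm_num) hj
  omega

/-- `v₂ (q ^ (2 j + 1) - 1) = v₂ (q - 1)`. -/
theorem val_pow_odd (q : ℕ) (hq : Odd q) (hq1 : 1 < q) (j : ℕ) :
    padicValNat 2 (q ^ (2 * j + 1) - 1) = padicValNat 2 (q - 1) := by
  have h1 : q ^ (2 * j + 1) - 1 = (∑ i ∈ Finset.range (2 * j + 1), q ^ i) * (q - 1) := by
    rw [Nat.geomSum_eq (by omega), Nat.div_mul_cancel]
    have := Nat.sub_dvd_pow_sub_pow q 1 (2 * j + 1)
    rwa [one_pow] at this
  have h2 : Odd (∑ i ∈ Finset.range (2 * j + 1), q ^ i) := by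
    rw [Finset.odd_sum_iff_odd_card_odd]
    rw [Finset.filter_true_of_mem (fun i _ => hq.pow), Finset.card_range]
    exact ⟨j, rfl⟩
  rw [h1, padicValNat.mul h2.pos.ne' (by omega),
    padicValNat.eq_zero_of_not_dvd h2.not_two_dvd_nat, zero_add]

end Cfsg.Agent.H637
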