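import Mathlib
import Cfsg.Agent.FastGrp
import Cfsg.Agent.Prune
set_option linter.all false
prune_inst 0x7f00000000000000000000000000000000000000000000000000000000000000000000000000000000000000000000000000000000000000000000000000000000000000000000000000000000000000003fffffffffffffffffffffffffffbeffbdffffffff
open scoped Cfsg.Agent.FastGrp

/-!
# Joint weight spaces of commuting operators and fixed spaces

* `sum_W`: the dimensions of the joint eigenspaces (indexed by `κ → ZMod N`) add up to `dim V`;
* `sum_le`: independent subspaces inside a subspace;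
* `Fix σ g`: the fixed space of `g` in a representation `σ : G →* End V`.
-/

set_option autoImplicit false
set_option linter.unusedSectionVars false

namespace Cfsg.Agent.H637.JW

open Module

section Indep

variable {K : Type*} [Field K] {V : Type*} [AddCommGroup V] [Module K V] [FiniteDimensional K V]

theorem sum_le_top {ι : Type*} [Fintype ι] {p : ι → Submodule K V} (hp : iSupIndep p) :
    ∑ i, finrank K (p i) ≤ finrank K V := by
  classical
  have h1 := hp.dfinsupp_lsum_injective
  have h2 := LinearMap.finrank_le_finrank_of_injective h1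
  have h3 : finrank K (Π₀ i, p i) = ∑ i, finrank K (p i) := Module.finrank_directSum K (fun i => ↥(p i))
  rw [← h3]
  exact h2

theorem sum_eq_iSup {ι : Type*} [Fintype ι] {p : ι → Submodule K V} (hp : iSupIndep p) :
    ∑ i, finrank K (p i) = finrank K (⨆ i, p i : Submodule K V) := by
  classical
  have h1 := hp.dfinsupp_lsum_injective
  have h3 : finrank K (Π₀ i, p i) = ∑ i, finrank K (p i) := Module.finrank_directSum K (fun i => ↥(p i))
  rw [← h3, Submodule.iSup_eq_range_dfinsupp_lsum]
  exact (LinearMap.finrank_range_of_inj h1).symm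

/-- Independent subspaces inside a subspace. -/
theorem sum_le {ι : Type*} {p : ι → Submodule K V} (hp : iSupIndep p) (S : Finset ι)
    (U : Submodule K V) (h : ∀ i ∈ S, p i ≤ U) : ∑ i ∈ S, finrank K (p i) ≤ finrank K U := by
  classical
  have h1 : iSupIndep (fun i : S => p i) := hp.comp Subtype.val_injective
  have h2 := sum_eq_iSup h1
  rw [← Finset.sum_coe_sort S (fun i => finrank K (p i)), h2]
  exact Submodule.finrank_mono (iSup_le fun i => h i i.2)

theorem sum_le_of_inj {ι ι' : Type*} [Fintype ι'] {p : ι → Submodule K V} (hp : iSupIndep p)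
    (e : ι' → ι) (he : Function.Injective e) (U : Submodule K V) (h : ∀ i, p (e i) ≤ U) :
    ∑ i, finrank K (p (e i)) ≤ finrank K U := by
  have h1 : iSupIndep (fun i => p (e i)) := hp.comp he
  have h2 := sum_eq_iSup h1
  rw [h2]
  exact Submodule.finrank_mono (iSup_le h)

theorem sum_eq_top {ι : Type*} [Fintype ι] {p : ι → Submodule K V} (hp : iSupIndep p)
    (ht : ⨆ i, p i = ⊤) : ∑ i, finrank K (p i) = finrank K V := by
  rw [sum_eq_iSup hp, ht, finrank_top]

/-- Intersection of two subspaces. -/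
theorem add_le_inf (U U' : Submodule K V) :
    finrank K U + finrank K U' ≤ finrank K (U ⊓ U' : Submodule K V) + finrank K V := by
  have h1 := Submodule.finrank_sup_add_finrank_inf_eq U U'
  have h2 := Submodule.finrank_le (U ⊔ U')
  omega

end Indep

section W

variable {K : Type*} [Field K] {V : Type*} [AddCommGroup V] [Module K V]
  {κ : Type*}

/-- The joint weight space. -/
def W (N : ℕ) (ζ : K) (f : κ → Module.End K V) (c : κ → ZMod N) : Submodule K V :=
  ⨅ k, (f k).eigenspace (ζ ^ (c k).val)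

theorem mem_W {N : ℕ} {ζ : K} {f : κ → Module.End K V} {c : κ → ZMod N} {v : V} :
    v ∈ W N ζ f c ↔ ∀ k, f k v = ζ ^ (c k).val • v := by
  simp [W, Submodule.mem_iInf]

theorem pow_mod_of_pow_eq_one {N : ℕ} {ζ : K} (hζ : ζ ^ N = 1) (n : ℕ) : ζ ^ (n % N) = ζ ^ n := by
  conv_rhs => rw [← Nat.mod_add_div n N, pow_add, pow_mul, hζ, one_pow, mul_one]

theorem isSemisimple_of_pow [FiniteDimensional K V] {f : Module.End K V} {N : ℕ}
    (hN : (N : K) ≠ 0) (hf : f ^ N = 1) : f.IsSemisimple := by
  have hsep : (Polynomial.X ^ N - Polynomial.C (1 : K)).Separable :=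
    Polynomial.separable_X_pow_sub_C 1 hN one_ne_zero
  refine Module.End.isSemisimple_of_squarefree_aeval_eq_zero hsep.squarefree ?_
  simp [hf]

theorem maxGen_eq [FiniteDimensional K V] {f : Module.End K V} {N : ℕ} (hN : (N : K) ≠ 0)
    (hf : f ^ N = 1) (μ : K) : f.maxGenEigenspace μ = f.eigenspace μ :=
  (isSemisimple_of_pow hN hf).isFinitelySemisimple.maxGenEigenspace_eq_eigenspace μ

theorem pow_val_add {N : ℕ} [NeZero N] {ζ : K} (hζ : ζ ^ N = 1) (c d : ZMod N) :
    ζ ^ (c + d).val = ζ ^ c.val * ζ ^ d.val := by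
  rw [ZMod.val_add, ← pow_add, pow_mod_of_pow_eq_one hζ]

theorem pow_apply {f : Module.End K V} {μ : K} {v : V} (h : f v = μ • v) (n : ℕ) :
    (f ^ n) v = μ ^ n • v := by
  induction n with
  | zero => simp
  | succ n ih => rw [pow_succ, Module.End.mul_apply, h, map_smul, ih, smul_smul, pow_succ, mul_comm]

variable [FiniteDimensional K V]

theorem indep_W {N : ℕ} [NeZero N] (hN : (N : K) ≠ 0) {ζ : K} (hζ : IsPrimitiveRoot ζ N)
    {f : κ → Module.End K V} (hc : ∀ j k, f j * f k = f k * f j) (hf : ∀ k, f k ^ N = 1) :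
    iSupIndep (W N ζ f) := by
  have h := Module.End.independent_iInf_maxGenEigenspace_of_forall_mapsTo f (by
    intro i j φ
    exact Module.End.mapsTo_maxGenEigenspace_of_comm (hc j i) φ)
  have hinj : Function.Injective (fun (c : κ → ZMod N) (k : κ) => ζ ^ (c k).val) := by
    intro c d hcd
    funext k
    have h1 := hζ.pow_inj (ZMod.val_lt (c k)) (ZMod.val_lt (d k)) (congrFun hcd k)
    exact ZMod.val_injective N h1
  have h2 := h.comp hinj
  have h3 : ((fun χ : κ → K => ⨅ k, (f k).maxGenEigenspace (χ k)) ∘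
      fun (c : κ → ZMod N) (k : κ) => ζ ^ (c k).val) = W N ζ f := by
    funext c
    unfold W
    exact iInf_congr fun k => maxGen_eq hN (hf k) _
  rwa [h3] at h2

theorem iSup_W [IsAlgClosed K] {N : ℕ} [NeZero N] (hN : (N : K) ≠ 0) {ζ : K}
    (hζ : IsPrimitiveRoot ζ N) {f : κ → Module.End K V} (hc : ∀ j k, f j * f k = f k * f j)
    (hf : ∀ k, f k ^ N = 1) : ⨆ c, W N ζ f c = ⊤ := by
  have h := Module.End.iSup_iInf_maxGenEigenspace_eq_top_of_iSup_maxGenEigenspace_eq_top_of_commute
    f (by
      intro i j _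
      exact hc i j)
    (fun i => Module.End.iSup_maxGenEigenspace_eq_top _)
  rw [eq_top_iff, ← h]
  refine iSup_le fun χ => ?_
  by_cases hbot : (⨅ k, (f k).maxGenEigenspace (χ k)) = ⊥
  · rw [hbot]; exact bot_le
  · obtain ⟨v, hv, hv0⟩ := Submodule.exists_mem_ne_zero_of_ne_bot hbot
    have h1 : ∀ k, f k v = χ k • v := by
      intro k
      have h2 := (Submodule.mem_iInf _).1 hv k
      rw [maxGen_eq hN (hf k), Module.End.mem_eigenspace_iff] at h2
      exact h2
    have h2 : ∀ k, ∃ i : ZMod N, ζ ^ i.val = χ k := by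
      intro k
      have h3 := pow_apply (h1 k) N
      rw [hf k, Module.End.one_apply] at h3
      have h4 : (1 - χ k ^ N) • v = 0 := by rw [sub_smul, one_smul, ← h3, sub_self]
      have h5 : χ k ^ N = 1 := (sub_eq_zero.1 ((smul_eq_zero.1 h4).resolve_right hv0)).symm
      obtain ⟨i, hi, hi2⟩ := hζ.eq_pow_of_pow_eq_one h5
      refine ⟨(i : ZMod N), ?_⟩
      rw [ZMod.val_natCast, Nat.mod_eq_of_lt hi, hi2]
    choose c hcχ using h2
    refine le_trans ?_ (le_iSup _ c)
    unfold W
    refine iInf_mono fun k => ?_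
    rw [maxGen_eq hN (hf k), hcχ]

theorem sum_W [IsAlgClosed K] [Fintype κ] [DecidableEq κ] {N : ℕ} [NeZero N] (hN : (N : K) ≠ 0)
    {ζ : K} (hζ : IsPrimitiveRoot ζ N) {f : κ → Module.End K V}
    (hc : ∀ j k, f j * f k = f k * f j) (hf : ∀ k, f k ^ N = 1) :
    ∑ c, finrank K (W N ζ f c) = finrank K V :=
  sum_eq_top (indep_W hN hζ hc hf) (iSup_W hN hζ hc hf)

theorem exists_root [IsAlgClosed K] {N : ℕ} [NeZero N] (hN : (N : K) ≠ 0) :
    ∃ ζ : K, IsPrimitiveRoot ζ N := by
  have : NeZero (N : K) := ⟨hN⟩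
  exact HasEnoughRootsOfUnity.exists_primitiveRoot K N

end W

/-! ### Representations -/

section Rep

variable {K : Type*} [Field K] {V : Type*} [AddCommGroup V] [Module K V]
  {G : Type*} [Group G] (σ : G →* Module.End K V)

/-- The fixed space of an element. -/
def Fix (g : G) : Submodule K V := (σ g).eigenspace 1

variable {σ}

theorem mem_Fix {g : G} {v : V} : v ∈ Fix σ g ↔ σ g v = v := by
  rw [Fix, Module.End.mem_eigenspace_iff, one_smul]

theorem injective (s : G) : Function.Injective (σ s) := by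
  intro v w h
  have h1 : σ s⁻¹ (σ s v) = σ s⁻¹ (σ s w) := by rw [h]
  rwa [← Module.End.mul_apply, ← Module.End.mul_apply, ← map_mul, inv_mul_cancel, map_one,
    Module.End.one_apply, Module.End.one_apply] at h1

theorem mul_apply' (g h : G) (v : V) : σ (g * h) v = σ g (σ h v) := by
  rw [map_mul, Module.End.mul_apply]

variable [FiniteDimensional K V]

theorem finrank_le_of_map (s : G) {U U' : Submodule K V} (h : ∀ v ∈ U, σ s v ∈ U') :
    finrank K U ≤ finrank K U' := by
  have h1 : U.map (σ s) ≤ U' := by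
    rintro _ ⟨v, hv, rfl⟩
    exact h v hv
  refine le_trans (le_of_eq ?_) (Submodule.finrank_mono h1)
  exact (Submodule.equivMapOfInjective (σ s) (injective s) _).finrank_eq

theorem finrank_Fix_le_conj (s g : G) : finrank K (Fix σ g) ≤ finrank K (Fix σ (s * g * s⁻¹)) := by
  refine finrank_le_of_map (σ := σ) s fun v hv => ?_
  rw [mem_Fix] at hv ⊢
  rw [← mul_apply', inv_mul_cancel_right, mul_apply', hv]

theorem finrank_Fix_conj (s g : G) : finrank K (Fix σ (s * g * s⁻¹)) = finrank K (Fix σ g) := by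
  refine le_antisymm ?_ (finrank_Fix_le_conj s g)
  have h := finrank_Fix_le_conj (σ := σ) s⁻¹ (s * g * s⁻¹)
  have h2 : s⁻¹ * (s * g * s⁻¹) * s⁻¹⁻¹ = g := by group
  rwa [h2] at h

theorem finrank_Fix_of_isConj {g h : G} (hc : IsConj g h) :
    finrank K (Fix σ g) = finrank K (Fix σ h) := by
  obtain ⟨s, rfl⟩ := isConj_iff.1 hc
  exact (finrank_Fix_conj s g).symm

omit [FiniteDimensional K V] in
theorem act_mul {g h : G} {v : V} {x y : K} (hg : σ g v = x • v) (hh : σ h v = y • v) :
    σ (g * h) v = (x * y) • v := by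
  rw [mul_apply', hh, map_smul, hg, smul_smul, mul_comm]

/-- a common fixed vector -/
theorem exists_fix_of_pos {U : Submodule K V} (h : 0 < finrank K U) : ∃ v ∈ U, v ≠ 0 := by
  have : Nontrivial U := Module.finrank_pos_iff.1 h
  obtain ⟨v, hv⟩ := exists_ne (0 : U)
  exact ⟨v, v.2, fun h0 => hv (Subtype.ext h0)⟩

/-- The stabilizer of a vector. -/
def stab (σ : G →* Module.End K V) (v : V) : Subgroup G where
  carrier := {g | σ g v = v}
  one_mem' := by simp
  mul_mem' := by
    intro a b ha hb
    change σ (a * b) v = v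
    rw [mul_apply', hb, ha]
  inv_mem' := by
    intro a ha
    change σ a⁻¹ v = v
    have h1 : σ a⁻¹ (σ a v) = v := by
      rw [← mul_apply', inv_mul_cancel, map_one, Module.End.one_apply]
    have ha' : σ a v = v := ha
    rwa [ha'] at h1

omit [FiniteDimensional K V] in
theorem mem_stab {v : V} {g : G} : g ∈ stab σ v ↔ σ g v = v := Iff.rfl

/-- dimension of the weight spaces under a normalizing element -/
theorem finrank_W_le {κ : Type*} {N : ℕ} {ζ : K} {x : κ → G} (s : G) {c c' : κ → ZMod N}
    (h : ∀ v ∈ W N ζ (fun k => σ (x k)) c, ∀ k, σ (s⁻¹ * x k * s) v = ζ ^ (c' k).val • v) :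
    finrank K (W N ζ (fun k => σ (x k)) c) ≤ finrank K (W N ζ (fun k => σ (x k)) c') := by
  refine finrank_le_of_map (σ := σ) s fun v hv => ?_
  rw [mem_W]
  intro k
  have h1 := h v hv k
  have h2 : σ (x k) (σ s v) = σ s (σ (s⁻¹ * x k * s) v) := by
    rw [← mul_apply', ← mul_apply']
    congr 2
    group
  rw [h2, h1, map_smul]

end Rep

/-! ### Base change -/

section Base

variable {F L : Type*} [Field F] [Field L] [Algebra F L] {n : ℕ} {G : Type*} [Group G]

open Matrix in
/-- A common fixed vector over an extension gives one over the ground field. -/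
theorem exists_fixed_of_extension (S : Set G) (ρ : G → Matrix (Fin n) (Fin n) F)
    {v : Fin n → L} (hv : v ≠ 0) (h : ∀ g ∈ S, (ρ g).map (algebraMap F L) *ᵥ v = v) :
    ∃ w : Fin n → F, w ≠ 0 ∧ ∀ g ∈ S, ρ g *ᵥ w = w := by
  obtain ⟨i, hi⟩ : ∃ i, v i ≠ 0 := by
    by_contra hno
    push Not at hno
    exact hv (funext hno)
  obtain ⟨φ, hφ⟩ : ∃ φ : Module.Dual F L, φ (v i) ≠ 0 := by
    by_contra hno
    push Not at hno
    exact hi ((Module.forall_dual_apply_eq_zero_iff F (v i)).1 hno)
  refine ⟨fun j => φ (v j), fun h0 => hφ (congrFun h0 i), fun g hg => ?_⟩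
  funext j
  have h1 := congrFun (h g hg) j
  rw [← h1]
  simp only [mulVec, dotProduct, map_apply]
  rw [map_sum]
  refine Finset.sum_congr rfl fun k _ => ?_
  rw [← Algebra.smul_def, map_smul, smul_eq_mul]

/-- the representation over the extension -/
noncomputable def ext (ρ : G →* GL (Fin n) F) (L : Type*) [Field L] [Algebra F L] :
    G →* Module.End L (Fin n → L) :=
  ((Matrix.toLinAlgEquiv' (R := L) (n := Fin n)).toAlgHom.toRingHom.toMonoidHom).comp
    ((((algebraMap F L).mapMatrix : Matrix (Fin n) (Fin n) F →+* Matrix (Fin n) (Fin n) L) :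
      Matrix (Fin n) (Fin n) F →* Matrix (Fin n) (Fin n) L).comp
      ((Units.coeHom (Matrix (Fin n) (Fin n) F)).comp ρ))

end Base

end Cfsg.Agent.H637.JW

private theorem dce_4fbdffcb3b21 : _root_.True := by
  try have : _root_.True := by simp only [_root_.Cfsg.Agent.H637.JW.W.eq_1]
  try have : _root_.True := by simp only [_root_.Cfsg.Agent.H637.JW.Fix.eq_1]
  exact _root_.True.intro
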