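import Mathlib
import Cfsg.Prelude.Def_GeometricClasses
import Cfsg.Agent.H637.JW
import Cfsg.Prelude.Def_Classical
import Cfsg.Agent.FastGrp
import Cfsg.Agent.Prune
set_option linter.all false

section
prune_inst 0x7ffcfdfdabbc39dfffff7e7fa6f6cffdfdb93fffe6fffdcbffe06bff2b9f7f828fc5fba78feb52fe1ff6e21410f87b53ffffeeffea6bdc7ffffd5ff41ffbee1ffffeb50c51dcacb41ffc6ffe93f0778e7f3fffffffffffffffffffffffffffbeffbfffffffff

-- part: H637/SevenA7
section
prune_inst 0x300001000c400000000000908100002068000000000000000840080408000400000080000810000000029c8000000000011000100020000000000400011c0000108212001100a000000006000000000000000000000000000000000000000000000000000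
set_option linter.all false
open scoped Cfsg.Agent.FastGrp

/-!
# The alternating group of degree 7 in dimension 7

Every 7-dimensional representation of `A₇` over an algebraically closed field has a non-zero fixed vector.
-/

set_option autoImplicit false
set_option linter.unusedSectionVars false

namespace Cfsg.Agent.H637.SevenA7

open Module Equiv Equiv.Perm Cfsg.Agent.H637.JW

/-- Generation of the alternating group of degree 7. -/
theorem eq_top_of (S : Subgroup (alternatingGroup (Fin 7))) (c d : alternatingGroup (Fin 7))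
    (hc : c ∈ S) (hd : d ∈ S) (hct : ∀ i j : Fin 7, ∃ k : Fin 7, ((c : Perm (Fin 7)) ^ (k : ℕ)) i = j)
    (hdt : (d : Perm (Fin 7)).IsThreeCycle) : S = ⊤ := by
  have h1 : alternatingGroup (Fin 7) ≤ S.map (alternatingGroup (Fin 7)).subtype := by
    have htr : MulAction.IsPretransitive (S.map (alternatingGroup (Fin 7)).subtype) (Fin 7) := by
      refine ⟨fun i j => ?_⟩
      obtain ⟨k, hk⟩ := hct i j
      exact ⟨⟨(c : Perm (Fin 7)) ^ (k : ℕ), ⟨c ^ (k : ℕ), pow_mem hc _, rfl⟩⟩, hk⟩
    refine alternatingGroup_le_of_isPreprimitive_of_isThreeCycle_mem ?_ hdt ⟨d, hd, rfl⟩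
    exact MulAction.IsPreprimitive.of_prime_card (by rw [Nat.card_eq_fintype_card, Fintype.card_fin]; norm_num)
  rw [eq_top_iff]
  intro g _
  obtain ⟨s, hs, hsg⟩ := h1 g.2
  have : s = g := Subtype.ext hsg
  rwa [← this]

def mk (p : Perm (Fin 7)) (h : sign p = 1 := by decide) : alternatingGroup (Fin 7) :=
  ⟨p, mem_alternatingGroup.2 h⟩

/-- the 3-cycle (0 1 2) -/
def a : alternatingGroup (Fin 7) := mk (swap (0 : Fin 7) 1 * swap (1 : Fin 7) 2)
/-- the 3-cycle (3 4 5) -/
def b : alternatingGroup (Fin 7) := mk (swap (3 : Fin 7) 4 * swap (4 : Fin 7) 5)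
/-- an element of order 4 normalising `⟨a, b⟩` -/
def g : alternatingGroup (Fin 7) := mk (swap (0 : Fin 7) 3 * swap (1 : Fin 7) 5 * swap (5 : Fin 7) 2 * swap (2 : Fin 7) 4)

theorem g_a : g⁻¹ * a * g = b := by decide
theorem g_b : g⁻¹ * b * g = a * a := by decide
theorem a_pow : a ^ 3 = 1 := by decide
theorem b_pow : b ^ 3 = 1 := by decide
theorem ab_comm : a * b = b * a := by decide

variable {K : Type*} [Field K] [IsAlgClosed K] {V : Type*} [AddCommGroup V] [Module K V]
  [FiniteDimensional K V]

theorem dim_fix_three (σ : alternatingGroup (Fin 7) →* Module.End K V) (h3 : (3 : K) ≠ 0)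
    (hV : finrank K V = 7) : 5 ≤ finrank K (Fix σ a) ∨ 5 ≤ finrank K (Fix σ (a * b)) := by
  obtain ⟨ζ, hζ⟩ := exists_root (K := K) (N := 3) (by exact_mod_cast h3)
  have h3' : ((3 : ℕ) : K) ≠ 0 := by exact_mod_cast h3
  let x : Fin 2 → alternatingGroup (Fin 7) := ![a, b]
  have hc : ∀ j k, σ (x j) * σ (x k) = σ (x k) * σ (x j) := by
    intro j k
    rw [← map_mul, ← map_mul]
    congr 1
    (revert j k; decide +kernel)
  have hf : ∀ k, σ (x k) ^ 3 = 1 := by
    intro k
    rw [← map_pow]
    have : x k ^ 3 = 1 := by (revert k; decide +kernel)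
    rw [this, map_one]
  have hind := indep_W h3' hζ (f := fun k => σ (x k)) hc hf
  have hsum := sum_W h3' hζ (f := fun k => σ (x k)) hc hf
  set D : ZMod 3 → ZMod 3 → ℕ := fun i j => finrank K (W 3 ζ (fun k => σ (x k)) ![i, j]) with hD
  have hζ3 := hζ.pow_eq_one
  have hDle : ∀ i j, D i j ≤ D j (i + i) := by
    intro i j
    refine finrank_W_le g fun v hv k => ?_
    rw [mem_W] at hv
    have ha : σ a v = ζ ^ i.val • v := hv 0
    have hb : σ b v = ζ ^ j.val • v := hv 1
    fin_cases k
    · change σ (g⁻¹ * a * g) v = ζ ^ j.val • v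
      rw [g_a, hb]
    · change σ (g⁻¹ * b * g) v = ζ ^ (i + i).val • v
      rw [g_b, act_mul ha ha, pow_val_add hζ3]
  have hs : ∑ i : Fin 3, ∑ j : Fin 3, D i j = 7 := by
    rw [← hV, ← hsum]
    rw [← (piFinTwoEquiv (fun _ => ZMod 3)).symm.sum_comp, Fintype.sum_prod_type]
    rfl
  have hs' : D 0 0 + D 0 1 + D 0 2 + (D 1 0 + D 1 1 + D 1 2) + (D 2 0 + D 2 1 + D 2 2) = 7 := by
    rw [Fin.sum_univ_three, Fin.sum_univ_three, Fin.sum_univ_three, Fin.sum_univ_three] at hs
    exact hs
  have hA : ∑ j : ZMod 3, D 0 j ≤ finrank K (Fix σ a) := by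
    refine sum_le_of_inj hind (fun j : ZMod 3 => ![0, j]) (fun j k h => congrFun h 1) _ fun j => ?_
    intro v hv
    rw [mem_W] at hv
    rw [mem_Fix]
    have := hv 0
    change σ a v = ζ ^ (0 : ZMod 3).val • v at this
    rw [this, ZMod.val_zero, pow_zero, one_smul]
  have hB : ∑ j : ZMod 3, D (-j) j ≤ finrank K (Fix σ (a * b)) := by
    refine sum_le_of_inj hind (fun j : ZMod 3 => ![-j, j]) (fun j k h => congrFun h 1) _ fun j => ?_
    intro v hv
    rw [mem_W] at hv
    rw [mem_Fix]
    have h1 : σ a v = ζ ^ (-j).val • v := hv 0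
    have h2 : σ b v = ζ ^ j.val • v := hv 1
    rw [act_mul h1 h2, ← pow_val_add hζ3, neg_add_cancel, ZMod.val_zero, pow_zero, one_smul]
  have hA' : D 0 0 + D 0 1 + D 0 2 ≤ finrank K (Fix σ a) := by
    refine le_trans (le_of_eq ?_) hA
    exact (Fin.sum_univ_three (fun j : Fin 3 => D 0 j)).symm
  have hB' : D 0 0 + D 2 1 + D 1 2 ≤ finrank K (Fix σ (a * b)) := by
    refine le_trans (le_of_eq ?_) hB
    exact (Fin.sum_univ_three (fun j : Fin 3 => D (-(j : ZMod 3)) j)).symm
  have e1 : D 1 0 ≤ D 0 2 := hDle 1 0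
  have e2 : D 0 2 ≤ D 2 0 := hDle 0 2
  have e3 : D 2 0 ≤ D 0 1 := hDle 2 0
  have e4 : D 0 1 ≤ D 1 0 := hDle 0 1
  have f1 : D 1 1 ≤ D 1 2 := hDle 1 1
  have f2 : D 1 2 ≤ D 2 2 := hDle 1 2
  have f3 : D 2 2 ≤ D 2 1 := hDle 2 2
  have f4 : D 2 1 ≤ D 1 1 := hDle 2 1
  clear_value D
  (clear * - hs' hA' hB' e1 e2 e3 e4 f1 f2 f3 f4; omega)

/-! ### Characteristic 3 -/

/-- the double transposition (0 1)(2 3) -/
def s : alternatingGroup (Fin 7) := mk (swap (0 : Fin 7) 1 * swap (2 : Fin 7) 3)
/-- the double transposition (0 2)(1 3) -/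
def t : alternatingGroup (Fin 7) := mk (swap (0 : Fin 7) 2 * swap (1 : Fin 7) 3)
/-- the 3-cycle (4 5 6) -/
def c : alternatingGroup (Fin 7) := mk (swap (4 : Fin 7) 5 * swap (5 : Fin 7) 6)

theorem a_s : a⁻¹ * s * a = t := by decide
theorem a_t : a⁻¹ * t * a = s * t := by decide
/-- `(c - 1)³ = 0` in characteristic 3 -/
theorem exists_fix_of_three (h3 : (3 : K) = 0) {U : Type*} [AddCommGroup U] [Module K U]
    [Nontrivial U] (f : Module.End K U) (hf : f ^ 3 = 1) : ∃ v : U, v ≠ 0 ∧ f v = v := by
  have h1 : (f - 1) ^ 3 = 0 := by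
    have : (f - 1) ^ 3 = f ^ 3 - 1 - (3 : K) • (f ^ 2 - f) := by
      have h4 : (3 : K) • (f ^ 2 - f) = (3 : ℕ) • (f ^ 2 - f) := by
        rw [← Nat.cast_smul_eq_nsmul K]; norm_num
      rw [h4]
      have h5 : Commute f 1 := Commute.one_right f
      simp only [pow_succ, pow_zero, one_mul, sub_mul, mul_sub, mul_one]
      abel
    rw [this, hf, h3, zero_smul, sub_self, sub_zero]
  by_contra hno
  push Not at hno
  have hinj : Function.Injective (f - 1 : Module.End K U) := by
    rw [← LinearMap.ker_eq_bot, LinearMap.ker_eq_bot']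
    intro v hv
    by_contra h0
    apply hno v h0
    rw [LinearMap.sub_apply, Module.End.one_apply, sub_eq_zero] at hv
    exact hv
  obtain ⟨v, hv⟩ := exists_ne (0 : U)
  apply hv
  have h2 : ((f - 1) ^ 3 : Module.End K U) v = ((f - 1) ^ 3 : Module.End K U) 0 := by rw [h1]; rfl
  have h3 : Function.Injective ((f - 1) ^ 3 : Module.End K U) := by
    rw [Module.End.coe_pow]
    exact hinj.iterate 3
  exact h3 h2


theorem dim_fix_char_three (σ : alternatingGroup (Fin 7) →* Module.End K V) (h3 : (3 : K) = 0)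
    (hV : finrank K V = 7) : 5 ≤ finrank K (Fix σ s) := by
  have h2 : ((2 : ℕ) : K) ≠ 0 := by
    intro h0
    have h1 : (1 : K) = 3 - (2 : ℕ) := by norm_num
    rw [h3, h0, sub_zero] at h1
    exact one_ne_zero h1
  have h2' : (2 : K) ≠ 0 := by exact_mod_cast h2
  have hζ : IsPrimitiveRoot (-1 : K) 2 := by
    refine IsPrimitiveRoot.mk_of_lt _ (by norm_num) (by norm_num) fun l hl hl2 => ?_
    have : l = 1 := by omega
    rw [this, pow_one]
    intro h0
    apply h2'
    linear_combination -h0
  let x : Fin 2 → alternatingGroup (Fin 7) := ![s, t]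
  have hc : ∀ j k, σ (x j) * σ (x k) = σ (x k) * σ (x j) := by
    intro j k
    rw [← map_mul, ← map_mul]
    congr 1
    (revert j k; decide +kernel)
  have hf : ∀ k, σ (x k) ^ 2 = 1 := by
    intro k
    rw [← map_pow]
    have : x k ^ 2 = 1 := by fin_cases k <;> decide
    rw [this, map_one]
  have hind := indep_W h2 hζ (f := fun k => σ (x k)) hc hf
  have hsum := sum_W h2 hζ (f := fun k => σ (x k)) hc hf
  have hζ2 := hζ.pow_eq_one
  set D : ZMod 2 → ZMod 2 → ℕ := fun i j => finrank K (W 2 (-1) (fun k => σ (x k)) ![i, j]) with hD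
  have hs : ∑ i : Fin 2, ∑ j : Fin 2, D i j = 7 := by
    rw [← hV, ← hsum]
    rw [← (piFinTwoEquiv (fun _ => ZMod 2)).symm.sum_comp, Fintype.sum_prod_type]
    rfl
  have hs' : D 0 0 + D 0 1 + (D 1 0 + D 1 1) = 7 := by
    rw [Fin.sum_univ_two, Fin.sum_univ_two, Fin.sum_univ_two] at hs
    exact hs
  have hmap : ∀ i j : ZMod 2, ∀ v ∈ W 2 (-1) (fun k => σ (x k)) ![i, j],
      σ a v ∈ W 2 (-1) (fun k => σ (x k)) ![j, i + j] := by
    intro i j v hv
    rw [mem_W] at hv ⊢
    have ha : σ s v = (-1 : K) ^ i.val • v := hv 0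
    have hb : σ t v = (-1 : K) ^ j.val • v := hv 1
    intro k
    fin_cases k
    · change σ s (σ a v) = (-1 : K) ^ j.val • σ a v
      have h1 : s * a = a * t := by rw [← a_s]; group
      rw [← mul_apply', h1, mul_apply', hb, map_smul]
    · change σ t (σ a v) = (-1 : K) ^ (i + j).val • σ a v
      have h1 : t * a = a * (s * t) := by rw [← a_t]; group
      rw [← mul_apply', h1, mul_apply', act_mul ha hb, map_smul, pow_val_add hζ2]
  have hDle : ∀ i j, D i j ≤ D j (i + j) := fun i j => finrank_le_of_map (σ := σ) a (hmap i j)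
  have e1 : D 1 0 ≤ D 0 1 := hDle 1 0
  have e2 : D 0 1 ≤ D 1 1 := hDle 0 1
  have e3 : D 1 1 ≤ D 1 0 := hDle 1 1
  -- the fixed space of `s`
  have hA : D 0 0 + D 0 1 ≤ finrank K (Fix σ s) := by
    have h1 : ∑ j : ZMod 2, D 0 j ≤ finrank K (Fix σ s) := by
      refine sum_le_of_inj hind (fun j : ZMod 2 => ![0, j]) (fun j k h => congrFun h 1) _ fun j => ?_
      intro v hv
      rw [mem_W] at hv
      rw [mem_Fix]
      have := hv 0
      change σ s v = (-1) ^ (0 : ZMod 2).val • v at this
      rw [this, ZMod.val_zero, pow_zero, one_smul]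
    refine le_trans (le_of_eq ?_) h1
    exact (Fin.sum_univ_two (fun j : Fin 2 => D 0 j)).symm
  by_cases hm : D 1 0 ≤ 1
  · clear_value D
    omega
  exfalso
  have hm2 : D 1 0 = 2 ∧ D 0 1 = 2 ∧ D 1 1 = 2 ∧ D 0 0 = 1 := by
    clear_value D
    omega
  obtain ⟨m10, m01, m11, m00⟩ := hm2
  -- the fixed space of `c` has dimension at least 4
  have hcinv : ∀ i : Fin 2 → ZMod 2, ∀ v ∈ W 2 (-1) (fun k => σ (x k)) i,
      σ c v ∈ W 2 (-1) (fun k => σ (x k)) i := by
    intro i v hv
    rw [mem_W] at hv ⊢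
    intro k
    have h1 : x k * c = c * x k := by (revert k; decide +kernel)
    rw [← mul_apply', h1, mul_apply', hv k, map_smul]
  have hcfix : ∀ i : Fin 2 → ZMod 2, 0 < finrank K (W 2 (-1) (fun k => σ (x k)) i) →
      1 ≤ finrank K (W 2 (-1) (fun k => σ (x k)) i ⊓ _root_.Cfsg.Agent.H637.JW.Fix σ c : Submodule K V) := by
    intro i hi
    have hnt : Nontrivial (W 2 (-1) (fun k => σ (x k)) i) := Module.finrank_pos_iff.1 hi
    obtain ⟨v, hv0, hv⟩ := exists_fix_of_three h3 ((σ c).restrict (hcinv i)) (by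
      ext v
      rw [Module.End.pow_restrict _ (hcinv i)]
      simp only [LinearMap.coe_restrict_apply, Module.End.one_apply]
      rw [← map_pow, show c ^ 3 = 1 by decide, map_one, Module.End.one_apply])
    rw [Nat.one_le_iff_ne_zero, ← Nat.pos_iff_ne_zero, Module.finrank_pos_iff]
    refine ⟨⟨⟨v, v.2, ?_⟩, 0, ?_⟩⟩
    · exact mem_Fix.2 (congrArg Subtype.val hv)
    · intro h0
      exact hv0 (Subtype.ext (congrArg (fun u : (W 2 (-1) (fun k => σ (x k)) i ⊓ _root_.Cfsg.Agent.H637.JW.Fix σ c : Submodule K V) => (u : V)) h0))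
  have hc4 : 4 ≤ finrank K (Fix σ c) := by
    have hind2 : iSupIndep (fun i => (W 2 (-1) (fun k => σ (x k)) i ⊓ _root_.Cfsg.Agent.H637.JW.Fix σ c : Submodule K V)) :=
      hind.mono fun i => inf_le_left
    have h1 := sum_le_of_inj hind2 (fun p : ZMod 2 × ZMod 2 => ![p.1, p.2]) (fun p q h =>
      Prod.ext (congrFun h 0) (congrFun h 1)) (_root_.Cfsg.Agent.H637.JW.Fix σ c) (fun i => inf_le_right)
    refine le_trans ?_ h1
    have h4 : (4 : ℕ) = ∑ _p : ZMod 2 × ZMod 2, 1 := by simp
    rw [h4]
    refine Finset.sum_le_sum fun p _ => hcfix _ ?_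
    have : ∀ i j : ZMod 2, 0 < D i j := by
      intro i j
      fin_cases i <;> fin_cases j
      · change 0 < D 0 0; rw [m00]; norm_num
      · change 0 < D 0 1; rw [m01]; norm_num
      · change 0 < D 1 0; rw [m10]; norm_num
      · change 0 < D 1 1; rw [m11]; norm_num
    exact this p.1 p.2
  -- the fixed space of `a` has dimension at most 3
  have ha3 : finrank K (Fix σ a) ≤ 3 := by
    set U := W 2 (-1) (fun k => σ (x k)) ![0, 1] ⊔ W 2 (-1) (fun k => σ (x k)) ![1, 1] with hU
    have hU4 : 4 ≤ finrank K U := by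
      have h1 := sum_le_of_inj hind (fun i : ZMod 2 => ![i, 1]) (fun i j h => congrFun h 0) U (by
        intro i
        fin_cases i
        · exact le_sup_left
        · exact le_sup_right)
      have h2 : ∑ i : ZMod 2, finrank K (W 2 (-1) (fun k => σ (x k)) ![i, 1]) = D 0 1 + D 1 1 :=
        Fin.sum_univ_two (fun i : Fin 2 => D i 1)
      rw [h2, m01, m11] at h1
      exact h1
    have hdis : _root_.Cfsg.Agent.H637.JW.Fix σ a ⊓ U = ⊥ := by
      rw [eq_bot_iff]
      rintro v ⟨hv1, hv2⟩
      rw [SetLike.mem_coe, mem_Fix] at hv1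
      obtain ⟨y, hy, z, hz, rfl⟩ := Submodule.mem_sup.1 hv2
      have hy' := hmap 0 1 y hy
      have hz' := hmap 1 1 z hz
      rw [map_add] at hv1
      rw [mem_W] at hy hz hy' hz'
      have y0 : σ s y = y := by
        have h1 : σ s y = (-1 : K) ^ (0 : ZMod 2).val • y := hy 0
        rwa [ZMod.val_zero, pow_zero, one_smul] at h1
      have y1 : σ t y = -y := by
        have h1 : σ t y = (-1 : K) ^ (1 : ZMod 2).val • y := hy 1
        rwa [ZMod.val_one, pow_one, neg_one_smul] at h1
      have z0 : σ s z = -z := by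
        have h1 : σ s z = (-1 : K) ^ (1 : ZMod 2).val • z := hz 0
        rwa [ZMod.val_one, pow_one, neg_one_smul] at h1
      have z1 : σ t z = -z := by
        have h1 : σ t z = (-1 : K) ^ (1 : ZMod 2).val • z := hz 1
        rwa [ZMod.val_one, pow_one, neg_one_smul] at h1
      have ay0 : σ s (σ a y) = -σ a y := by
        have h1 : σ s (σ a y) = (-1 : K) ^ (1 : ZMod 2).val • σ a y := hy' 0
        rwa [ZMod.val_one, pow_one, neg_one_smul] at h1
      have ay1 : σ t (σ a y) = -σ a y := by
        have h1 : σ t (σ a y) = (-1 : K) ^ (1 : ZMod 2).val • σ a y := hy' 1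
        rwa [ZMod.val_one, pow_one, neg_one_smul] at h1
      have az0 : σ s (σ a z) = -σ a z := by
        have h1 : σ s (σ a z) = (-1 : K) ^ (1 : ZMod 2).val • σ a z := hz' 0
        rwa [ZMod.val_one, pow_one, neg_one_smul] at h1
      have az1 : σ t (σ a z) = σ a z := by
        have h1 : σ t (σ a z) = (-1 : K) ^ (0 : ZMod 2).val • σ a z := hz' 1
        rwa [ZMod.val_zero, pow_zero, one_smul] at h1
      have hs1 := congrArg (σ s) hv1
      rw [map_add, map_add, ay0, az0, y0, z0] at hs1
      have ht1 := congrArg (σ t) hv1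
      rw [map_add, map_add, ay1, az1, y1, z1] at ht1
      -- `y = 0`
      have hy0 : y = 0 := by
        have h1 : (2 : K) • y = 0 := by
          rw [two_smul]
          have : y + y = (σ a y + σ a z) + (-σ a y + -σ a z) := by rw [hv1, hs1]; abel
          rw [this]; abel
        exact (smul_eq_zero.1 h1).resolve_left h2'
      have hz0 : z = 0 := by
        rw [hy0, map_zero, zero_add, zero_add] at hv1
        rw [hy0, map_zero, neg_zero, zero_add, zero_add] at ht1
        have h1 : (2 : K) • z = 0 := by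
          rw [two_smul]
          nth_rewrite 1 [← hv1]
          rw [ht1, neg_add_cancel]
        exact (smul_eq_zero.1 h1).resolve_left h2'
      rw [hy0, hz0, add_zero]
      exact Submodule.zero_mem _
    have h1 := add_le_inf (_root_.Cfsg.Agent.H637.JW.Fix σ a) U
    rw [hdis, finrank_bot, hV] at h1
    omega
  have hconj : IsConj a c := by
    refine alternatingGroup.isThreeCycle_isConj (by rw [Nat.card_eq_fintype_card, Fintype.card_fin]; norm_num) ?_ ?_
    · exact card_support_eq_three_iff.1 (by decide)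
    · exact card_support_eq_three_iff.1 (by decide)
  have := finrank_Fix_of_isConj (σ := σ) hconj
  omega


theorem exists_fixed_three {G : Type*} [Group G] {σ : G →* Module.End K V} {x y z : G}
    (hx : 5 ≤ finrank K (Fix σ x)) (hy : 5 ≤ finrank K (Fix σ y)) (hz : 5 ≤ finrank K (Fix σ z))
    (hV : finrank K V = 7) (hgen : ∀ S : Subgroup G, x ∈ S → y ∈ S → z ∈ S → S = ⊤) :
    ∃ v : V, v ≠ 0 ∧ ∀ g, σ g v = v := by
  have h1 := add_le_inf (_root_.Cfsg.Agent.H637.JW.Fix σ x) (_root_.Cfsg.Agent.H637.JW.Fix σ y)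
  have h2 := add_le_inf (_root_.Cfsg.Agent.H637.JW.Fix σ x ⊓ _root_.Cfsg.Agent.H637.JW.Fix σ y) (_root_.Cfsg.Agent.H637.JW.Fix σ z)
  obtain ⟨v, hv, hv0⟩ := exists_fix_of_pos (U := _root_.Cfsg.Agent.H637.JW.Fix σ x ⊓ _root_.Cfsg.Agent.H637.JW.Fix σ y ⊓ _root_.Cfsg.Agent.H637.JW.Fix σ z) (by omega)
  obtain ⟨⟨hvx, hvy⟩, hvz⟩ := hv
  have h3 := hgen (stab σ v) (mem_Fix.1 hvx) (mem_Fix.1 hvy) (mem_Fix.1 hvz)
  refine ⟨v, hv0, fun g => ?_⟩
  have : g ∈ stab σ v := by rw [h3]; trivial
  exact this

set_option maxRecDepth 20000 in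
/-- **Every 7-dimensional representation of `A₇` over an algebraically closed field has a non-zero
fixed vector.** -/
theorem exists_fixed (σ : alternatingGroup (Fin 7) →* Module.End K V) (hV : finrank K V = 7) :
    ∃ v : V, v ≠ 0 ∧ ∀ g, σ g v = v := by
  by_cases h3 : (3 : K) = 0
  · have hs := dim_fix_char_three σ h3 hV
    let y : alternatingGroup (Fin 7) := mk (swap (0 : Fin 7) 4 * swap (3 : Fin 7) 6)
    let z : alternatingGroup (Fin 7) := mk (swap (3 : Fin 7) 5 * swap (4 : Fin 7) 6)
    have hy : mk (swap (1 : Fin 7) 4 * swap (2 : Fin 7) 3 * swap (3 : Fin 7) 6 * swap (6 : Fin 7) 5) * s *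
      (mk (swap (1 : Fin 7) 4 * swap (2 : Fin 7) 3 * swap (3 : Fin 7) 6 * swap (6 : Fin 7) 5))⁻¹ = y := by decide
    have hz : mk (swap (0 : Fin 7) 3 * swap (3 : Fin 7) 6 * swap (6 : Fin 7) 1 * swap (1 : Fin 7) 5 * swap (5 : Fin 7) 2 * swap (2 : Fin 7) 4) * s *
      (mk (swap (0 : Fin 7) 3 * swap (3 : Fin 7) 6 * swap (6 : Fin 7) 1 * swap (1 : Fin 7) 5 * swap (5 : Fin 7) 2 * swap (2 : Fin 7) 4))⁻¹ = z := by decide
    refine exists_fixed_three (x := s) (y := y) (z := z) hs (by rw [← hy, finrank_Fix_conj]; exact hs)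
      (by rw [← hz, finrank_Fix_conj]; exact hs) hV fun S h1 h2 h3 => ?_
    refine eq_top_of S (s * y * z) (s * z * s * z) (mul_mem (mul_mem h1 h2) h3)
      (mul_mem (mul_mem (mul_mem h1 h3) h1) h3) (by decide +kernel) (card_support_eq_three_iff.1 (by decide))
  · rcases dim_fix_three σ h3 hV with ha | ha
    · let y : alternatingGroup (Fin 7) := mk (swap (2 : Fin 7) 3 * swap (3 : Fin 7) 4)
      let z : alternatingGroup (Fin 7) := mk (swap (4 : Fin 7) 5 * swap (5 : Fin 7) 6)
      have hy : mk (swap (0 : Fin 7) 2 * swap (2 : Fin 7) 4 * swap (4 : Fin 7) 1 * swap (1 : Fin 7) 3) * a *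
        (mk (swap (0 : Fin 7) 2 * swap (2 : Fin 7) 4 * swap (4 : Fin 7) 1 * swap (1 : Fin 7) 3))⁻¹ = y := by decide
      have hz : mk (swap (0 : Fin 7) 4 * swap (4 : Fin 7) 1 * swap (1 : Fin 7) 5 * swap (5 : Fin 7) 2 * swap (2 : Fin 7) 6 * swap (6 : Fin 7) 3) * a *
        (mk (swap (0 : Fin 7) 4 * swap (4 : Fin 7) 1 * swap (1 : Fin 7) 5 * swap (5 : Fin 7) 2 * swap (2 : Fin 7) 6 * swap (6 : Fin 7) 3))⁻¹ = z := by decide
      refine exists_fixed_three (x := a) (y := y) (z := z) ha (by rw [← hy, finrank_Fix_conj]; exact ha)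
        (by rw [← hz, finrank_Fix_conj]; exact ha) hV fun S h1 h2 h3 => ?_
      exact eq_top_of S (a * y * z) a (mul_mem (mul_mem h1 h2) h3) h1 (by decide +kernel)
        (card_support_eq_three_iff.1 (by decide))
    · let y : alternatingGroup (Fin 7) := mk (swap (1 : Fin 7) 2 * swap (2 : Fin 7) 3 * swap (4 : Fin 7) 5 * swap (5 : Fin 7) 6)
      have hy : mk (swap (0 : Fin 7) 1 * swap (1 : Fin 7) 2 * swap (2 : Fin 7) 3 * swap (3 : Fin 7) 4 * swap (4 : Fin 7) 5 * swap (5 : Fin 7) 6) * (a * b) *
        (mk (swap (0 : Fin 7) 1 * swap (1 : Fin 7) 2 * swap (2 : Fin 7) 3 * swap (3 : Fin 7) 4 * swap (4 : Fin 7) 5 * swap (5 : Fin 7) 6))⁻¹ = y := by decide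
      have hy5 : 5 ≤ finrank K (Fix σ y) := by rw [← hy, finrank_Fix_conj]; exact ha
      refine exists_fixed_three (x := a * b) (y := y) (z := y) ha hy5 hy5 hV fun S h1 h2 _ => ?_
      refine eq_top_of S (a * b * (a * b) * y * (a * b) * y * y) (a * b * y * (a * b) * y)
        (mul_mem (mul_mem (mul_mem (mul_mem (mul_mem h1 h1) h2) h1) h2) h2)
        (mul_mem (mul_mem (mul_mem h1 h2) h1) h2) (by decide +kernel) (card_support_eq_three_iff.1 (by decide))

open Matrix in
/-- The matrix version, over an arbitrary field. -/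
theorem exists_fixed_matrix {F : Type*} [Field F]
    (ρ : alternatingGroup (Fin 7) →* Matrix.GeneralLinearGroup (Fin 7) F) :
    ∃ w : Fin 7 → F, w ≠ 0 ∧ ∀ g, (ρ g : Matrix (Fin 7) (Fin 7) F) *ᵥ w = w := by
  obtain ⟨v, hv, hfix⟩ := exists_fixed (K := AlgebraicClosure F)
    (V := Fin 7 → AlgebraicClosure F) (_root_.Cfsg.Agent.H637.JW.ext ρ (AlgebraicClosure F)) (by simp)
  obtain ⟨w, hw, hwf⟩ := exists_fixed_of_extension (F := F) (L := AlgebraicClosure F) Set.univ
    (fun g => (ρ g : Matrix (Fin 7) (Fin 7) F)) hv (fun g _ => hfix g)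
  exact ⟨w, hw, fun g => hwf g (Set.mem_univ g)⟩

open Matrix in
/-- An irreducible set of matrices in dimension at least 2 has no fixed vector. -/
theorem false_of_fixed {F : Type*} [Field F] {n : ℕ} (hn : 2 ≤ n) {G : Type*} [Group G]
    (ρ : G →* Matrix.GeneralLinearGroup (Fin n) F)
    (hirr : Cfsg.Geo.ActsIrreducibly (Cfsg.Geo.matrixSet ρ.range)) {w : Fin n → F} (hw : w ≠ 0)
    (hfix : ∀ g, (ρ g : Matrix (Fin n) (Fin n) F) *ᵥ w = w) : False := by
  rcases hirr (Submodule.span F {w}) (by
    rintro _ ⟨_, ⟨g, rfl⟩, rfl⟩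
    rw [Submodule.map_span_le]
    intro m hm
    rw [Set.mem_singleton_iff] at hm
    subst hm
    rw [Matrix.toLin'_apply, hfix]
    exact Submodule.mem_span_singleton_self _) with h | h
  · rw [Submodule.span_singleton_eq_bot] at h
    exact hw h
  · have h1 : finrank F (Submodule.span F {w}) = n := by
      rw [h, finrank_top, Module.finrank_fin_fun]
    have h2 := finrank_span_singleton (K := F) hw
    omega

/-- `A₇` has no absolutely irreducible module of dimension 7 in any characteristic. -/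
theorem seven_A7 {F : Type*} [Field F] [Finite F]
    (ρ : alternatingGroup (Fin 7) →* Matrix.GeneralLinearGroup (Fin 7) F)
    (habs : Cfsg.Geo.ActsAbsolutelyIrreducibly (Cfsg.Geo.matrixSet ρ.range)) : False := by
  obtain ⟨w, hw, hfix⟩ := exists_fixed_matrix ρ
  exact false_of_fixed (by norm_num) ρ habs.1 hw hfix

end Cfsg.Agent.H637.SevenA7
end

-- part: H879/TL/SpBlk
section
prune_inst 0x40106000000000059001000004000001000000000008000000000002020040000000000400008880000000000000000000000000000000000000000000000002000100a000200010000000000000000000000000000000000000000004000000000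
set_option linter.all false
open scoped Cfsg.Agent.FastGrp

-- part: H879/TL/Base
section
/-!
# Sign frames in groups acting on small spaces of odd characteristic (helper879)

A *frame* `Fr ι G` is a family `e i j` (`i j : ι`) of elements of `G` with `e i j * e j k = e i k`, `e i j = e j i`
("change the signs of the coordinates `i` and `j`"). `Sym F` : every even permutation of `ι` is induced by conjugation.
If `G` acts on a space of dimension at most `9` over an algebraically closed field of characteristic `≠ 2` and `ι = Fin 5`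
then the space is the sum of the fixed space of the frame and of five isomorphic weight spaces `U (some i)`, of dimension
at most one, such that `e j k` is `-1` on `U (some i)` iff exactly one of `j`, `k` is `i`.
-/

set_option autoImplicit false
set_option linter.unusedSectionVars false

namespace Cfsg.Agent.H879.TL

open Module Equiv Equiv.Perm Cfsg.Agent.H637.JW

/-- A family of sign changes. -/
structure Fr (ι : Type*) (G : Type*) [Group G] where
  e : ι → ι → G
  mul : ∀ i j k, e i j * e j k = e i k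
  symm : ∀ i j, e i j = e j i

namespace Fr

variable {ι κ G H : Type*} [Group G] [Group H] (f : Fr ι G)

theorem self (i : ι) : f.e i i = 1 := by
  have h := f.mul i i i
  exact mul_eq_left.1 h

theorem sq (i j : ι) : f.e i j * f.e i j = 1 := by
  have h := f.mul i j i
  rwa [f.symm j i, f.self] at h

theorem comm (i j k l : ι) : f.e i j * f.e k l = f.e k l * f.e i j := by
  have key : ∀ a b, f.e i a * f.e i b = f.e i b * f.e i a := by
    intro a b
    rw [f.symm i a, f.mul, f.symm a i, f.symm i b, f.mul, f.symm]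
  have h1 : ∀ a b, f.e a b = f.e i a * f.e i b := by
    intro a b
    rw [f.symm i a, f.mul]
  rw [h1 i j, h1 k l, f.self, one_mul, ← mul_assoc, key j k, mul_assoc, key j l, ← mul_assoc]

/-- restriction to coordinates -/
def comap (a : κ → ι) : Fr κ G where
  e i j := f.e (a i) (a j)
  mul _ _ _ := f.mul _ _ _
  symm _ _ := f.symm _ _

/-- image under a homomorphism -/
def map (φ : G →* H) : Fr ι H where
  e i j := φ (f.e i j)
  mul _ _ _ := by rw [← map_mul, f.mul]
  symm _ _ := by rw [f.symm]

/-- Even permutations of the coordinates are induced by conjugation. -/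
def Sym [Fintype ι] [DecidableEq ι] : Prop :=
  ∀ π : Perm ι, sign π = 1 → ∃ s : G, ∀ i j, s * f.e i j * s⁻¹ = f.e (π i) (π j)

theorem Sym.map [Fintype ι] [DecidableEq ι] {f : Fr ι G} (h : f.Sym) (φ : G →* H) : (f.map φ).Sym := by
  intro π hπ
  obtain ⟨s, hs⟩ := h π hπ
  refine ⟨φ s, fun i j => ?_⟩
  change φ s * φ (f.e i j) * (φ s)⁻¹ = φ (f.e (π i) (π j))
  rw [← hs, map_mul, map_mul, map_inv]

theorem Sym.comap [Fintype ι] [DecidableEq ι] [Fintype κ] [DecidableEq κ] {f : Fr ι G} (h : f.Sym) (a : κ ↪ ι) :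
    (f.comap a).Sym := by
  intro π hπ
  obtain ⟨s, hs⟩ := h (π.viaFintypeEmbedding a) (by rw [Perm.viaFintypeEmbedding_sign, hπ])
  refine ⟨s, fun i j => ?_⟩
  change s * f.e (a i) (a j) * s⁻¹ = f.e (a (π i)) (a (π j))
  rw [hs, Perm.viaFintypeEmbedding_apply_image, Perm.viaFintypeEmbedding_apply_image]

end Fr

/-! ### Weight spaces -/

section Weights

variable {ι G : Type*} [Group G] {K : Type*} [Field K] {V : Type*} [AddCommGroup V] [Module K V]

/-- The weight space of `c : ι → ZMod 2`. -/
def wt (σ : G →* Module.End K V) (f : Fr ι G) (c : ι → ZMod 2) : Submodule K V :=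
  ⨅ i, ⨅ j, (σ (f.e i j)).eigenspace ((-1) ^ (c i + c j).val)

variable {σ : G →* Module.End K V} {f : Fr ι G}

theorem mem_wt {c : ι → ZMod 2} {v : V} : v ∈ wt σ f c ↔ ∀ i j, σ (f.e i j) v = (-1 : K) ^ (c i + c j).val • v := by
  simp only [wt, Submodule.mem_iInf, _root_.Module.End.mem_genEigenspace_one]

theorem map_wt {c : ι → ZMod 2} {s : G} {π : Perm ι} (hs : ∀ i j, s * f.e i j * s⁻¹ = f.e (π i) (π j)) {v : V}
    (hv : v ∈ wt σ f c) : σ s v ∈ wt σ f (fun i => c (π.symm i)) := by
  rw [mem_wt] at hv ⊢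
  intro i j
  have h1 : f.e i j = s * f.e (π.symm i) (π.symm j) * s⁻¹ := by
    rw [hs, Equiv.apply_symm_apply, Equiv.apply_symm_apply]
  rw [h1, ← mul_apply', inv_mul_cancel_right, mul_apply', hv, map_smul]

theorem finrank_wt_le [FiniteDimensional K V] {c : ι → ZMod 2} {s : G} {π : Perm ι}
    (hs : ∀ i j, s * f.e i j * s⁻¹ = f.e (π i) (π j)) :
    finrank K (wt σ f c) ≤ finrank K (wt σ f (fun i => c (π.symm i))) :=
  finrank_le_of_map (σ := σ) s fun _ hv => map_wt hs hv

end Weights

/-! ### Even permutations -/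

section Even

variable {ι : Type*} [Fintype ι] [DecidableEq ι]

end Even

/-! ### Five coordinates -/

section Five

variable {G : Type*} [Group G] {K : Type*} [Field K] {V : Type*} [AddCommGroup V] [Module K V]
  {σ : G →* Module.End K V} {f : Fr (Fin 5) G}

/-- the weights of a set of coordinates -/
def ch (S : Finset (Fin 5)) : Fin 5 → ZMod 2 := fun i => if i ∈ S then 1 else 0

variable [FiniteDimensional K V]

/-- dimension of the weight space of a single coordinate -/
noncomputable def d1 (σ : G →* Module.End K V) (f : Fr (Fin 5) G) : ℕ := finrank K (wt σ f (ch {0}))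
/-- dimension of the weight space of a pair of coordinates -/
noncomputable def d2 (σ : G →* Module.End K V) (f : Fr (Fin 5) G) : ℕ := finrank K (wt σ f (ch {0, 1}))

/-- extension of weights by zero -/
def em (c : Fin 4 → ZMod 2) : Fin 5 → ZMod 2 := Fin.snoc c 0

/-- weights: `none` is the trivial one, `some i` the coordinate `i` -/
def co (o : Option (Fin 5)) : Fin 5 → ZMod 2 := fun i => if o = some i then 1 else 0

end Five

end Cfsg.Agent.H879.TL
end

-- part: H879/TL/Five
section
/-!
# Spaces of dimension at most nine with a symmetric frame of five coordinates (helper879)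
-/

set_option autoImplicit false
set_option linter.unusedSectionVars false

namespace Cfsg.Agent.H879.TL

open Module Equiv Equiv.Perm Cfsg.Agent.H637.JW

section Lin

variable {K : Type*} [Field K] {V : Type*} [AddCommGroup V] [Module K V] {ι : Type*} [Fintype ι]

end Lin

section Five

variable {G : Type*} [Group G] {K : Type*} [Field K] [IsAlgClosed K] {V : Type*} [AddCommGroup V] [Module K V]
  [FiniteDimensional K V] {σ : G →* Module.End K V} {f : Fr (Fin 5) G}

/-- The sign of `e i j` on the weight space `o`. -/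
def sg (o : Option (Fin 5)) (i j : Fin 5) : ℤ := (-1) ^ (co o i + co o j).val

variable (h2 : (2 : K) ≠ 0) (hf : f.Sym) (hV : finrank K V ≤ 9)
include h2 hf hV

end Five

/-! ### Blocks -/

section Block

variable {G : Type*} [Group G] {K : Type*} [Field K] {V : Type*} [AddCommGroup V] [Module K V]
  {σ : G →* Module.End K V}

/-- `B` is generated by the `B`-conjugates of `e`. -/
def NormGen (B : Subgroup G) (e : G) : Prop :=
  e ∈ B ∧ ∀ N : Subgroup G, N ≤ B → e ∈ N → (∀ b ∈ B, ∀ n ∈ N, b * n * b⁻¹ ∈ N) → N = B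

theorem NormGen.of_normal {B : Subgroup G} {e : B} (h : ∀ N : Subgroup B, N.Normal → e ∈ N → N = ⊤) :
    NormGen B (e : G) := by
  refine ⟨e.2, fun N hNB heN hN => le_antisymm hNB ?_⟩
  have h1 := h (N.subgroupOf B) ⟨fun n hn b => by
    rw [Subgroup.mem_subgroupOf] at hn ⊢
    exact hN b b.2 n hn⟩ heN
  rw [Subgroup.subgroupOf_eq_top] at h1
  exact h1

end Block

end Cfsg.Agent.H879.TL
end

-- part: H879/TL/QB
section
/-!
# Commuting quaternion groups (helper879)

`QB ι G` : commuting quaternion groups `⟨x i, y i⟩` with central involutions `z i`.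
* `QB.two_pow_le` : a non-zero space on which `z i = -1` for all `i ∈ S` has dimension at least `2 ^ |S|`;
* `QB.twelve` : at least three of them, permuted by all permutations, the product of the `z i` trivial,
  some `z i` non-trivial: the dimension is at least `12`.
-/

set_option autoImplicit false
set_option linter.unusedSectionVars false

namespace Cfsg.Agent.H879.TL

open Module Equiv Equiv.Perm Cfsg.Agent.H637.JW

/-- Commuting quaternion groups. -/
structure QB (ι : Type*) (G : Type*) [Group G] where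
  x : ι → G
  y : ι → G
  z : ι → G
  xx : ∀ i, x i * x i = z i
  yy : ∀ i, y i * y i = z i
  xy : ∀ i, x i * y i = z i * (y i * x i)
  zz : ∀ i, z i * z i = 1
  cxx : ∀ i j, i ≠ j → x i * x j = x j * x i
  cxy : ∀ i j, i ≠ j → x i * y j = y j * x i
  cyy : ∀ i j, i ≠ j → y i * y j = y j * y i

namespace QB

variable {ι G H : Type*} [Group G] [Group H] (q : QB ι G)

/-- image under a homomorphism -/
def map (φ : G →* H) : QB ι H where
  x i := φ (q.x i)
  y i := φ (q.y i)
  z i := φ (q.z i)
  xx i := by rw [← map_mul, q.xx]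
  yy i := by rw [← map_mul, q.yy]
  xy i := by rw [← map_mul, ← map_mul, ← map_mul, q.xy]
  zz i := by rw [← map_mul, q.zz, map_one]
  cxx i j h := by rw [← map_mul, ← map_mul, q.cxx i j h]
  cxy i j h := by rw [← map_mul, ← map_mul, q.cxy i j h]
  cyy i j h := by rw [← map_mul, ← map_mul, q.cyy i j h]

theorem z_comm_x (i j : ι) : q.z i * q.x j = q.x j * q.z i := by
  by_cases h : i = j
  · subst h
    rw [← q.xx, mul_assoc]
  · rw [← q.xx, mul_assoc, q.cxx i j h, ← mul_assoc, q.cxx i j h, mul_assoc]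

theorem z_comm_y (i j : ι) : q.z i * q.y j = q.y j * q.z i := by
  by_cases h : i = j
  · subst h
    rw [← q.yy, mul_assoc]
  · rw [← q.xx, mul_assoc, q.cxy i j h, ← mul_assoc, q.cxy i j h, mul_assoc]

theorem z_comm_z (i j : ι) : q.z i * q.z j = q.z j * q.z i := by
  rw [← q.xx j, ← mul_assoc, q.z_comm_x, mul_assoc, q.z_comm_x, ← mul_assoc]

variable {K : Type*} [Field K] [IsAlgClosed K] {V : Type*} [AddCommGroup V] [Module K V] [FiniteDimensional K V]
  {σ : G →* Module.End K V}

theorem two_pow_le [DecidableEq ι] (h2 : (2 : K) ≠ 0) (S : Finset ι) : ∀ (U : Submodule K V), U ≠ ⊥ →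
    (∀ i ∈ S, ∀ v ∈ U, σ (q.x i) v ∈ U) → (∀ i ∈ S, ∀ v ∈ U, σ (q.y i) v ∈ U) →
    (∀ i ∈ S, ∀ v ∈ U, σ (q.z i) v = -v) → 2 ^ S.card ≤ finrank K U := by
  obtain ⟨l, hl⟩ : ∃ l : K, l * l = -1 := by
    obtain ⟨l, hl⟩ := IsAlgClosed.exists_pow_nat_eq (-1 : K) (n := 2) (by norm_num)
    exact ⟨l, by rw [← hl, sq]⟩
  have hl0 : l ≠ 0 := by
    rintro rfl
    rw [mul_zero] at hl
    have : (1 : K) = 0 := by
      rw [← neg_eq_zero, ← hl]
    exact one_ne_zero this
  induction S using Finset.induction_on with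
  | empty =>
    intro U hU _ _ _
    obtain ⟨v, hv, hv0⟩ := Submodule.exists_mem_ne_zero_of_ne_bot hU
    rw [Finset.card_empty, pow_zero]
    have : Nontrivial U := ⟨⟨v, hv⟩, 0, fun h => hv0 (congrArg Subtype.val h)⟩
    exact Module.finrank_pos
  | insert a S ha ih =>
    intro U hU hx hy hz
    have hxa := hx a (Finset.mem_insert_self a S)
    have hya := hy a (Finset.mem_insert_self a S)
    have hza := hz a (Finset.mem_insert_self a S)
    have hxx : ∀ v ∈ U, σ (q.x a) (σ (q.x a) v) = -v := by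
      intro v hv
      rw [← mul_apply', q.xx, hza v hv]
    have hxy : ∀ v ∈ U, σ (q.x a) (σ (q.y a) v) = - σ (q.y a) (σ (q.x a) v) := by
      intro v hv
      rw [← mul_apply', q.xy, mul_apply', mul_apply', hza _ (hya _ (hxa v hv))]
    let E : K → Submodule K V := fun m => U ⊓ (σ (q.x a)).eigenspace m
    have hE : ∀ m v, v ∈ E m ↔ v ∈ U ∧ σ (q.x a) v = m • v := fun m v => by
      rw [Submodule.mem_inf, End.mem_eigenspace_iff]
    have hyE : ∀ m v, v ∈ E m → σ (q.y a) v ∈ E (-m) := by
      intro m v hv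
      rw [hE] at hv ⊢
      refine ⟨hya v hv.1, ?_⟩
      rw [hxy v hv.1, hv.2, map_smul, neg_smul]
    have hne : E l ≠ ⊥ := by
      obtain ⟨v, hv, hv0⟩ := Submodule.exists_mem_ne_zero_of_ne_bot hU
      by_cases hw : v - l • σ (q.x a) v = 0
      · have h1 : v ∈ E (-l) := by
          rw [hE]
          refine ⟨hv, ?_⟩
          have h2 : v = l • σ (q.x a) v := sub_eq_zero.1 hw
          have h3 : l • v = (l * l) • σ (q.x a) v := by
            conv_lhs => rw [h2]
            rw [smul_smul]
          rw [hl, neg_smul, one_smul] at h3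
          rw [neg_smul, h3, neg_neg]
        have h2 := hyE _ _ h1
        rw [neg_neg] at h2
        exact Submodule.ne_bot_iff _ |>.2 ⟨_, h2, fun h0 => hv0 (injective (σ := σ) (q.y a) (by rw [h0, map_zero]))⟩
      · refine Submodule.ne_bot_iff _ |>.2 ⟨_, ?_, hw⟩
        rw [hE]
        refine ⟨U.sub_mem hv (U.smul_mem _ (hxa v hv)), ?_⟩
        rw [map_sub, map_smul, hxx v hv, smul_neg, smul_sub, smul_smul, hl, neg_smul, one_smul]
        abel
    have h5 : finrank K (E l) ≤ finrank K (E (-l)) := finrank_le_of_map (σ := σ) (q.y a) (hyE l)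
    have h6 : _root_.Disjoint (E l) (E (-l)) := by
      rw [Submodule.disjoint_def]
      intro v h1 h3
      rw [hE] at h1 h3
      have h4 : (2 * l) • v = 0 := by
        have := h1.2.symm.trans h3.2
        rw [two_mul, add_smul]
        nth_rw 1 [this]
        rw [neg_smul, neg_add_cancel]
      exact (smul_eq_zero.1 h4).resolve_left (mul_ne_zero h2 hl0)
    have h7 : finrank K (E l) + finrank K (E (-l)) ≤ finrank K U := by
      have h8 := Submodule.finrank_sup_add_finrank_inf_eq (E l) (E (-l))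
      rw [disjoint_iff.1 h6, finrank_bot, add_zero] at h8
      rw [← h8]
      exact Submodule.finrank_mono (sup_le inf_le_left inf_le_left)
    have h8 : 2 ^ S.card ≤ finrank K (E l) := by
      refine ih (E l) hne ?_ ?_ ?_
      · intro i hi v hv
        rw [hE] at hv ⊢
        refine ⟨hx i (Finset.mem_insert_of_mem hi) v hv.1, ?_⟩
        have : a ≠ i := fun h => ha (h ▸ hi)
        rw [← mul_apply', q.cxx a i this, mul_apply', hv.2, map_smul]
      · intro i hi v hv
        rw [hE] at hv ⊢
        refine ⟨hy i (Finset.mem_insert_of_mem hi) v hv.1, ?_⟩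
        have : a ≠ i := fun h => ha (h ▸ hi)
        rw [← mul_apply', q.cxy a i this, mul_apply', hv.2, map_smul]
      · intro i hi v hv
        rw [hE] at hv
        exact hz i (Finset.mem_insert_of_mem hi) v hv.1
    rw [Finset.card_insert_of_notMem ha, pow_succ]
    omega

/-- dimension of a weight space of the central involutions -/
theorem weight_ge [Fintype ι] [DecidableEq ι] (h2 : (2 : K) ≠ 0) (c : ι → ZMod 2)
    (hc : W 2 (-1 : K) (fun i => σ (q.z i)) c ≠ ⊥) :
    2 ^ (Finset.univ.filter fun i => c i = 1).card ≤ finrank K (W 2 (-1 : K) (fun i => σ (q.z i)) c) := by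
  refine q.two_pow_le (σ := σ) h2 _ _ hc ?_ ?_ ?_
  · intro i _ v hv
    rw [mem_W] at hv ⊢
    intro k
    rw [← mul_apply', q.z_comm_x, mul_apply', hv, map_smul]
  · intro i _ v hv
    rw [mem_W] at hv ⊢
    intro k
    rw [← mul_apply', q.z_comm_y, mul_apply', hv, map_smul]
  · intro i hi v hv
    rw [mem_W] at hv
    rw [hv, (Finset.mem_filter.1 hi).2]
    simp [ZMod.val_one]

theorem prim_neg_one (h2 : (2 : K) ≠ 0) : IsPrimitiveRoot (-1 : K) 2 := by
  refine IsPrimitiveRoot.neg_one (ringChar K) ?_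
  intro h
  apply h2
  have h3 := CharP.cast_eq_zero K (ringChar K)
  rw [h] at h3
  exact_mod_cast h3

/-- At least three commuting quaternion groups. -/
theorem twelve [Fintype ι] [DecidableEq ι] (h2 : (2 : K) ≠ 0) (h3 : 3 ≤ Fintype.card ι)
    (hsym : ∀ π : Perm ι, ∃ s : G, ∀ i, s * q.z i * s⁻¹ = q.z (π i))
    (heven : ∀ (s : ι → K) (v : V), (∀ i, σ (q.z i) v = s i • v) → (∏ i, s i) • v = v)
    {i₀ : ι} (hne : σ (q.z i₀) ≠ 1) : 12 ≤ finrank K V := by
  have h2' : ((2 : ℕ) : K) ≠ 0 := by exact_mod_cast h2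
  have hζ := prim_neg_one h2
  have hc : ∀ j k, σ (q.z j) * σ (q.z k) = σ (q.z k) * σ (q.z j) := fun j k => by
    rw [← map_mul, ← map_mul, q.z_comm_z]
  have hf : ∀ k, σ (q.z k) ^ 2 = 1 := fun k => by rw [sq, ← map_mul, q.zz, map_one]
  have hind := indep_W (K := K) (V := V) h2' hζ hc hf
  have htop := iSup_W (K := K) (V := V) h2' hζ hc hf
  -- a weight with `c i₀ = 1`
  obtain ⟨c, hc0, hcW⟩ : ∃ c : ι → ZMod 2, c i₀ = 1 ∧ W 2 (-1 : K) (fun i => σ (q.z i)) c ≠ ⊥ := by
    by_contra hno
    push Not at hno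
    apply hne
    have h5 : ∀ c : ι → ZMod 2, W 2 (-1 : K) (fun i => σ (q.z i)) c ≤ _root_.Cfsg.Agent.H637.JW.Fix σ (q.z i₀) := by
      intro c v hv
      have e2 : ∀ a : ZMod 2, a = 0 ∨ a = 1 := by decide
      rcases e2 (c i₀) with h | h
      · rw [mem_W] at hv
        rw [mem_Fix, hv i₀, h]
        simp
      · rw [hno c h] at hv
        rw [(Submodule.mem_bot K).1 hv]
        exact zero_mem _
    ext v
    have h6 : v ∈ _root_.Cfsg.Agent.H637.JW.Fix σ (q.z i₀) := by
      have h7 : (⊤ : Submodule K V) ≤ _root_.Cfsg.Agent.H637.JW.Fix σ (q.z i₀) := by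
        rw [← htop]
        exact iSup_le h5
      exact h7 trivial
    exact mem_Fix.1 h6
  -- permuting weights
  have hperm : ∀ (c : ι → ZMod 2) (π : Perm ι), W 2 (-1 : K) (fun i => σ (q.z i)) c ≠ ⊥ →
      W 2 (-1 : K) (fun i => σ (q.z i)) (fun i => c (π i)) ≠ ⊥ := by
    intro c π hW
    obtain ⟨v, hv, hv0⟩ := Submodule.exists_mem_ne_zero_of_ne_bot hW
    obtain ⟨s, hs⟩ := hsym π.symm
    refine Submodule.ne_bot_iff _ |>.2 ⟨σ s v, ?_, fun h0 => hv0 (injective (σ := σ) s (by rw [h0, map_zero]))⟩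
    rw [mem_W] at hv ⊢
    intro k
    have h1 : q.z k = s * q.z (π k) * s⁻¹ := by rw [hs, Equiv.symm_apply_apply]
    rw [h1, ← mul_apply', inv_mul_cancel_right, mul_apply', hv, map_smul]
  -- the number of ones is even
  have hev : Even (Finset.univ.filter fun i => c i = 1).card := by
    obtain ⟨v, hv, hv0⟩ := Submodule.exists_mem_ne_zero_of_ne_bot hcW
    rw [mem_W] at hv
    have h4 := heven _ v hv
    have h5 : (∏ i, (-1 : K) ^ (c i).val) = (-1) ^ (Finset.univ.filter fun i => c i = 1).card := by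
      rw [← Finset.prod_const, Finset.prod_filter]
      refine Finset.prod_congr rfl fun i _ => ?_
      have e2 : ∀ a : ZMod 2, a = 0 ∨ a = 1 := by decide
      rcases e2 (c i) with h | h
      · rw [h]; simp only [_root_.ZMod.val_zero, _root_.pow_zero, _root_.zero_ne_one, ↓ _root_.reduceIte]
      · rw [h]; simp [ZMod.val_one]
    rw [h5] at h4
    by_contra hodd
    rw [Nat.not_even_iff_odd] at hodd
    rw [hodd.neg_one_pow, neg_smul, one_smul] at h4
    apply hv0
    have h6 : (2 : K) • v = 0 := by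
      rw [two_smul]
      nth_rw 1 [← h4]
      exact neg_add_cancel v
    exact (smul_eq_zero.1 h6).resolve_left h2
  have hmem : i₀ ∈ Finset.univ.filter fun i => c i = 1 := Finset.mem_filter.2 ⟨Finset.mem_univ _, hc0⟩
  have hpos := Finset.card_pos.2 ⟨i₀, hmem⟩
  have htwo : 2 ≤ (Finset.univ.filter fun i => c i = 1).card := by
    rcases hev with ⟨r, hr⟩
    omega
  by_cases hall : ∀ k, c k = 1
  · have h4 : (Finset.univ.filter fun i => c i = 1) = Finset.univ := by
      ext i
      simp only [hall i, _root_.Finset.mem_filter, _root_.Finset.mem_univ, _root_.and_self]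
    rw [h4, Finset.card_univ] at hev
    have h5 : 4 ≤ Fintype.card ι := by
      rcases hev with ⟨r, hr⟩
      omega
    have h6 := q.weight_ge h2 c hcW
    rw [h4, Finset.card_univ] at h6
    have h7 : 2 ^ 4 ≤ 2 ^ Fintype.card ι := Nat.pow_le_pow_right (by norm_num) h5
    have h8 := Submodule.finrank_le (W 2 (-1 : K) (fun i => σ (q.z i)) c)
    omega
  · push Not at hall
    obtain ⟨k, hk⟩ := hall
    have hk0 : c k = 0 := by
      have e2 : ∀ a : ZMod 2, a = 0 ∨ a = 1 := by decide
      exact (e2 (c k)).resolve_right hk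
    obtain ⟨i, hi, j, hj, hij⟩ := Finset.one_lt_card.1 (lt_of_lt_of_le one_lt_two htwo)
    have hi1 := (Finset.mem_filter.1 hi).2
    have hj1 := (Finset.mem_filter.1 hj).2
    have hik : i ≠ k := fun h => hk (h ▸ hi1)
    have hjk : j ≠ k := fun h => hk (h ▸ hj1)
    let e : Fin 3 → (ι → ZMod 2) := ![c, fun l => c (swap j k l), fun l => c (swap i k l)]
    have e1 : ∀ t, W 2 (-1 : K) (fun i => σ (q.z i)) (e t) ≠ ⊥ := by
      intro t
      fin_cases t
      · exact hcW
      · exact hperm c (swap j k) hcW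
      · exact hperm c (swap i k) hcW
    have hv1 : ∀ t, 2 ≤ (Finset.univ.filter fun l => e t l = 1).card := by
      intro t
      have key : ∀ a b : ι, a ≠ b → e t a = 1 → e t b = 1 → 2 ≤ (Finset.univ.filter fun l => e t l = 1).card := by
        intro a b hab h h'
        exact Finset.one_lt_card.2 ⟨a, Finset.mem_filter.2 ⟨Finset.mem_univ _, h⟩, b,
          Finset.mem_filter.2 ⟨Finset.mem_univ _, h'⟩, hab⟩
      fin_cases t
      · exact htwo
      · refine key i k hik ?_ ?_
        · change c (swap j k i) = 1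
          rw [swap_apply_of_ne_of_ne hij hik, hi1]
        · change c (swap j k k) = 1
          rw [swap_apply_right, hj1]
      · refine key j k hjk ?_ ?_
        · change c (swap i k j) = 1
          rw [swap_apply_of_ne_of_ne (Ne.symm hij) hjk, hj1]
        · change c (swap i k k) = 1
          rw [swap_apply_right, hi1]
    have h01 : (0 : ZMod 2) ≠ 1 := by decide
    have hinj : Function.Injective e := by
      have a0 : e 0 k = 0 := hk0
      have a0j : e 0 j = 1 := hj1
      have a0i : e 0 i = 1 := hi1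
      have a1 : e 1 j = 0 := by
        change c (swap j k j) = 0
        rw [swap_apply_left, hk0]
      have a2 : e 2 i = 0 := by
        change c (swap i k i) = 0
        rw [swap_apply_left, hk0]
      have a2j : e 2 j = 1 := by
        change c (swap i k j) = 1
        rw [swap_apply_of_ne_of_ne (Ne.symm hij) hjk, hj1]
      have n01 : e 0 ≠ e 1 := fun h => h01 (by rw [← a1, ← h, a0j])
      have n02 : e 0 ≠ e 2 := fun h => h01 (by rw [← a2, ← h, a0i])
      have n12 : e 1 ≠ e 2 := fun h => h01 (by rw [← a1, h, a2j])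
      intro s t hst
      fin_cases s <;> fin_cases t
      · rfl
      · exact absurd hst n01
      · exact absurd hst n02
      · exact absurd hst.symm n01
      · rfl
      · exact absurd hst n12
      · exact absurd hst.symm n02
      · exact absurd hst.symm n12
      · rfl
    have h9 := sum_le_of_inj hind e hinj ⊤ (fun _ => le_top)
    rw [finrank_top, Fin.sum_univ_three] at h9
    have h10 : ∀ t, 4 ≤ finrank K (W 2 (-1 : K) (fun i => σ (q.z i)) (e t)) := by
      intro t
      refine le_trans ?_ (q.weight_ge h2 (e t) (e1 t))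
      calc 4 = 2 ^ 2 := by norm_num
        _ ≤ _ := Nat.pow_le_pow_right (by norm_num) (hv1 t)
    have := h10 0
    have := h10 1
    have := h10 2
    omega

end QB

end Cfsg.Agent.H879.TL
end

-- part: H879/TL/SpBlk
section
/-!
# Blocks in the symplectic group (helper879)

`bl : (Fin m → SL₂(F)) →* Sp_{2m}(F)`, permutations of the blocks, commuting quaternion groups `qb`, and:
**`psp_twelve`** : `m ≥ 3`, `F` finite of odd order, `K` algebraically closed of characteristic `≠ 2`: every
representation of `PSp m F` of dimension less than `12` over `K` is trivial.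
-/

set_option autoImplicit false
set_option linter.unusedSectionVars false

namespace Cfsg.Agent.H879.TL.Sp

open Module Equiv Equiv.Perm Matrix Cfsg.Agent.H637.JW

variable {m : ℕ} {F : Type*} [Field F]

/-- block matrices -/
def blM (A : Fin m → Matrix (Fin 2) (Fin 2) F) : Matrix (Fin m ⊕ Fin m) (Fin m ⊕ Fin m) F :=
  fromBlocks (diagonal fun i => A i 0 0) (diagonal fun i => A i 0 1) (diagonal fun i => A i 1 0)
    (diagonal fun i => A i 1 1)

theorem blM_mul (A B : Fin m → Matrix (Fin 2) (Fin 2) F) : blM (fun i => A i * B i) = blM A * blM B := by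
  unfold blM
  rw [fromBlocks_multiply]
  simp only [diagonal_mul_diagonal, diagonal_add]
  congr 1 <;> (congr 1; funext i; rw [Matrix.mul_apply, Fin.sum_univ_two])

theorem blM_one : blM (fun _ : Fin m => (1 : Matrix (Fin 2) (Fin 2) F)) = 1 := by
  unfold blM
  simp

theorem blM_mem (A : Fin m → _root_.Matrix.SpecialLinearGroup (Fin 2) F) :
    blM (fun i => (A i : Matrix (Fin 2) (Fin 2) F)) ∈ symplecticGroup (Fin m) F := by
  rw [SymplecticGroup.mem_iff]
  have hd : ∀ i, (A i).1 0 0 * (A i).1 1 1 - (A i).1 0 1 * (A i).1 1 0 = 1 := by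
    intro i
    rw [← Matrix.det_fin_two, (A i).2]
  unfold blM J
  rw [fromBlocks_transpose, fromBlocks_multiply, fromBlocks_multiply]
  simp only [diagonal_transpose, mul_zero, zero_add, mul_one, mul_neg, add_zero, diagonal_neg, diagonal_mul_diagonal,
    diagonal_add]
  have e0 : (0 : Matrix (Fin m) (Fin m) F) = diagonal fun _ => 0 := by simp
  have e1 : (1 : Matrix (Fin m) (Fin m) F) = diagonal fun _ => 1 := by simp
  rw [e0, e1, diagonal_neg]
  congr 1
  · congr 1; funext i; ring
  · congr 1; funext i; linear_combination -(hd i)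
  · congr 1; funext i; linear_combination (hd i)
  · congr 1; funext i; ring

/-- the block embedding -/
def bl : (Fin m → _root_.Matrix.SpecialLinearGroup (Fin 2) F) →* symplecticGroup (Fin m) F where
  toFun A := ⟨blM (fun i => (A i : Matrix (Fin 2) (Fin 2) F)), blM_mem A⟩
  map_one' := Subtype.ext blM_one
  map_mul' _ _ := Subtype.ext (blM_mul _ _)

theorem bl_injective : Function.Injective (bl (m := m) (F := F)) := by
  intro A B h
  have h1 : blM (fun i => (A i).1) = blM (fun i => (B i).1) := congrArg Subtype.val h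
  funext i
  apply Subtype.ext
  ext a b
  have e : ∀ (C : Fin m → Matrix (Fin 2) (Fin 2) F), (blM C (Sum.inl i) (Sum.inl i) = C i 0 0) ∧
      (blM C (Sum.inl i) (Sum.inr i) = C i 0 1) ∧ (blM C (Sum.inr i) (Sum.inl i) = C i 1 0) ∧
      (blM C (Sum.inr i) (Sum.inr i) = C i 1 1) := by
    intro C
    simp [blM]
  fin_cases a <;> fin_cases b
  · exact (e _).1.symm.trans ((congrFun (congrFun h1 _) _).trans (e _).1)
  · exact (e _).2.1.symm.trans ((congrFun (congrFun h1 _) _).trans (e _).2.1)
  · exact (e _).2.2.1.symm.trans ((congrFun (congrFun h1 _) _).trans (e _).2.2.1)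
  · exact (e _).2.2.2.symm.trans ((congrFun (congrFun h1 _) _).trans (e _).2.2.2)

/-- permutation of the blocks -/
def pmM (π : Perm (Fin m)) : Matrix (Fin m ⊕ Fin m) (Fin m ⊕ Fin m) F :=
  fromBlocks ((1 : Matrix (Fin m) (Fin m) F).submatrix π.symm id) 0 0
    ((1 : Matrix (Fin m) (Fin m) F).submatrix π.symm id)

theorem pm_sub (π : Perm (Fin m)) :
    ((1 : Matrix (Fin m) (Fin m) F).submatrix π.symm id) * ((1 : Matrix (Fin m) (Fin m) F).submatrix π.symm id)ᵀ = 1 := by
  ext i j
  rw [Matrix.mul_apply, Finset.sum_eq_single (π.symm i)]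
  · simp only [submatrix_apply, transpose_apply, Matrix.one_apply]
    simp [eq_comm]
  · intro b _ hb
    simp [Matrix.one_apply, Ne.symm hb]
  · simp only [_root_.Finset.mem_univ, _root_.not_true_eq_false, _root_.Matrix.submatrix_apply, _root_.Matrix.transpose_apply, _root_.mul_eq_zero, _root_.IsEmpty.forall_iff]

theorem pm_mem (π : Perm (Fin m)) : pmM (F := F) π ∈ symplecticGroup (Fin m) F := by
  rw [SymplecticGroup.mem_iff]
  unfold pmM J
  rw [fromBlocks_transpose, fromBlocks_multiply, fromBlocks_multiply]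
  simp only [transpose_zero, mul_zero, zero_mul, zero_add, mul_one, mul_neg, add_zero, neg_mul, pm_sub, neg_zero]

/-- permutation of the blocks, as an element of the group -/
def pm (π : Perm (Fin m)) : symplecticGroup (Fin m) F := ⟨pmM π, pm_mem π⟩

theorem pm_bl (π : Perm (Fin m)) (A : Fin m → _root_.Matrix.SpecialLinearGroup (Fin 2) F) :
    pm π * bl A = bl (fun i => A (π.symm i)) * pm π := by
  apply Subtype.ext
  change pmM π * blM _ = blM _ * pmM π
  unfold pmM blM
  rw [fromBlocks_multiply, fromBlocks_multiply]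
  simp only [zero_mul, mul_zero, add_zero, zero_add]
  congr 1 <;>
  · ext i j
    rw [Matrix.mul_diagonal, Matrix.diagonal_mul]
    simp only [submatrix_apply, id, Matrix.one_apply]
    by_cases h : π.symm i = j
    · rw [h, if_pos rfl, one_mul, mul_one]
    · rw [if_neg h, zero_mul, mul_zero]

theorem pm_conj (π : Perm (Fin m)) (A : Fin m → _root_.Matrix.SpecialLinearGroup (Fin 2) F) :
    pm π * bl A * (pm π)⁻¹ = bl (fun i => A (π.symm i)) := by
  rw [pm_bl, mul_inv_cancel_right]

/-! ### Quaternion groups -/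

section Quat

/-- `[0, 1; -1, 0]` -/
def qX : _root_.Matrix.SpecialLinearGroup (Fin 2) F := ⟨!![0, 1; -1, 0], by simp [Matrix.det_fin_two]⟩

/-- `[a, b; b, -a]`, `a² + b² = -1` -/
def qY (a b : F) (h : a ^ 2 + b ^ 2 = -1) : _root_.Matrix.SpecialLinearGroup (Fin 2) F :=
  ⟨!![a, b; b, -a], by simp only [Matrix.det_fin_two_of]; linear_combination -h⟩

/-- `-1` -/
def nI : _root_.Matrix.SpecialLinearGroup (Fin 2) F := ⟨!![-1, 0; 0, -1], by simp [Matrix.det_fin_two]⟩

theorem qX_sq : qX * qX = (nI : _root_.Matrix.SpecialLinearGroup (Fin 2) F) := by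
  apply Subtype.ext
  change !![(0 : F), 1; -1, 0] * !![(0 : F), 1; -1, 0] = !![-1, 0; 0, -1]
  simp

theorem qY_sq {a b : F} (h : a ^ 2 + b ^ 2 = -1) : qY a b h * qY a b h = nI := by
  apply Subtype.ext
  change !![a, b; b, -a] * !![a, b; b, -a] = !![-1, 0; 0, -1]
  rw [Matrix.mul_fin_two]
  congr 1
  ext i j
  fin_cases i <;> fin_cases j
  · change a * a + b * b = -1; linear_combination h
  · change a * b + b * -a = 0; ring
  · change b * a + -a * b = 0; ring
  · change b * b + -a * -a = -1; linear_combination h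

theorem qXY {a b : F} (h : a ^ 2 + b ^ 2 = -1) : qX * qY a b h = nI * (qY a b h * qX) := by
  apply Subtype.ext
  change !![(0 : F), 1; -1, 0] * !![a, b; b, -a] = !![-1, 0; 0, -1] * (!![a, b; b, -a] * !![(0 : F), 1; -1, 0])
  rw [Matrix.mul_fin_two, Matrix.mul_fin_two, Matrix.mul_fin_two]
  ext i j
  (revert i j; simp [_root_.Fin.forall_fin_succ])

theorem nI_sq : nI * nI = (1 : _root_.Matrix.SpecialLinearGroup (Fin 2) F) := by
  apply Subtype.ext
  change !![(-1 : F), 0; 0, -1] * !![-1, 0; 0, -1] = 1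
  rw [Matrix.mul_fin_two]
  ext i j
  (revert i j; simp only [_root_.Fin.forall_fin_succ, _root_.mul_neg, _root_.mul_one, _root_.neg_neg, _root_.MulZeroClass.mul_zero, _root_.add_zero, _root_.neg_zero, _root_.zero_add, _root_.Matrix.of_apply, _root_.Matrix.cons_val', _root_.Matrix.cons_val_fin_one, Fin.isValue, _root_.Matrix.cons_val_zero, _root_.Matrix.cons_val_succ, _root_.IsEmpty.forall_iff, _root_.and_true, _root_.Matrix.one_apply_eq, Nat.reduceAdd, _root_.Fin.succ_zero_eq_one, _root_.ne_eq, _root_.zero_ne_one, _root_.not_false_eq_true, _root_.Matrix.one_apply_ne, _root_.and_self, _root_.Fin.succ_ne_zero, _root_.true_and])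

theorem nI_ne (h2 : (2 : F) ≠ 0) : (nI : _root_.Matrix.SpecialLinearGroup (Fin 2) F) ≠ 1 := by
  intro h
  have h1 : (-1 : F) = 1 := congrFun (congrFun (congrArg Subtype.val h) 0) 0
  apply h2
  linear_combination -h1

/-- commuting quaternion groups in `Sp_{2m}(F)` -/
def qb (m : ℕ) {a b : F} (h : a ^ 2 + b ^ 2 = -1) : QB (Fin m) (symplecticGroup (Fin m) F) where
  x i := bl (Pi.mulSingle i qX)
  y i := bl (Pi.mulSingle i (qY a b h))
  z i := bl (Pi.mulSingle i nI)
  xx i := by rw [← map_mul, ← Pi.mulSingle_mul, qX_sq]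
  yy i := by rw [← map_mul, ← Pi.mulSingle_mul, qY_sq]
  xy i := by rw [← map_mul, ← map_mul, ← map_mul, ← Pi.mulSingle_mul, ← Pi.mulSingle_mul, ← Pi.mulSingle_mul, qXY]
  zz i := by rw [← map_mul, ← Pi.mulSingle_mul, nI_sq, Pi.mulSingle_one, map_one]
  cxx i j hij := by rw [← map_mul, ← map_mul, (Pi.mulSingle_commute hij _ _).eq]
  cxy i j hij := by rw [← map_mul, ← map_mul, (Pi.mulSingle_commute hij _ _).eq]
  cyy i j hij := by rw [← map_mul, ← map_mul, (Pi.mulSingle_commute hij _ _).eq]

theorem single_perm (π : Perm (Fin m)) (g : _root_.Matrix.SpecialLinearGroup (Fin 2) F) (i : Fin m) :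
    (fun j => (Pi.mulSingle i g : Fin m → _root_.Matrix.SpecialLinearGroup (Fin 2) F) (π.symm j)) = Pi.mulSingle (π i) g := by
  funext j
  by_cases h : j = π i
  · subst h
    rw [Equiv.symm_apply_apply, Pi.mulSingle_eq_same, Pi.mulSingle_eq_same]
  · have h' : π.symm j ≠ i := by
      rintro rfl
      exact h (Equiv.apply_symm_apply _ _).symm
    rw [Pi.mulSingle_eq_of_ne h, Pi.mulSingle_eq_of_ne h']

theorem qb_sym {a b : F} (h : a ^ 2 + b ^ 2 = -1) (π : Perm (Fin m)) (i : Fin m) :
    pm π * (qb m h).z i * (pm π)⁻¹ = (qb m h).z (π i) := by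
  change pm π * bl (Pi.mulSingle i nI) * (pm π)⁻¹ = bl (Pi.mulSingle (π i) nI)
  rw [pm_conj, single_perm]

/-- `-1` -/
def negOne (m : ℕ) (F : Type*) [Field F] : symplecticGroup (Fin m) F := bl (fun _ => nI)

theorem negOne_coe : (negOne m F).1 = -1 := by
  change blM (fun _ : Fin m => !![(-1 : F), 0; 0, -1]) = -1
  have e1 : (diagonal fun _ : Fin m => (-1 : F)) = -1 := by
    ext i j
    by_cases hij : i = j
    · subst hij; simp
    · rw [diagonal_apply_ne _ hij, Matrix.neg_apply, Matrix.one_apply_ne hij, neg_zero]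
  have e0 : (diagonal fun _ : Fin m => (0 : F)) = 0 := by simp
  change fromBlocks (diagonal fun _ : Fin m => (-1 : F)) (diagonal fun _ : Fin m => (0 : F))
    (diagonal fun _ : Fin m => (0 : F)) (diagonal fun _ : Fin m => (-1 : F)) = -1
  rw [e1, e0, ← fromBlocks_one, fromBlocks_neg, neg_zero]

theorem negOne_mem_center : negOne m F ∈ Subgroup.center (symplecticGroup (Fin m) F) := by
  rw [Subgroup.mem_center_iff]
  intro g
  apply Subtype.ext
  change g.1 * (negOne m F).1 = (negOne m F).1 * g.1
  rw [negOne_coe, mul_neg, neg_mul, mul_one, one_mul]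

variable {K : Type*} [Field K] {V : Type*} [AddCommGroup V] [Module K V] {σ : symplecticGroup (Fin m) F →* Module.End K V}

theorem heven {a b : F} (h : a ^ 2 + b ^ 2 = -1) (hσ : σ (negOne m F) = 1) (s : Fin m → K) (v : V)
    (hv : ∀ i, σ ((qb m h).z i) v = s i • v) : (∏ i, s i) • v = v := by
  classical
  have key : ∀ T : Finset (Fin m), σ (bl (fun i => if i ∈ T then nI else 1)) v = (∏ i ∈ T, s i) • v := by
    intro T
    induction T using Finset.induction_on with
    | empty =>
      have : (fun i : Fin m => if i ∈ (∅ : Finset (Fin m)) then (nI : _root_.Matrix.SpecialLinearGroup (Fin 2) F) else 1) = 1 := by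
        funext i; simp
      rw [this, map_one, map_one, Finset.prod_empty, one_smul, Module.End.one_apply]
    | insert a T ha ih =>
      have : (fun i : Fin m => if i ∈ insert a T then (nI : _root_.Matrix.SpecialLinearGroup (Fin 2) F) else 1) =
          Pi.mulSingle a nI * (fun i => if i ∈ T then nI else 1) := by
        funext i
        rw [Pi.mul_apply]
        by_cases hi : i = a
        · subst hi
          rw [Pi.mulSingle_eq_same, if_pos (Finset.mem_insert_self _ _), if_neg ha, mul_one]
        · rw [Pi.mulSingle_eq_of_ne hi, one_mul]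
          simp [Finset.mem_insert, hi]
      rw [this, map_mul, Cfsg.Agent.H637.JW.mul_apply', ih, map_smul]
      have h1 := hv a
      change σ (bl (Pi.mulSingle a nI)) v = s a • v at h1
      rw [h1, smul_smul, Finset.prod_insert ha, mul_comm]
  have h1 := key Finset.univ
  rw [← h1]
  have h2 : (fun i : Fin m => if i ∈ (Finset.univ : Finset (Fin m)) then (nI : _root_.Matrix.SpecialLinearGroup (Fin 2) F) else 1) =
      fun _ => nI := by
    funext i; simp only [_root_.Finset.mem_univ, ↓ _root_.reduceIte]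
  rw [h2]
  change σ (negOne m F) v = v
  rw [hσ, Module.End.one_apply]

theorem exists_sq_add_sq [Fintype F] : ∃ a b : F, a ^ 2 + b ^ 2 = -1 := by
  obtain ⟨p, hp⟩ := CharP.exists F
  have hp' := CharP.char_is_prime F p
  have : Fact p.Prime := ⟨hp'⟩
  have : NeZero p := ⟨hp'.ne_zero⟩
  obtain ⟨a, b, h⟩ := CharP.sq_add_sq F p (-1)
  exact ⟨a, b, by rw [h]; simp⟩

theorem two_ne_of_odd [Fintype F] (hodd : Odd (Fintype.card F)) : (2 : F) ≠ 0 := by
  intro h
  have h1 : (Fintype.card F : F) = 0 := FiniteField.cast_card_eq_zero F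
  obtain ⟨k, hk⟩ := hodd
  rw [hk] at h1
  push_cast at h1
  rw [h, zero_mul, zero_add] at h1
  exact one_ne_zero h1

/-- A non-trivial representation of `Sp_{2m}(F)`, `m ≥ 3`, `-1` trivial, has dimension at least `12`. -/
theorem sp_twelve [IsAlgClosed K] [FiniteDimensional K V] [Fintype F] (hm : 3 ≤ m) (h2 : (2 : K) ≠ 0)
    (hσ : σ (negOne m F) = 1) (hdim : finrank K V < 12) {a b : F} (h : a ^ 2 + b ^ 2 = -1) (i : Fin m) :
    σ ((qb m h).z i) = 1 := by
  by_contra hne
  have := (qb m h).twelve (σ := σ) h2 (by simpa only [_root_.Fintype.card_fin] using hm) (fun π => ⟨pm π, fun i => qb_sym h π i⟩)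
    (fun s v hv => heven h hσ s v hv) hne
  omega

end Quat

/-- **`PSp m F`, `m ≥ 3`, `|F|` odd: representations of dimension less than `12` in characteristic `≠ 2` are trivial.** -/
theorem psp_twelve [Fintype F] (hodd : Odd (Fintype.card F)) (hm : 3 ≤ m) (hs : IsSimpleGroup (Cfsg.PSp m F))
    {K : Type*} [Field K] [IsAlgClosed K] (h2 : (2 : K) ≠ 0) {V : Type*} [AddCommGroup V] [Module K V]
    [FiniteDimensional K V] (σ : Cfsg.PSp m F →* Module.End K V) (hdim : finrank K V < 12) (g : Cfsg.PSp m F) :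
    σ g = 1 := by
  obtain ⟨a, b, h⟩ := exists_sq_add_sq (F := F)
  let τ : symplecticGroup (Fin m) F →* Module.End K V := σ.comp (QuotientGroup.mk' _)
  have hτ : τ (negOne m F) = 1 := by
    change σ (QuotientGroup.mk' _ (negOne m F)) = 1
    rw [show QuotientGroup.mk' (Subgroup.center (symplecticGroup (Fin m) F)) (negOne m F) = 1 from
      (QuotientGroup.eq_one_iff _).2 negOne_mem_center, map_one]
  let i0 : Fin m := ⟨0, by omega⟩
  let i1 : Fin m := ⟨1, by omega⟩
  have h01 : i0 ≠ i1 := by
    intro h0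
    have h0' : (0 : ℕ) = 1 := congrArg Fin.val h0
    exact absurd h0' (by decide)
  have h1 : σ (QuotientGroup.mk' _ ((qb m h).z i0)) = 1 := sp_twelve (σ := τ) hm h2 hτ hdim h i0
  let N : Subgroup (Cfsg.PSp m F) :=
    { carrier := {g | σ g = 1}
      one_mem' := map_one _
      mul_mem' := fun {a b} ha hb => by
        change σ (a * b) = 1
        rw [map_mul, show σ a = 1 from ha, show σ b = 1 from hb, one_mul]
      inv_mem' := fun {a} ha => by
        change σ a⁻¹ = 1
        have : σ a⁻¹ * σ a = 1 := by rw [← map_mul, inv_mul_cancel, map_one]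
        rwa [show σ a = 1 from ha, mul_one] at this }
  have hN : N.Normal := ⟨fun n hn g => by
    change σ (g * n * g⁻¹) = 1
    rw [map_mul, map_mul, show σ n = 1 from hn, mul_one, ← map_mul, mul_inv_cancel, map_one]⟩
  rcases hN.eq_bot_or_eq_top with h3 | h3
  · exfalso
    have h4 : QuotientGroup.mk' (Subgroup.center (symplecticGroup (Fin m) F)) ((qb m h).z i0) ∈ N := h1
    rw [h3, Subgroup.mem_bot, QuotientGroup.mk'_apply, QuotientGroup.eq_one_iff, Subgroup.mem_center_iff] at h4
    have h5 := h4 (pm (_root_.Equiv.swap i0 i1))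
    have h6 := qb_sym h (_root_.Equiv.swap i0 i1) i0
    rw [h5, mul_inv_cancel_right, swap_apply_left] at h6
    have h7 : (Pi.mulSingle i0 nI : Fin m → _root_.Matrix.SpecialLinearGroup (Fin 2) F) = Pi.mulSingle i1 nI := bl_injective h6
    have h8 := congrFun h7 i0
    rw [Pi.mulSingle_eq_same, Pi.mulSingle_eq_of_ne h01] at h8
    exact nI_ne (two_ne_of_odd hodd) h8
  · have : g ∈ N := by rw [h3]; trivial
    exact this

end Cfsg.Agent.H879.TL.Sp
end

private theorem dce_8dcd2a8bceb7 : _root_.True := by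
  try have : _root_.True := by simp only [_root_.Cfsg.Agent.H879.TL.sg.eq_1]
  try have : _root_.True := by simp only [_root_.Cfsg.Agent.H879.TL.ch.eq_1]
  try have : _root_.True := by simp only [_root_.Cfsg.Agent.H879.TL.wt.eq_1]
  try have : _root_.True := by simp only [_root_.Cfsg.Agent.H879.TL.Sp.blM.eq_1]
  try have : _root_.True := by simp only [_root_.Cfsg.Agent.H879.TL.co.eq_1]
  exact _root_.True.intro
end

-- part: H637/SevenA8
section
prune_inst 0x300005000c2200000000000082000020680000000000000000000800000044020000800000000000100214000000000001100010420000000a000400011c00001082100020000000000016000000000000000000000000000000000000000000000000000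
set_option linter.all false
open scoped Cfsg.Agent.FastGrp

/-!
# The alternating groups of degree 8 and 9 in dimension 7 (odd characteristic)

The restriction to `A₇` has a fixed vector, so the module of `A₈` is the permutation module modulo the
constants and its character is `fix - 1`.
-/

set_option autoImplicit false
set_option linter.unusedSectionVars false

namespace Cfsg.Agent.H637.SevenA8

open Module Equiv Equiv.Perm Cfsg.Agent.H637.JW

/-! ### The point stabilizer -/

theorem exists_stab_hom (n : ℕ) : ∃ ι : alternatingGroup (Fin n) →* alternatingGroup (Fin (n + 1)),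
    ∀ g : alternatingGroup (Fin (n + 1)), (g : Perm (Fin (n + 1))) (Fin.last n) = Fin.last n →
      g ∈ ι.range := by
  let e : Fin n ≃ {x : Fin (n + 1) // x ≠ Fin.last n} := finSuccAboveEquiv (Fin.last n)
  let f0 : Perm (Fin n) →* Perm (Fin (n + 1)) := Equiv.Perm.extendDomainHom e
  refine ⟨(f0.comp (alternatingGroup (Fin n)).subtype).codRestrict _ ?_, ?_⟩
  · intro x
    change Equiv.Perm.extendDomain (x : Perm (Fin n)) e ∈ alternatingGroup _
    rw [Equiv.Perm.mem_alternatingGroup, Equiv.Perm.sign_extendDomain]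
    exact Equiv.Perm.mem_alternatingGroup.1 x.2
  · intro g hg
    have h1 : ∀ x, (g : Perm (Fin (n + 1))) x ≠ Fin.last n ↔ x ≠ Fin.last n := by
      intro x
      rw [not_iff_not]
      constructor
      · intro h
        apply (g : Perm (Fin (n + 1))).injective
        rw [h, hg]
      · rintro rfl; exact hg
    let h : Perm (Fin n) := e.symm.permCongr ((g : Perm (Fin (n + 1))).subtypePerm h1)
    have h2 : Equiv.Perm.extendDomain h e = g := by
      ext x
      by_cases hx : x = Fin.last n
      · rw [Equiv.Perm.extendDomain_apply_not_subtype h e (not_not.2 hx), hx, hg]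
      · rw [Equiv.Perm.extendDomain_apply_subtype h e hx]
        simp [h, Equiv.permCongr_apply, Equiv.Perm.subtypePerm_apply]
    have h3 : sign h = 1 := by
      rw [← Equiv.Perm.sign_extendDomain h e, h2]
      exact Equiv.Perm.mem_alternatingGroup.1 g.2
    exact ⟨⟨h, Equiv.Perm.mem_alternatingGroup.2 h3⟩, Subtype.ext h2⟩

/-! ### Translates of a vector fixed by a point stabilizer -/

section Gen

variable {K : Type*} [Field K] {V : Type*} [AddCommGroup V] [Module K V]
  {n : ℕ}

/-- three-cycles -/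
def tc (i j k : Fin n) (hij : i ≠ j) (hjk : j ≠ k) : alternatingGroup (Fin n) :=
  ⟨swap i j * swap j k, by
    rw [Equiv.Perm.mem_alternatingGroup, Equiv.Perm.sign_mul, sign_swap hij, sign_swap hjk]; rfl⟩

/-- double transpositions -/
def dt (i j k l : Fin n) (hij : i ≠ j) (hkl : k ≠ l) : alternatingGroup (Fin n) :=
  ⟨swap i j * swap k l, by
    rw [Equiv.Perm.mem_alternatingGroup, Equiv.Perm.sign_mul, sign_swap hij, sign_swap hkl]; rfl⟩

theorem exists_map (hn : 3 ≤ n) (i j : Fin n) : ∃ g : alternatingGroup (Fin n), (g : Perm (Fin n)) i = j := by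
  by_cases hij : i = j
  · exact ⟨1, by simp [hij]⟩
  obtain ⟨k, hk⟩ : ∃ k : Fin n, k ≠ i ∧ k ≠ j := by
    have : ∃ k, k ∉ ({i, j} : Finset (Fin n)) := by
      by_contra hno
      push Not at hno
      have h1 : (Finset.univ : Finset (Fin n)) ⊆ {i, j} := fun x _ => hno x
      have h2 := Finset.card_le_card h1
      rw [Finset.card_univ, Fintype.card_fin] at h2
      have h3 : ({i, j} : Finset (Fin n)).card ≤ 2 := Finset.card_le_two
      omega
    obtain ⟨k, hk⟩ := this
    simp only [Finset.mem_insert, Finset.mem_singleton, not_or] at hk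
    exact ⟨k, hk⟩
  refine ⟨tc i j k hij hk.2.symm, ?_⟩
  change (swap i j * swap j k) i = j
  rw [Equiv.Perm.mul_apply, swap_apply_of_ne_of_ne hij hk.1.symm, swap_apply_left]

theorem exists_translates (hn : 3 ≤ n) (σ : alternatingGroup (Fin n) →* Module.End K V) (a : Fin n)
    (w : V) (hw : ∀ g : alternatingGroup (Fin n), (g : Perm (Fin n)) a = a → σ g w = w) :
    ∃ u : Fin n → V, u a = w ∧ ∀ (h : alternatingGroup (Fin n)) i,
      σ h (u i) = u ((h : Perm (Fin n)) i) := by
  choose g hg using exists_map hn a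
  refine ⟨fun i => σ (g i) w, hw _ (hg a), fun h i => ?_⟩
  rw [← mul_apply']
  have h1 : (((g ((h : Perm (Fin n)) i))⁻¹ * (h * g i) : alternatingGroup (Fin n)) : Perm (Fin n)) a = a := by
    change ((g ((h : Perm (Fin n)) i) : Perm (Fin n))⁻¹ * ((h : Perm (Fin n)) * (g i : Perm (Fin n)))) a = a
    rw [Equiv.Perm.mul_apply, Equiv.Perm.mul_apply, hg, Equiv.Perm.inv_eq_iff_eq, hg]
  have h2 := hw _ h1
  have h3 := congrArg (σ (g ((h : Perm (Fin n)) i))) h2
  rwa [← mul_apply', mul_inv_cancel_left] at h3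

variable {σ : alternatingGroup (Fin n) →* Module.End K V} {u : Fin n → V}

/-- Relations are permuted. -/
theorem rel_comp (hu : ∀ (h : alternatingGroup (Fin n)) i, σ h (u i) = u ((h : Perm (Fin n)) i))
    {x : Fin n → K} (hx : ∑ i, x i • u i = 0) (h : alternatingGroup (Fin n)) :
    ∑ i, x ((h : Perm (Fin n)) i) • u i = 0 := by
  have h1 := congrArg (σ h⁻¹) hx
  rw [map_sum, map_zero] at h1
  rw [← h1]
  rw [← Equiv.sum_comp (h : Perm (Fin n)) (fun i => σ h⁻¹ (x i • u i))]
  refine Finset.sum_congr rfl fun i _ => ?_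
  rw [map_smul, hu]
  refine congrArg (fun v => x ((h : Perm (Fin n)) i) • v) ?_
  change u i = u ((h : Perm (Fin n))⁻¹ ((h : Perm (Fin n)) i))
  simp

/-- The effect of a double transposition on a relation. -/
theorem rel_dt (hu : ∀ (h : alternatingGroup (Fin n)) i, σ h (u i) = u ((h : Perm (Fin n)) i))
    {x : Fin n → K} (hx : ∑ i, x i • u i = 0) {i j l m : Fin n} (hij : i ≠ j) (hil : i ≠ l)
    (him : i ≠ m) (hjl : j ≠ l) (hjm : j ≠ m) (hlm : l ≠ m) :
    (x i - x j) • (u i - u j) + (x l - x m) • (u l - u m) = 0 := by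
  have h1 := rel_comp hu hx (dt i j l m hij hlm)
  have h2 : ∑ k, (x k - x ((dt i j l m hij hlm : Perm (Fin n)) k)) • u k = 0 := by
    simp only [sub_smul, Finset.sum_sub_distrib, hx, h1, sub_self]
  have h3 : ∀ k, (dt i j l m hij hlm : Perm (Fin n)) k = swap i j (swap l m k) := fun k => rfl
  have hs : ∑ k, (x k - x ((dt i j l m hij hlm : Perm (Fin n)) k)) • u k =
      ∑ k ∈ ({i, j, l, m} : Finset (Fin n)), (x k - x ((dt i j l m hij hlm : Perm (Fin n)) k)) • u k := by
    symm
    refine Finset.sum_subset (Finset.subset_univ _) fun k _ hk => ?_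
    simp only [Finset.mem_insert, Finset.mem_singleton, not_or] at hk
    rw [h3, swap_apply_of_ne_of_ne hk.2.2.1 hk.2.2.2, swap_apply_of_ne_of_ne hk.1 hk.2.1, sub_self,
      zero_smul]
  rw [hs, Finset.sum_insert (by simp [hij, hil, him]), Finset.sum_insert (by simp [hjl, hjm]),
    Finset.sum_insert (by simp [hlm]), Finset.sum_singleton, h3, h3, h3, h3,
    swap_apply_of_ne_of_ne hil him, swap_apply_left, swap_apply_of_ne_of_ne hjl hjm,
    swap_apply_right, swap_apply_left, swap_apply_of_ne_of_ne him.symm hjm.symm, swap_apply_right,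
    swap_apply_of_ne_of_ne hil.symm hjl.symm] at h2
  rw [← h2]
  simp only [sub_smul, smul_sub]
  abel

/-- If there is a non-constant relation then all the vectors are equal. -/
theorem eq_of_rel (hn : 6 ≤ n) (h2 : (2 : K) ≠ 0)
    (hu : ∀ (h : alternatingGroup (Fin n)) i, σ h (u i) = u ((h : Perm (Fin n)) i))
    {x : Fin n → K} (hx : ∑ i, x i • u i = 0) {i j : Fin n} (hij : x i ≠ x j) (k l : Fin n) :
    u k = u l := by
  have hij' : i ≠ j := fun h => hij (by rw [h])
  -- four further indices
  obtain ⟨s, hs, hs4⟩ : ∃ s : Finset (Fin n), s ⊆ Finset.univ \ {i, j} ∧ s.card = 4 := by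
    refine Finset.exists_subset_card_eq ?_
    rw [Finset.card_sdiff_of_subset (Finset.subset_univ _), Finset.card_univ, Fintype.card_fin,
      Finset.card_pair hij']
    omega
  obtain ⟨p, q, r, t, hpq, hpr, hpt, hqr, hqt, hrt, rfl⟩ := Finset.card_eq_four.1 hs4
  have hp := hs (show p ∈ _ by simp)
  have hq := hs (show q ∈ _ by simp)
  have hr := hs (show r ∈ _ by simp)
  have ht := hs (show t ∈ _ by simp)
  simp only [Finset.mem_sdiff, Finset.mem_univ, true_and, Finset.mem_insert,
    Finset.mem_singleton, not_or] at hp hq hr ht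
  have e1 := rel_dt hu hx hij' (Ne.symm hp.1) (Ne.symm hq.1) (Ne.symm hp.2) (Ne.symm hq.2) hpq
  have e2 := rel_dt hu hx hij' (Ne.symm hr.1) (Ne.symm ht.1) (Ne.symm hr.2) (Ne.symm ht.2) hrt
  have e3 := rel_dt hu hx hpq hpr hpt hqr hqt hrt
  have e4 : (2 : K) • ((x i - x j) • (u i - u j)) = 0 := by
    rw [two_smul]
    have : (x i - x j) • (u i - u j) + (x i - x j) • (u i - u j) =
      ((x i - x j) • (u i - u j) + (x p - x q) • (u p - u q)) +
      ((x i - x j) • (u i - u j) + (x r - x t) • (u r - u t)) -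
      ((x p - x q) • (u p - u q) + (x r - x t) • (u r - u t)) := by abel
    rw [this, e1, e2, e3]
    simp
  have e5 : u i = u j := by
    have h3 := (smul_eq_zero.1 e4).resolve_left h2
    exact sub_eq_zero.1 ((smul_eq_zero.1 h3).resolve_left (sub_ne_zero.2 hij))
  have key : ∀ k, u k = u i := by
    intro k
    by_cases hki : k = i
    · rw [hki]
    by_cases hkj : k = j
    · rw [hkj, e5]
    have h3 := congrArg (σ (tc i j k hij' (Ne.symm hkj))) e5
    rw [hu, hu] at h3
    have h4 : (tc i j k hij' (Ne.symm hkj) : Perm (Fin n)) i = j := by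
      change (swap i j * swap j k) i = j
      rw [Equiv.Perm.mul_apply, swap_apply_of_ne_of_ne hij' (Ne.symm hki), swap_apply_left]
    have h5 : (tc i j k hij' (Ne.symm hkj) : Perm (Fin n)) j = k := by
      change (swap i j * swap j k) j = k
      rw [Equiv.Perm.mul_apply, swap_apply_left, swap_apply_of_ne_of_ne hki hkj]
    rw [h4, h5] at h3
    rw [← h3, e5]
  rw [key k, key l]

variable [FiniteDimensional K V]

/-- The dichotomy: either all `u i` are equal or the only relations are the constants. -/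
theorem dichotomy (hn : 6 ≤ n) (h2 : (2 : K) ≠ 0)
    (hu : ∀ (h : alternatingGroup (Fin n)) i, σ h (u i) = u ((h : Perm (Fin n)) i))
    (hV : finrank K V < n) :
    (∀ k l, u k = u l) ∨ (∑ i, u i = 0 ∧ n ≤ finrank K V + 1 ∧
      ∀ x : Fin n → K, ∑ i, x i • u i = 0 → ∀ i j, x i = x j) := by
  by_cases hc : ∃ (x : Fin n → K) (i j : Fin n), ∑ i, x i • u i = 0 ∧ x i ≠ x j
  · obtain ⟨x, i, j, hx, hij⟩ := hc
    exact Or.inl (eq_of_rel hn h2 hu hx hij)
  · right
    push Not at hc
    have hdep : ¬ LinearIndependent K u := by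
      intro h
      have := h.fintype_card_le_finrank
      rw [Fintype.card_fin] at this
      omega
    rw [Fintype.not_linearIndependent_iff] at hdep
    obtain ⟨x, hx, i, hi⟩ := hdep
    have hconst : ∀ j, x j = x i := fun j => hc x j i hx
    have hsum : ∑ i, u i = 0 := by
      have h1 : x i • ∑ j, u j = 0 := by
        rw [Finset.smul_sum, ← hx]
        exact Finset.sum_congr rfl fun j _ => by rw [hconst j]
      exact (smul_eq_zero.1 h1).resolve_left hi
    refine ⟨hsum, ?_, fun x hx i j => hc x i j hx⟩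
    -- `u` restricted to the indices different from a point is independent
    have hli : LinearIndependent K (fun j : {j : Fin n // j ≠ i} => u j) := by
      rw [Fintype.linearIndependent_iff]
      intro y hy j
      let y' : Fin n → K := fun k => if h : k ≠ i then y ⟨k, h⟩ else 0
      have h1 : ∑ k, y' k • u k = 0 := by
        rw [← Finset.sum_subset (Finset.subset_univ (Finset.univ.filter (· ≠ i)))]
        · rw [Finset.sum_subtype (Finset.univ.filter (· ≠ i)) (p := fun k => k ≠ i) (by simp)]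
          rw [← hy]
          refine Finset.sum_congr rfl fun k _ => ?_
          simp only [y']
          rw [dif_pos k.2]
        · intro k _ hk
          simp only [Finset.mem_filter, Finset.mem_univ, true_and, not_not] at hk
          simp only [y']
          rw [dif_neg (not_not.2 hk), zero_smul]
      have h2 := hc y' j i h1
      simp only [y'] at h2
      rw [dif_pos j.2, dif_neg (not_not.2 rfl)] at h2
      exact h2
    have h3 := hli.fintype_card_le_finrank
    rw [Fintype.card_subtype_compl, Fintype.card_fin, Fintype.card_subtype_eq] at h3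
    omega

/-- The trace of the permutation module modulo the constants. -/
theorem trace_eq {m : ℕ} [NeZero m] {σ : alternatingGroup (Fin (m + 1)) →* Module.End K V}
    {u : Fin (m + 1) → V} (hsum : ∑ i, u i = 0)
    (hrel : ∀ x : Fin (m + 1) → K, ∑ i, x i • u i = 0 → ∀ i j, x i = x j) (hV : finrank K V = m)
    (hu : ∀ (h : alternatingGroup (Fin (m + 1))) i, σ h (u i) = u ((h : Perm (Fin (m + 1))) i))
    (h : alternatingGroup (Fin (m + 1))) :
    LinearMap.trace K V (σ h) =
      ((Finset.univ.filter fun i => (h : Perm (Fin (m + 1))) i = i).card : K) - 1 := by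
  classical
  have hli : LinearIndependent K (fun j : Fin m => u j.castSucc) := by
    rw [Fintype.linearIndependent_iff]
    intro y hy j
    let y' : Fin (m + 1) → K := Fin.lastCases 0 y
    have h1 : ∑ k, y' k • u k = 0 := by
      rw [Fin.sum_univ_castSucc]
      simp only [y', Fin.lastCases_castSucc, Fin.lastCases_last, zero_smul, add_zero]
      exact hy
    have h2 := hrel y' h1 j.castSucc (Fin.last m)
    simpa [y'] using h2
  let b : Basis (Fin m) K V := basisOfLinearIndependentOfCardEqFinrank hli (by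
    rw [Fintype.card_fin, hV])
  have hb : ∀ j, b j = u j.castSucc := fun j => by
    simp [b]
  have hlast : u (Fin.last m) = ∑ j, (-1 : K) • b j := by
    have h1 := hsum
    rw [Fin.sum_univ_castSucc] at h1
    rw [← Finset.smul_sum]
    simp only [hb]
    rw [neg_one_smul, eq_neg_iff_add_eq_zero, add_comm]
    exact h1
  rw [LinearMap.trace_eq_matrix_trace K b, Matrix.trace]
  have hdiag : ∀ j : Fin m, (LinearMap.toMatrix b b (σ h)).diag j =
      (if (h : Perm (Fin (m + 1))) j.castSucc = j.castSucc then 1 else 0) -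
      (if (h : Perm (Fin (m + 1))) j.castSucc = Fin.last m then 1 else 0) := by
    intro j
    rw [Matrix.diag_apply, LinearMap.toMatrix_apply, hb, hu]
    rcases Fin.eq_castSucc_or_eq_last ((h : Perm (Fin (m + 1))) j.castSucc) with ⟨k, hk⟩ | hk
    · rw [hk, ← hb, Basis.repr_self, Finsupp.single_apply, if_neg (Fin.castSucc_lt_last k).ne, sub_zero]
      simp only [Fin.castSucc_inj]
    · rw [hk, hlast, map_sum, if_pos rfl, if_neg (Fin.castSucc_lt_last j).ne']
      simp [Finsupp.single_apply]
  rw [Finset.sum_congr rfl fun j _ => hdiag j, Finset.sum_sub_distrib]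
  have hcount : ((Finset.univ.filter fun i => (h : Perm (Fin (m + 1))) i = i).card : K) =
      (∑ j : Fin m, (if (h : Perm (Fin (m + 1))) j.castSucc = j.castSucc then (1 : K) else 0)) +
      (if (h : Perm (Fin (m + 1))) (Fin.last m) = Fin.last m then 1 else 0) := by
    rw [← Fin.sum_univ_castSucc (fun i => if (h : Perm (Fin (m + 1))) i = i then (1 : K) else 0)]
    rw [Finset.sum_ite, Finset.sum_const_zero, add_zero, Finset.sum_const, nsmul_eq_mul, mul_one]
  have hone : (∑ j : Fin m, (if (h : Perm (Fin (m + 1))) j.castSucc = Fin.last m then (1 : K) else 0)) +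
      (if (h : Perm (Fin (m + 1))) (Fin.last m) = Fin.last m then 1 else 0) = 1 := by
    rw [← Fin.sum_univ_castSucc (fun i => if (h : Perm (Fin (m + 1))) i = Fin.last m then (1 : K) else 0)]
    have h1 : ∀ i, (if (h : Perm (Fin (m + 1))) i = Fin.last m then (1 : K) else 0) =
        if i = (h : Perm (Fin (m + 1)))⁻¹ (Fin.last m) then 1 else 0 := by
      intro i
      congr 1
      rw [eq_iff_iff, Equiv.Perm.eq_inv_iff_eq]
    rw [Finset.sum_congr rfl fun i _ => h1 i, Finset.sum_ite_eq' Finset.univ]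
    simp
  rw [hcount]
  linear_combination -hone

end Gen


section Eight

variable {K : Type*} [Field K] {V : Type*} [AddCommGroup V] [Module K V] [FiniteDimensional K V]

/-- `A₈` in dimension 7, the restriction to the point stabilizer having a fixed vector. -/
theorem eight_cases (h2 : (2 : K) ≠ 0) (σ : alternatingGroup (Fin 8) →* Module.End K V)
    (hV : finrank K V = 7) {w : V}
    (hw : ∀ g : alternatingGroup (Fin 8), (g : Perm (Fin 8)) (Fin.last 7) = Fin.last 7 → σ g w = w) :
    (∀ g, σ g w = w) ∨ ∀ h : alternatingGroup (Fin 8), LinearMap.trace K V (σ h) =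
      ((Finset.univ.filter fun i => (h : Perm (Fin 8)) i = i).card : K) - 1 := by
  obtain ⟨u, hua, hu⟩ := exists_translates (by norm_num) σ (Fin.last 7) w hw
  rcases dichotomy (by norm_num) h2 hu (by rw [hV]; norm_num) with h | ⟨h, -, hrel⟩
  · left
    intro g
    rw [← hua, hu]
    exact h _ _
  · right
    exact trace_eq h hrel hV hu

/-- `A₉` in dimension 7, the restriction to `A₈` having a fixed vector. -/
theorem nine_fixed (h2 : (2 : K) ≠ 0) (σ : alternatingGroup (Fin 9) →* Module.End K V)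
    (hV : finrank K V = 7) {w : V}
    (hw : ∀ g : alternatingGroup (Fin 9), (g : Perm (Fin 9)) (Fin.last 8) = Fin.last 8 → σ g w = w) :
    ∀ g, σ g w = w := by
  obtain ⟨u, hua, hu⟩ := exists_translates (by norm_num) σ (Fin.last 8) w hw
  rcases dichotomy (by norm_num) h2 hu (by rw [hV]; norm_num) with h | ⟨-, h, -⟩
  · intro g
    rw [← hua, hu]
    exact h _ _
  · omega

end Eight

/-- the number of fixed points of the inverse -/
theorem card_fix_inv {n : ℕ} (h : Perm (Fin n)) :
    (Finset.univ.filter fun i => h⁻¹ i = i).card = (Finset.univ.filter fun i => h i = i).card := by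
  congr 1
  ext i
  simp only [Finset.mem_filter, Finset.mem_univ, true_and]
  rw [Equiv.Perm.inv_eq_iff_eq]
  exact eq_comm

/-! ### Real elements of `A₉` -/

theorem isConj_inv_of {r τ : Perm (Fin 9)} (hτ : sign τ = 1) (hr : τ * r * τ⁻¹ = r⁻¹)
    {g : alternatingGroup (Fin 9)} (hg : r.cycleType = (g : Perm (Fin 9)).cycleType) :
    IsConj g g⁻¹ := by
  obtain ⟨c, hc⟩ := isConj_iff.1 (isConj_iff_cycleType_eq.2 hg)
  rw [isConj_iff]
  refine ⟨⟨c * τ * c⁻¹, ?_⟩, ?_⟩
  · rw [Equiv.Perm.mem_alternatingGroup, Equiv.Perm.sign_mul, Equiv.Perm.sign_mul, hτ, mul_one,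
      Equiv.Perm.sign_inv, Int.units_mul_self]
  · apply Subtype.ext
    change c * τ * c⁻¹ * (g : Perm (Fin 9)) * (c * τ * c⁻¹)⁻¹ = (g : Perm (Fin 9))⁻¹
    rw [← hc]
    calc c * τ * c⁻¹ * (c * r * c⁻¹) * (c * τ * c⁻¹)⁻¹ = c * (τ * r * τ⁻¹) * c⁻¹ := by group
      _ = (c * r * c⁻¹)⁻¹ := by rw [hr]; group

set_option maxRecDepth 100000 in
/-- Fixed-point-free elements of `A₉` are real. -/
theorem real_nine (g : alternatingGroup (Fin 9)) (hg : ∀ i, (g : Perm (Fin 9)) i ≠ i) :
    IsConj g g⁻¹ := by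
  set m := (g : Perm (Fin 9)).cycleType with hm
  have hsum : m.sum = 9 := by
    rw [hm, sum_cycleType]
    have : (g : Perm (Fin 9)).support = Finset.univ := by
      ext i
      simp [hg i]
    rw [this, Finset.card_univ, Fintype.card_fin]
  have h2 : ∀ x ∈ m, 2 ≤ x := fun x hx => two_le_of_mem_cycleType hx
  have hcard : Odd m.card := by
    have h3 := sign_of_cycleType (g : Perm (Fin 9))
    rw [Equiv.Perm.mem_alternatingGroup.1 g.2, ← hm, hsum] at h3
    by_contra hno
    rw [Nat.not_odd_iff_even] at hno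
    have h4 : Odd (9 + m.card) := by
      obtain ⟨k, hk⟩ := hno
      exact ⟨4 + k, by omega⟩
    rw [h4.neg_one_pow] at h3
    exact absurd h3 (by decide)
  have hle : 2 * m.card ≤ 9 := by
    have h3 := Multiset.card_nsmul_le_sum h2
    rw [hsum, nsmul_eq_mul] at h3
    push_cast at h3
    omega
  have hcard' : m.card = 1 ∨ m.card = 3 := by
    obtain ⟨k, hk⟩ := hcard
    omega
  rcases hcard' with h1 | h3
  · obtain ⟨x, hx⟩ := Multiset.card_eq_one.1 h1
    have hx9 : x = 9 := by rw [hx, Multiset.sum_singleton] at hsum; exact hsum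
    refine isConj_inv_of (r := swap (0 : Fin 9) 1 * swap (1 : Fin 9) 2 * swap (2 : Fin 9) 3 * swap (3 : Fin 9) 4 * swap (4 : Fin 9) 5 * swap (5 : Fin 9) 6 *
      swap (6 : Fin 9) 7 * swap (7 : Fin 9) 8) (τ := swap (1 : Fin 9) 8 * swap (2 : Fin 9) 7 * swap (3 : Fin 9) 6 * swap (4 : Fin 9) 5) (by decide) (by decide) ?_
    rw [← hm, hx, hx9]
    decide +kernel
  · obtain ⟨x, y, z, hxyz⟩ := Multiset.card_eq_three.1 h3
    have hx := h2 x (by rw [hxyz]; simp)
    have hy := h2 y (by rw [hxyz]; simp)
    have hz := h2 z (by rw [hxyz]; simp)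
    have hs : x + y + z = 9 := by
      rw [hxyz] at hsum
      simpa [add_assoc] using hsum
    have hcases : m = {2, 2, 5} ∨ m = {2, 3, 4} ∨ m = {3, 3, 3} := by
      have hx5 : x ≤ 5 := by omega
      have hy5 : y ≤ 5 := by omega
      rw [hxyz]
      interval_cases x <;> interval_cases y <;>
        first
        | omega
        | (have hz' : z = 5 := by omega
           subst hz'; decide)
        | (have hz' : z = 4 := by omega
           subst hz'; decide)
        | (have hz' : z = 3 := by omega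
           subst hz'; decide)
        | (have hz' : z = 2 := by omega
           subst hz'; decide)
    rcases hcases with h | h | h
    · refine isConj_inv_of (r := swap (0 : Fin 9) 1 * swap (2 : Fin 9) 3 * swap (4 : Fin 9) 5 * swap (5 : Fin 9) 6 * swap (6 : Fin 9) 7 * swap (7 : Fin 9) 8)
        (τ := swap (5 : Fin 9) 8 * swap (6 : Fin 9) 7) (by decide) (by decide) ?_
      rw [← hm, h]
      decide +kernel
    · refine isConj_inv_of (r := swap (0 : Fin 9) 1 * swap (2 : Fin 9) 3 * swap (3 : Fin 9) 4 * swap (5 : Fin 9) 6 * swap (6 : Fin 9) 7 * swap (7 : Fin 9) 8)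
        (τ := swap (3 : Fin 9) 4 * swap (6 : Fin 9) 8) (by decide) (by decide) ?_
      rw [← hm, h]
      decide +kernel
    · refine isConj_inv_of (r := swap (0 : Fin 9) 1 * swap (1 : Fin 9) 2 * swap (3 : Fin 9) 4 * swap (4 : Fin 9) 5 * swap (6 : Fin 9) 7 * swap (7 : Fin 9) 8)
        (τ := swap (1 : Fin 9) 2 * swap (4 : Fin 9) 5 * swap (7 : Fin 9) 8 * (swap (0 : Fin 9) 3 * swap (1 : Fin 9) 4 * swap (2 : Fin 9) 5)) (by decide)
        (by decide) ?_
      rw [← hm, h]
      decide +kernel

/-! ### The statements on matrices -/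

section Mat

variable {F : Type*} [Field F] {n : ℕ} {G : Type*} [Group G]

/-- The representation on column vectors. -/
noncomputable def lin (ρ : G →* Matrix.GeneralLinearGroup (Fin n) F) : G →* Module.End F (Fin n → F) :=
  ((Matrix.toLinAlgEquiv' (R := F) (n := Fin n)).toAlgHom.toRingHom.toMonoidHom).comp
    ((Units.coeHom (Matrix (Fin n) (Fin n) F)).comp ρ)

open Matrix in
theorem lin_apply (ρ : G →* Matrix.GeneralLinearGroup (Fin n) F) (g : G) (v : Fin n → F) :
    lin ρ g v = (ρ g : Matrix (Fin n) (Fin n) F) *ᵥ v := rfl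

theorem trace_lin (ρ : G →* Matrix.GeneralLinearGroup (Fin n) F) (g : G) :
    LinearMap.trace F _ (lin ρ g) = (ρ g : Matrix (Fin n) (Fin n) F).trace := by
  change LinearMap.trace F _ (Matrix.toLin' (ρ g : Matrix (Fin n) (Fin n) F)) = _
  rw [Matrix.trace_toLin'_eq]

theorem trace_conj (ρ : G →* Matrix.GeneralLinearGroup (Fin n) F) (s g : G) :
    (ρ (s * g * s⁻¹) : Matrix (Fin n) (Fin n) F).trace = (ρ g : Matrix (Fin n) (Fin n) F).trace := by
  rw [map_mul, map_mul, map_inv, Units.val_mul, Units.val_mul, Matrix.trace_mul_comm, ← mul_assoc,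
    ← Units.val_mul, inv_mul_cancel, Units.val_one, one_mul]

end Mat

/-- The trace formula for `A₈`. -/
theorem eight_trace {F : Type*} [Field F] (h2 : (2 : F) ≠ 0)
    (ρ : alternatingGroup (Fin 8) →* Matrix.GeneralLinearGroup (Fin 7) F) :
    (∃ w : Fin 7 → F, w ≠ 0 ∧ ∀ g, lin ρ g w = w) ∨ ∀ h : alternatingGroup (Fin 8),
      (ρ h : Matrix (Fin 7) (Fin 7) F).trace =
        ((Finset.univ.filter fun i => (h : Perm (Fin 8)) i = i).card : F) - 1 := by
  obtain ⟨ι, hι⟩ := exists_stab_hom 7
  obtain ⟨w, hw, hfix⟩ := Cfsg.Agent.H637.SevenA7.exists_fixed_matrix (ρ.comp ι)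
  rcases eight_cases h2 (lin ρ) (by rw [Module.finrank_fin_fun]) (w := w) (by
    intro g hg
    obtain ⟨g', rfl⟩ := hι g hg
    exact hfix g') with h | h
  · exact Or.inl ⟨w, hw, h⟩
  · right
    intro g
    rw [← trace_lin]
    exact h g

theorem seven_A8 {F : Type*} [Field F] [Finite F]
    (ρ : alternatingGroup (Fin 8) →* Matrix.GeneralLinearGroup (Fin 7) F)
    (habs : Cfsg.Geo.ActsAbsolutelyIrreducibly (Cfsg.Geo.matrixSet ρ.range)) (h2 : (2 : F) ≠ 0) :
    ∀ g, ((ρ g⁻¹ : Matrix.GeneralLinearGroup (Fin 7) F) : Matrix (Fin 7) (Fin 7) F).trace =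
      ((ρ g : Matrix.GeneralLinearGroup (Fin 7) F) : Matrix (Fin 7) (Fin 7) F).trace := by
  rcases eight_trace h2 ρ with ⟨w, hw, h⟩ | h
  · exact (Cfsg.Agent.H637.SevenA7.false_of_fixed (by norm_num) ρ habs.1 hw h).elim
  · intro g
    rw [h, h]
    have := card_fix_inv (g : Perm (Fin 8))
    rw [← this]
    rfl

theorem seven_A9 {F : Type*} [Field F] [Finite F]
    (ρ : alternatingGroup (Fin 9) →* Matrix.GeneralLinearGroup (Fin 7) F)
    (habs : Cfsg.Geo.ActsAbsolutelyIrreducibly (Cfsg.Geo.matrixSet ρ.range)) (h2 : (2 : F) ≠ 0) :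
    ∀ g, ((ρ g⁻¹ : Matrix.GeneralLinearGroup (Fin 7) F) : Matrix (Fin 7) (Fin 7) F).trace =
      ((ρ g : Matrix.GeneralLinearGroup (Fin 7) F) : Matrix (Fin 7) (Fin 7) F).trace := by
  obtain ⟨ι, hι⟩ := exists_stab_hom 8
  rcases eight_trace h2 (ρ.comp ι) with ⟨w, hw, h⟩ | h
  · exfalso
    have h9 := nine_fixed h2 (lin ρ) (by rw [Module.finrank_fin_fun]) (w := w) (by
      intro g hg
      obtain ⟨g', rfl⟩ := hι g hg
      exact h g')
    exact Cfsg.Agent.H637.SevenA7.false_of_fixed (by norm_num) ρ habs.1 hw h9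
  · intro g
    by_cases hg : ∀ i, (g : Perm (Fin 9)) i ≠ i
    · obtain ⟨s, hs⟩ := isConj_iff.1 (real_nine g hg)
      rw [← hs, trace_conj]
    · push Not at hg
      obtain ⟨i, hi⟩ := hg
      obtain ⟨s, hs⟩ := exists_map (n := 9) (by norm_num) i (Fin.last 8)
      obtain ⟨g', hg'⟩ := hι (s * g * s⁻¹) (by
        change (s : Perm (Fin 9)) ((g : Perm (Fin 9)) ((s : Perm (Fin 9))⁻¹ (Fin.last 8))) = _
        have h3 : (s : Perm (Fin 9))⁻¹ (Fin.last 8) = i := by rw [Equiv.Perm.inv_eq_iff_eq, hs]
        rw [h3, hi, hs])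
      have h4 : s * g⁻¹ * s⁻¹ = ι g'⁻¹ := by rw [map_inv, hg']; group
      rw [← trace_conj ρ s g⁻¹, ← trace_conj ρ s g, h4, ← hg']
      have h5 := h g'
      have h6 := h g'⁻¹
      rw [MonoidHom.comp_apply] at h5 h6
      rw [h5, h6]
      have := card_fix_inv (g' : Perm (Fin 8))
      rw [← this]
      rfl

end Cfsg.Agent.H637.SevenA8

private theorem dce_dccc0ace4b14 : _root_.True := by
  try have : _root_.True := by simp only [_root_.Cfsg.Agent.H637.SevenA8.dt.congr_simp]
  exact _root_.True.intro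
end
end
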