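import Mathlib
import Cfsg.Agent.Blocks.ModularTraces
import Cfsg.Agent.H637.A7Cov
import Cfsg.Agent.H906.Cover_m3
import Cfsg.Agent.S2116
import Cfsg.Agent.Lib.FinFast
import Cfsg.Agent.Prune
set_option linter.all false
prune_inst 0x7fffa9fbbbfcf9fffffb7e7ffeddfffdfbbbbfffa6dff9cbffe861ffabdf7b82c9c56bad8fe010fc0ed7e21490f87b53fb7eeeffe86bd87ffffdfff41ffbffdffdf73508511488341fbe2ff783f0778e7f3fffffffffffffffffffffffffffbeffbfffffffff
open scoped Cfsg.Agent.FastGrp

-- part: H637/A7Mat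
section
/-!
# The four-dimensional representation of `2.A₇` over `ℤ[b]`, `b² + b + 2 = 0` (helper637)

`S b i`, `i < 5` : matrices with `S i ^ 3 = 1`, `(S i * S j) ^ 2 = -1` (`i ≠ j`) over a commutative ring with `b² + b + 2 = 0`.

The identities are identities of pairs of integer matrices, checked in the kernel.
-/

set_option autoImplicit false

namespace Cfsg.Agent.H637.A7Mat

open Matrix

/-- `X.1 + b X.2` -/
abbrev MZ := Matrix (Fin 4) (Fin 4) ℤ × Matrix (Fin 4) (Fin 4) ℤ

/-- the product -/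
def mm (X Y : MZ) : MZ := (X.1 * Y.1 - (2 : ℤ) • (X.2 * Y.2), X.1 * Y.2 + X.2 * Y.1 - X.2 * Y.2)

/-- the transpose -/
def tt (X : MZ) : MZ := (X.1ᵀ, X.2ᵀ)

/-- a scalar -/
def sc (c : ℤ × ℤ) : MZ := (c.1 • (1 : Matrix (Fin 4) (Fin 4) ℤ), c.2 • (1 : Matrix (Fin 4) (Fin 4) ℤ))

/-- the conjugate `b ↦ -1 - b` -/
def cc (X : MZ) : MZ := (X.1 - X.2, - X.2)

/-- a matrix unit -/
def eu (i j : Fin 4) : MZ := (Matrix.single i j 1, 0)

/-- the generators -/
def SZ : Fin 5 → MZ := ![
  (!![0, -1, -1, 1; 1, -1, -1, 0; 0, 0, -1, 1; 0, 0, -1, 0],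
   !![0, 0, 0, 0; 0, 0, 0, 0; 0, 0, 0, 0; 0, 0, 0, 0]),
    (!![0, 0, -1, 0; 0, 0, 0, -1; 1, 0, -1, 0; 0, 1, 0, -1],
   !![0, 0, 0, 0; 0, 0, 0, 0; 0, 0, 0, 0; 0, 0, 0, 0]),
    (!![1, 0, -1, 0; 1, -1, -1, 1; 1, 0, -2, 0; 0, 1, -1, 0],
   !![0, 1, 1, -1; 0, 1, 0, 0; 1, 0, 0, -1; 0, 1, 0, -1]),
    (!![1, -1, -2, 1; 1, -2, -1, 1; 0, 0, -2, 1; 0, 0, -1, 1],
   !![1, 0, 0, 0; 0, 0, 0, 1; 1, 0, -1, 0; 0, 1, 0, 0]),
    (!![0, -1, -2, 1; 1, -2, -1, 0; -1, 0, -1, 1; 0, -1, -1, 1],
   !![1, 0, -1, 0; 1, -1, -1, 1; 0, 0, -1, 0; 0, 0, -1, 1])]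

/-- a word -/
def wd : List (Fin 5) → MZ
  | [] => sc (1, 0)
  | i :: l => mm (SZ i) (wd l)

/-- the element of order seven -/
def xZ : MZ := wd [0, 1, 2, 3, 4]

/-- its powers -/
def xp : ℕ → MZ
  | 0 => sc (1, 0)
  | n + 1 => mm xZ (xp n)

/-- the row -/
def phiZ : MZ := (!![-1, 1, 2, 0; 0, 0, 0, 0; 0, 0, 0, 0; 0, 0, 0, 0],
  !![-2, 1, 1, 0; 0, 0, 0, 0; 0, 0, 0, 0; 0, 0, 0, 0])

/-- the matrix `φᵀ φ` -/
def PhiZ : MZ := mm (tt phiZ) phiZ

/-- the form -/
def HZ : MZ := (!![-1, 1, 2, 0; 0, -1, 0, -1; -1, -1, -1, 1; 0, 2, 0, -1],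
   !![-2, 1, 1, 0; 1, -2, -1, 1; 1, -1, -2, 1; 0, 1, 1, -2])

def HiZ : MZ := (!![1, 1, 2, 1; 0, 1, 0, -1; -1, 0, 1, 1; 0, 2, 0, 1],
   !![2, 1, 1, 1; 1, 2, 0, 1; 1, 0, 2, 1; 1, 1, 1, 2])

def rowsZ : MZ := (!![-1, 1, 2, 0; 1, 0, -2, 1; 2, 0, -1, -1; -2, 1, 1, -1],
   !![-2, 1, 1, 0; 1, 1, 0, -1; 1, 0, 1, -1; 0, -1, -1, 0])

def linvZ : MZ := (!![-1, 0, -1, 1; -2, -2, -1, -1; -1, 1, 0, 1; -1, -1, 1, 1],
   !![1, 0, 0, 1; 0, -1, 1, 1; 0, 1, -1, 1; 1, 1, 1, 2])

def cw : List (List (Fin 5)) := [[3, 2], [1], [3, 0], [2, 0], [0], [4, 4], [2], [2, 3], [1, 0, 0], [3, 1, 0]]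

def rw' : List (List (Fin 5)) := [[1], [3, 2], [], [4, 4], [0, 4], [0, 0], [4, 0], [0, 3], [3, 3], [0, 0, 4]]

def Ct : List (List (ℤ × ℤ)) := [
    [(8, 0), (8, 12), (4, -12), (0, -4), (16, 0), (4, 8), (4, 12), (0, -8), (8, 0), (8, -8)],
    [(-4, 0), (-6, -6), (-2, 6), (0, 2), (-10, 0), (-3, -5), (-3, -7), (0, 4), (-4, 0), (-4, 4)],
    [(-2, 4), (-12, -5), (10, 8), (2, 2), (-2, 6), (-8, -3), (-8, -4), (6, 4), (0, 4), (6, 8)],
    [(-2, 0), (0, -1), (0, 2), (-2, 0), (-2, 2), (-2, -1), (-2, -2), (0, 2), (-2, 0), (-2, 2)],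
    [(-4, 0), (-6, -6), (-2, 6), (0, 2), (-10, 0), (-3, -5), (-3, -7), (0, 4), (-4, 0), (-4, 4)],
    [(0, 0), (0, 0), (0, 0), (0, 0), (4, 0), (0, 0), (0, 0), (0, 0), (0, 0), (0, 0)],
    [(2, -4), (10, 2), (-10, -8), (-2, -2), (2, -6), (9, 3), (9, 3), (-6, -4), (0, -4), (-6, -8)],
    [(-2, 2), (-4, 0), (8, 6), (2, 0), (-2, 2), (-6, -2), (-6, 0), (4, 2), (0, 4), (4, 4)],
    [(-2, 4), (-12, -5), (10, 8), (2, 2), (-2, 6), (-8, -3), (-8, -4), (6, 4), (0, 4), (6, 8)],
    [(2, -4), (10, 2), (-10, -8), (-2, -2), (2, -6), (9, 3), (9, 3), (-6, -4), (0, -4), (-6, -8)],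
    [(0, 0), (4, 0), (0, 0), (0, 0), (0, 0), (0, 0), (0, 0), (0, 0), (0, 0), (0, 0)],
    [(-6, -4), (0, -3), (-8, 4), (0, 0), (-8, -4), (2, -5), (0, -4), (-4, 2), (-6, -2), (-8, 0)],
    [(-2, 0), (0, -1), (0, 2), (-2, 0), (-2, 2), (-2, -1), (-2, -2), (0, 2), (-2, 0), (-2, 2)],
    [(-2, 2), (-4, 0), (8, 6), (2, 0), (-2, 2), (-6, -2), (-6, 0), (4, 2), (0, 4), (4, 4)],
    [(-6, -4), (0, -3), (-8, 4), (0, 0), (-8, -4), (2, -5), (0, -4), (-4, 2), (-6, -2), (-8, 0)],
    [(12, 8), (-4, 6), (16, -8), (0, 0), (16, 8), (-4, 10), (0, 8), (8, -4), (16, 4), (16, 0)]]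

def Rt : List (List (ℤ × ℤ)) := [
    [(4, 0), (-8, -8), (8, -8), (4, 4), (-16, -8), (8, 8), (-4, -4), (-8, -8), (16, 8), (0, 16)],
    [(-3, 1), (2, -2), (6, 4), (-1, 3), (4, -4), (-4, 0), (-2, -2), (6, 0), (-8, 2), (-10, -2)],
    [(8, 4), (0, -10), (22, -1), (0, 4), (-14, -18), (0, 12), (2, -4), (-2, -13), (14, 18), (-20, 12)],
    [(3, 5), (2, -6), (18, 4), (1, 5), (-4, -14), (-6, 6), (0, -2), (6, -8), (0, 14), (-20, 4)],
    [(-3, 1), (2, -2), (6, 4), (-1, 3), (4, -4), (-4, 0), (-2, -2), (6, 0), (-8, 2), (-10, -2)],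
    [(2, -2), (4, -4), (16, 8), (-10, -6), (8, -8), (0, 8), (8, -8), (4, -4), (0, 4), (-28, -4)],
    [(-8, -2), (0, 0), (-2, -2), (-4, 6), (0, 0), (0, -6), (-10, -2), (2, 4), (-10, -6), (8, 4)],
    [(-5, -5), (-4, -6), (14, -4), (-13, 3), (-8, -12), (12, 6), (-10, -14), (-4, -4), (2, 0), (-10, 16)],
    [(8, 4), (0, -10), (22, -1), (0, 4), (-14, -18), (0, 12), (2, -4), (-2, -13), (14, 18), (-20, 12)],
    [(-8, -2), (0, 0), (-2, -2), (-4, 6), (0, 0), (0, -6), (-10, -2), (2, 4), (-10, -6), (8, 4)],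
    [(8, 12), (16, -4), (28, 18), (0, 0), (12, -20), (-24, 8), (16, 4), (20, -10), (-8, 24), (-48, -16)],
    [(-4, 8), (10, 2), (4, 11), (4, 6), (14, -4), (-22, -8), (2, 8), (20, 3), (-22, 6), (-12, -16)],
    [(3, 5), (2, -6), (18, 4), (1, 5), (-4, -14), (-6, 6), (0, -2), (6, -8), (0, 14), (-20, 4)],
    [(-5, -5), (-4, -6), (14, -4), (-13, 3), (-8, -12), (12, 6), (-10, -14), (-4, -4), (2, 0), (-10, 16)],
    [(-4, 8), (10, 2), (4, 11), (4, 6), (14, -4), (-22, -8), (2, 8), (20, 3), (-22, 6), (-12, -16)],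
    [(-12, 0), (-4, 0), (-4, -8), (0, 12), (-8, -4), (4, -8), (-20, -4), (4, 4), (-12, -4), (16, 12)]]

/-- `∑ cₖ Xₖ` -/
def lc : List (ℤ × ℤ) → List MZ → MZ
  | c :: cs, X :: Xs => mm (sc c) X + lc cs Xs
  | _, _ => 0

/-- `v vᵀ`, `v = w e₀` -/
def vv (w : List (Fin 5)) : MZ := mm (mm (wd w) (eu 0 0)) (tt (wd w))

/-- `(φ w)ᵀ (φ w)` -/
def pp (w : List (Fin 5)) : MZ := mm (mm (tt (wd w)) PhiZ) (wd w)

/-! ### fast evaluation -/

private def d4 (A B : Matrix (Fin 4) (Fin 4) ℤ) (a b : Fin 4) : ℤ :=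
  Int.add (Int.add (Int.add (Int.mul (A a 0) (B 0 b)) (Int.mul (A a 1) (B 1 b))) (Int.mul (A a 2) (B 2 b)))
    (Int.mul (A a 3) (B 3 b))

private def mF (X Y : MZ) : MZ :=
  (fun a b => Int.sub (d4 X.1 Y.1 a b) (Int.mul 2 (d4 X.2 Y.2 a b)),
    fun a b => Int.sub (Int.add (d4 X.1 Y.2 a b) (d4 X.2 Y.1 a b)) (d4 X.2 Y.2 a b))

private theorem d4_eq (A B : Matrix (Fin 4) (Fin 4) ℤ) (a b : Fin 4) : (A * B) a b = d4 A B a b :=
  Fin.sum_univ_four fun k => A a k * B k b

private theorem mm_eq : mm = mF := by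
  funext X Y
  refine Prod.ext (funext₂ fun a b => ?_) (funext₂ fun a b => ?_)
  · show (X.1 * Y.1) a b - 2 * (X.2 * Y.2) a b = _
    rw [d4_eq, d4_eq]; rfl
  · show (X.1 * Y.2) a b + (X.2 * Y.1) a b - (X.2 * Y.2) a b = _
    rw [d4_eq, d4_eq, d4_eq]; rfl

private def dg (n : ℕ) : Matrix (Fin 4) (Fin 4) ℤ := fun a b =>
  Int.subNatNat (Nat.mod (Nat.shiftRight n (Nat.mul 8 (Nat.add (Nat.mul 4 a.1) b.1))) 256) 128

private def mz (n m : ℕ) : MZ := (dg n, dg m)

private def all4 (p : Fin 4 → Bool) : Bool := p 0 && (p 1 && (p 2 && p 3))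

private theorem all4_spec {p : Fin 4 → Bool} (h : all4 p = true) (a : Fin 4) : p a = true := by
  have h1 : (p 0 && (p 1 && (p 2 && p 3))) = true := h
  simp only [Bool.and_eq_true] at h1
  match a with
  | 0 => exact h1.1
  | 1 => exact h1.2.1
  | 2 => exact h1.2.2.1
  | 3 => exact h1.2.2.2

private def eqB (X Y : MZ) : Bool :=
  all4 fun a => all4 fun b => @decide _ (Int.decEq (X.1 a b) (Y.1 a b)) && @decide _ (Int.decEq (X.2 a b) (Y.2 a b))

private theorem eq_of {X Y : MZ} (h : eqB X Y = true) : X = Y := by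
  have h1 := fun a b => Bool.and_eq_true_iff.1 (all4_spec (all4_spec h a) b)
  exact Prod.ext (funext₂ fun a b => of_decide_eq_true (h1 a b).1) (funext₂ fun a b => of_decide_eq_true (h1 a b).2)

private noncomputable def wF (w : List (Fin 5)) : MZ := List.rec (sc (1, 0)) (fun i _ ih => mF (SZ i) ih) w

private theorem wd_eq : wd = wF := by
  funext w
  induction w with
  | nil => rfl
  | cons i l ih => show mm (SZ i) (wd l) = mF (SZ i) (wF l); rw [mm_eq, ih]

/-- a multiple -/
private def sF (c : ℤ × ℤ) (X : MZ) : MZ :=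
  (fun a b => Int.sub (Int.mul c.1 (X.1 a b)) (Int.mul 2 (Int.mul c.2 (X.2 a b))),
    fun a b => Int.sub (Int.add (Int.mul c.1 (X.2 a b)) (Int.mul c.2 (X.1 a b))) (Int.mul c.2 (X.2 a b)))

private theorem sc_eq (c : ℤ × ℤ) (X : MZ) : mm (sc c) X = sF c X := by
  show (c.1 • (1 : Matrix (Fin 4) (Fin 4) ℤ) * X.1 - (2 : ℤ) • (c.2 • (1 : Matrix (Fin 4) (Fin 4) ℤ) * X.2),
    c.1 • (1 : Matrix (Fin 4) (Fin 4) ℤ) * X.2 + c.2 • (1 : Matrix (Fin 4) (Fin 4) ℤ) * X.1 -
      c.2 • (1 : Matrix (Fin 4) (Fin 4) ℤ) * X.2) = _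
  simp only [Matrix.smul_mul, Matrix.one_mul]
  rfl

private def aF (X Y : MZ) : MZ := (fun a b => Int.add (X.1 a b) (Y.1 a b), fun a b => Int.add (X.2 a b) (Y.2 a b))

private noncomputable def lF (cs : List (ℤ × ℤ)) : List MZ → MZ :=
  List.rec (fun _ => 0) (fun c _ ih Xs => List.rec 0 (fun X Xs _ => aF (sF c X) (ih Xs)) Xs) cs

private theorem lc_eq : lc = lF := by
  funext cs
  induction cs with
  | nil => funext Xs; cases Xs <;> rfl
  | cons c cs ih =>
    funext Xs
    cases Xs with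
    | nil => rfl
    | cons X Xs => show mm (sc c) X + lc cs Xs = aF (sF c X) (lF cs Xs); rw [sc_eq, ih]; rfl

private noncomputable def eqL (L : List MZ) : List MZ → Bool :=
  List.rec (fun M => List.rec true (fun _ _ _ => false) M)
    (fun X _ ih M => List.rec false (fun Y M _ => eqB X Y && ih M) M) L

private theorem eq_ofL {L M : List MZ} (h : eqL L M = true) : L = M := by
  induction L generalizing M with
  | nil => cases M with
    | nil => rfl
    | cons _ _ => exact absurd h Bool.false_ne_true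
  | cons X L ih => cases M with
    | nil => exact absurd h Bool.false_ne_true
    | cons Y M =>
      have h1 := Bool.and_eq_true_iff.1 (show (eqB X Y && eqL L M) = true from h)
      rw [eq_of h1.1, ih h1.2]

private def VL : List MZ := [mz 0x81808282807e7e7e827e8282827e8282 0x80818181817f81818181838381818383,
  mz 0x80808080808180808080808080808080 0x80808080808080808080808080808080,
  mz 0x7e808080808080808080848280808281 0x7f807e7f808080807e8080807f808080,
  mz 0x7f807d7e808080807d807f7e7e807e7e 0x81807f80808080807f807d7e80807e7f,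
  mz 0x80808080808080808080818080808080 0x80808080808080808080808080808080,
  mz 0x8080808080817f7f807f7f7f807f7f7f 0x8080808080807f7f807f8181807f8181,
  mz 0x80808080807f81818081818180818181 0x80808080808181818081808080818080,
  mz 0x817f807f7f7f828180827e807f818081 0x807f81807f81808181807f7f80817f80,
  mz 0x81818080818180808080808080808080 0x80808080808080808080808080808080,
  mz 0x818181818181818181817f8181818181 0x80808180808081808181818180808180]

private def PL : List MZ := [mz 0x7f838080837f807c80808080807c8082 0x8181807e817d8080808080807e808083,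
  mz 0x817f7f807f8181807f81818080808080 0x80808080808080808080808080808080,
  mz 0x808080808082808280807f8380828379 0x808080808083827d8082817f807d7f80,
  mz 0x7f81807e817f8082808082827e82827e 0x817f7e807f8182807e82837f80807f7f,
  mz 0x7e828280827f7e7e827e7e80807e8084 0x7f82817e827d7e82817e7f827e828280,
  mz 0x7f82857e827e7c82857c79847e82847e 0x7d82837e827f7f81837f80817e81817f,
  mz 0x7e808280808080808280827e80807e81 0x7f807f81808080807f80837f81807f80,
  mz 0x847e7e827e81817f7e817f7f827f7f81 0x8080828080807f80827f7d8180808180,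
  mz 0x80808080807f7e83807e7e828083827f 0x808080808081808180807f828081827d,
  mz 0x81807f81807e7e827f7e7f818182817f 0x8081817f817f7e82817e7d837f82837d]

private def XL : List MZ := [mz 0x81808080808180808080818080808081 0x80808080808080808080808080808080,
  mz 0x7f8181807f8180808180808081807f81 0x8080808081807f808080818081808080,
  mz 0x81807f80808081807f817f807f818081 0x818080807f81818081807f8080818080,
  mz 0x7e8181807f8080807f8081807f808081 0x7f818080808080807f81808080818080,
  mz 0x807f8080817f7f80807f8180807f8081 0x80808080808080807f8081807f818180,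
  mz 0x817f80807f808180827f7e80807f7f81 0x7f8081807f808080817f808080808080,
  mz 0x80807f80827f7f807f818080817f7f81 0x817f7f80817f808080807f8080808080]

private def PhL : MZ := mz 0x808080808082808280807f8380828379 0x808080808083827d8082817f807d7f80

private theorem Phi_eq : PhiZ = PhL := eq_of (by delta PhiZ; rewrite [mm_eq]; decide +kernel)

private noncomputable def _root_.Cfsg.Agent.LsF.f81f10e_0 : {f // @Cfsg.Agent.H637.A7Mat.all4 = f} := ⟨_, by first | (delta Cfsg.Agent.H637.A7Mat.all4; rewrite [Cfsg.Agent.LsF.and_eq]; exact rfl) | exact rfl⟩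
private noncomputable def _root_.Cfsg.Agent.LsF.f81f10e_1 : {f // @Cfsg.Agent.H637.A7Mat.eqB = f} := ⟨_, by first | (delta Cfsg.Agent.H637.A7Mat.eqB; rewrite [Cfsg.Agent.LsF.f81f10e_0.2, Cfsg.Agent.LsF.and_eq, Cfsg.Agent.LsF.idecEq_eq, Cfsg.Agent.LsF.decide_eq]; exact rfl) | exact rfl⟩
private noncomputable def _root_.Cfsg.Agent.LsF.f81f10e_2 : {f // @Cfsg.Agent.H637.A7Mat.eqL = f} := ⟨_, by first | (delta Cfsg.Agent.H637.A7Mat.eqL; rewrite [Cfsg.Agent.LsF.f81f10e_1.2, Cfsg.Agent.LsF.and_eq]; exact rfl) | exact rfl⟩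
private noncomputable def _root_.Cfsg.Agent.LsF.f81f10e_3 : {f // @Cfsg.Agent.H637.A7Mat.d4 = f} := ⟨_, by first | (delta Cfsg.Agent.H637.A7Mat.d4; rewrite [Cfsg.Agent.LsF.iadd_eq, Cfsg.Agent.LsF.imul_eq]; exact rfl) | exact rfl⟩
private noncomputable def _root_.Cfsg.Agent.LsF.f81f10e_4 : {f // @Cfsg.Agent.H637.A7Mat.mF = f} := ⟨_, by first | (delta Cfsg.Agent.H637.A7Mat.mF; rewrite [Cfsg.Agent.LsF.f81f10e_3.2, Cfsg.Agent.LsF.iadd_eq, Cfsg.Agent.LsF.imul_eq, Cfsg.Agent.LsF.isub_eq]; exact rfl) | exact rfl⟩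
private noncomputable def _root_.Cfsg.Agent.LsF.f81f10e_5 : {f // @Cfsg.Agent.H637.A7Mat.sc = f} := ⟨_, by first | (delta Cfsg.Agent.H637.A7Mat.sc; rewrite [Cfsg.Agent.LsF.instMOne_eq, Cfsg.Agent.LsF.dFinEq_eq]; exact rfl) | exact rfl⟩
private noncomputable def _root_.Cfsg.Agent.LsF.f81f10e_6 : {f // @Cfsg.Agent.H637.A7Mat.SZ = f} := ⟨_, by first | (delta Cfsg.Agent.H637.A7Mat.SZ; rewrite [Cfsg.Agent.LsF.mof_pat, Cfsg.Agent.LsF.ineg_pat, Cfsg.Agent.LsF.vecCons_eq]; exact rfl) | exact rfl⟩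
private noncomputable def _root_.Cfsg.Agent.LsF.f81f10e_7 : {f // @Cfsg.Agent.H637.A7Mat.wF = f} := ⟨_, by first | (delta Cfsg.Agent.H637.A7Mat.wF; rewrite [Cfsg.Agent.LsF.f81f10e_5.2, Cfsg.Agent.LsF.f81f10e_4.2, Cfsg.Agent.LsF.f81f10e_6.2]; exact rfl) | exact rfl⟩
private noncomputable def _root_.Cfsg.Agent.LsF.f81f10e_8 : {f // @Cfsg.Agent.H637.A7Mat.eu = f} := ⟨_, by first | (delta Cfsg.Agent.H637.A7Mat.eu; rewrite [Cfsg.Agent.LsF.dFinEq_eq]; exact rfl) | exact rfl⟩
private noncomputable def _root_.Cfsg.Agent.LsF.f81f10e_9 : {f // @Cfsg.Agent.H637.A7Mat.tt = f} := ⟨_, by first | (delta Cfsg.Agent.H637.A7Mat.tt; rewrite [Cfsg.Agent.LsF.transpose_eq]; exact rfl) | exact rfl⟩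
private theorem vv_eq : cw.map vv = VL := eq_ofL (by delta vv; rewrite [mm_eq, wd_eq]; ((try (rewrite [Cfsg.Agent.LsF.f81f10e_2.2, Cfsg.Agent.LsF.f81f10e_4.2, Cfsg.Agent.LsF.f81f10e_7.2, Cfsg.Agent.LsF.f81f10e_8.2, Cfsg.Agent.LsF.f81f10e_9.2, Cfsg.Agent.LsF.map_eq])); decide +kernel))

private theorem pp_eq : rw'.map pp = PL := eq_ofL (by delta pp; rewrite [mm_eq, wd_eq, Phi_eq]; ((try (rewrite [Cfsg.Agent.LsF.f81f10e_2.2, Cfsg.Agent.LsF.f81f10e_4.2, Cfsg.Agent.LsF.f81f10e_9.2, Cfsg.Agent.LsF.f81f10e_7.2, Cfsg.Agent.LsF.map_eq])); decide +kernel))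

private theorem xp_eq : ∀ k < 7, xp k = XL.getD k 0 := by
  have h1 : xZ = XL.getD 1 0 := eq_of (by delta xZ; rewrite [wd_eq]; decide +kernel)
  have h2 : ∀ k < 6, eqB (mF (XL.getD 1 0) (XL.getD k 0)) (XL.getD (k + 1) 0) = true := by decide +kernel
  intro k hk
  induction k with
  | zero => exact eq_of (by decide +kernel)
  | succ k ih =>
    show mm xZ (xp k) = _
    rw [ih (by omega), h1, mm_eq]
    exact eq_of (h2 k (by omega))

/-- `X (E_ij + E_ji) Xᵀ` -/
private def oF (X : MZ) (i j : Fin 4) : MZ :=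
  (fun a b => Int.sub (Int.add (Int.mul (X.1 a i) (X.1 b j)) (Int.mul (X.1 a j) (X.1 b i)))
      (Int.mul 2 (Int.add (Int.mul (X.2 a i) (X.2 b j)) (Int.mul (X.2 a j) (X.2 b i)))),
    fun a b => Int.sub (Int.add (Int.add (Int.mul (X.1 a i) (X.2 b j)) (Int.mul (X.1 a j) (X.2 b i)))
      (Int.add (Int.mul (X.2 a i) (X.1 b j)) (Int.mul (X.2 a j) (X.1 b i))))
      (Int.add (Int.mul (X.2 a i) (X.2 b j)) (Int.mul (X.2 a j) (X.2 b i))))

private theorem oF_eq (X : MZ) (i j : Fin 4) : mm (mm X (eu i j + eu j i)) (tt X) = oF X i j := by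
  have h1 : ∀ (A B : Matrix (Fin 4) (Fin 4) ℤ) (i j a b : Fin 4), (A * (Matrix.single i j 1 : Matrix (Fin 4) (Fin 4) ℤ) * Bᵀ) a b = A a i * B b j := by
    intro A B i j a b
    rw [Matrix.mul_apply, Finset.sum_eq_single j (fun c _ hc => by rw [Matrix.mul_single_apply_of_ne _ _ _ _ _ hc, zero_mul])
      (fun h => absurd (Finset.mem_univ j) h), Matrix.mul_single_apply_same, mul_one, Matrix.transpose_apply]
  have h2 : ∀ (A B : Matrix (Fin 4) (Fin 4) ℤ) (a b : Fin 4),
      (A * ((Matrix.single i j 1 : Matrix (Fin 4) (Fin 4) ℤ) + (Matrix.single j i 1 : Matrix (Fin 4) (Fin 4) ℤ)) * Bᵀ) a b = A a i * B b j + A a j * B b i := by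
    intro A B a b
    rw [Matrix.mul_add, Matrix.add_mul, Matrix.add_apply, h1, h1]
  have h3 : mm X (eu i j + eu j i) =
      (X.1 * ((Matrix.single i j 1 : Matrix (Fin 4) (Fin 4) ℤ) + (Matrix.single j i 1 : Matrix (Fin 4) (Fin 4) ℤ)), X.2 * ((Matrix.single i j 1 : Matrix (Fin 4) (Fin 4) ℤ) + (Matrix.single j i 1 : Matrix (Fin 4) (Fin 4) ℤ))) := by
    show (X.1 * ((Matrix.single i j 1 : Matrix (Fin 4) (Fin 4) ℤ) + (Matrix.single j i 1 : Matrix (Fin 4) (Fin 4) ℤ)) - (2 : ℤ) • (X.2 * (0 + 0)),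
      X.1 * (0 + 0) + X.2 * ((Matrix.single i j 1 : Matrix (Fin 4) (Fin 4) ℤ) + (Matrix.single j i 1 : Matrix (Fin 4) (Fin 4) ℤ)) - X.2 * (0 + 0)) = _
    simp only [add_zero, Matrix.mul_zero, smul_zero, sub_zero, zero_add]
  rw [h3]
  refine Prod.ext (funext₂ fun a b => ?_) (funext₂ fun a b => ?_)
  · show (X.1 * ((Matrix.single i j 1 : Matrix (Fin 4) (Fin 4) ℤ) + (Matrix.single j i 1 : Matrix (Fin 4) (Fin 4) ℤ)) * X.1ᵀ) a b -
      2 * (X.2 * ((Matrix.single i j 1 : Matrix (Fin 4) (Fin 4) ℤ) + (Matrix.single j i 1 : Matrix (Fin 4) (Fin 4) ℤ)) * X.2ᵀ) a b = _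
    rw [h2, h2]; rfl
  · show (X.1 * ((Matrix.single i j 1 : Matrix (Fin 4) (Fin 4) ℤ) + (Matrix.single j i 1 : Matrix (Fin 4) (Fin 4) ℤ)) * X.2ᵀ) a b +
      (X.2 * ((Matrix.single i j 1 : Matrix (Fin 4) (Fin 4) ℤ) + (Matrix.single j i 1 : Matrix (Fin 4) (Fin 4) ℤ)) * X.1ᵀ) a b -
      (X.2 * ((Matrix.single i j 1 : Matrix (Fin 4) (Fin 4) ℤ) + (Matrix.single j i 1 : Matrix (Fin 4) (Fin 4) ℤ)) * X.2ᵀ) a b = _
    rw [h2, h2, h2]; rfl

/-! ### the identities -/

private noncomputable def _root_.Cfsg.Agent.LsF.f81f10e_10 : {f // @Cfsg.Agent.H637.A7Mat.mm = f} := ⟨_, by first | (delta Cfsg.Agent.H637.A7Mat.mm; rewrite [Cfsg.Agent.LsF.finFintype_eq, Cfsg.Agent.LsF.instMHMul_eq, Cfsg.Agent.LsF.iACM_eq, Cfsg.Agent.LsF.instIAdd_eq, Cfsg.Agent.LsF.instIMul_eq, Cfsg.Agent.LsF.instISub_eq]; exact rfl) | exact rfl⟩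
theorem cube : ∀ i, mm (SZ i) (SZ i) + SZ i + sc (1, 0) = 0 := by (refine of_decide_eq_true ?_; (try (rewrite [Cfsg.Agent.LsF.f81f10e_10.2, Cfsg.Agent.LsF.f81f10e_6.2, Cfsg.Agent.LsF.f81f10e_5.2, Cfsg.Agent.LsF.dProdEq_eq, Cfsg.Agent.LsF.finFintype_eq, Cfsg.Agent.LsF.dMat_eq, Cfsg.Agent.LsF.instIAdd_eq, Cfsg.Agent.LsF.instIDecEq_eq, Cfsg.Agent.LsF.dForallFin_eq, Cfsg.Agent.LsF.decide_eq])); decide +kernel)

theorem sq : ∀ i j, i ≠ j → mm (mm (SZ i) (SZ j)) (mm (SZ i) (SZ j)) = sc (-1, 0) := by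
  have h : ∀ i j, i ≠ j → eqB (mF (mF (SZ i) (SZ j)) (mF (SZ i) (SZ j))) (sc (-1, 0)) = true := by (refine of_decide_eq_true ?_; (try (rewrite [Cfsg.Agent.LsF.f81f10e_1.2, Cfsg.Agent.LsF.f81f10e_4.2, Cfsg.Agent.LsF.f81f10e_6.2, Cfsg.Agent.LsF.f81f10e_5.2, Cfsg.Agent.LsF.ineg_pat, Cfsg.Agent.LsF.dNot_eq, Cfsg.Agent.LsF.dFinEq_eq, Cfsg.Agent.LsF.dBoolEq_eq, Cfsg.Agent.LsF.dForallFin_eq, Cfsg.Agent.LsF.decide_eq])); decide +kernel)
  rw [mm_eq]
  exact fun i j hij => eq_of (h i j hij)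

private noncomputable def _root_.Cfsg.Agent.LsF.f81f10e_11 : {f // @Cfsg.Agent.H637.A7Mat.wd = f} := ⟨_, by first | (delta Cfsg.Agent.H637.A7Mat.wd List.brecOn List.brecOn.go Cfsg.Agent.H637.A7Mat.wd._f; rewrite [Cfsg.Agent.LsF.f81f10e_5.2, Cfsg.Agent.LsF.f81f10e_10.2, Cfsg.Agent.LsF.f81f10e_6.2]; (try delta Cfsg.Agent.H637.A7Mat.wd.match_1); (try delta List.casesOn); first | dsimp -zeta only | exact rfl) | exact rfl⟩
private noncomputable def _root_.Cfsg.Agent.LsF.f81f10e_12 : {f // @Cfsg.Agent.H637.A7Mat.xZ = f} := ⟨_, by first | (delta Cfsg.Agent.H637.A7Mat.xZ; rewrite [Cfsg.Agent.LsF.f81f10e_11.2]; exact rfl) | exact rfl⟩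
private noncomputable def _root_.Cfsg.Agent.LsF.f81f10e_13 : {f // @Cfsg.Agent.H637.A7Mat.xp = f} := ⟨_, by first | (delta Cfsg.Agent.H637.A7Mat.xp Nat.brecOn.go Nat.brecOn Cfsg.Agent.H637.A7Mat.xp._f; rewrite [Cfsg.Agent.LsF.f81f10e_5.2, Cfsg.Agent.LsF.f81f10e_10.2, Cfsg.Agent.LsF.f81f10e_12.2]; (try delta Cfsg.Agent.H637.A7Mat.xp.match_1); (try delta Nat.casesOn); first | dsimp -zeta only | exact rfl) | exact rfl⟩
theorem x_seven : xp 7 = sc (1, 0) := by (refine of_decide_eq_true ?_; (try (rewrite [Cfsg.Agent.LsF.f81f10e_13.2, Cfsg.Agent.LsF.f81f10e_5.2, Cfsg.Agent.LsF.dProdEq_eq, Cfsg.Agent.LsF.finFintype_eq, Cfsg.Agent.LsF.dMat_eq, Cfsg.Agent.LsF.instIDecEq_eq, Cfsg.Agent.LsF.decide_eq])); decide +kernel)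

private noncomputable def _root_.Cfsg.Agent.LsF.f81f10e_14 : {f // @Cfsg.Agent.H637.A7Mat.phiZ = f} := ⟨_, by first | (delta Cfsg.Agent.H637.A7Mat.phiZ; rewrite [Cfsg.Agent.LsF.mof_pat, Cfsg.Agent.LsF.ineg_pat, Cfsg.Agent.LsF.vecCons_eq]; exact rfl) | exact rfl⟩
theorem x_sum : ∑ k ∈ Finset.range 7, xp k = mm (sc (1, 2)) phiZ := by (refine of_decide_eq_true ?_; (try (rewrite [Cfsg.Agent.LsF.f81f10e_13.2, Cfsg.Agent.LsF.f81f10e_10.2, Cfsg.Agent.LsF.f81f10e_5.2, Cfsg.Agent.LsF.f81f10e_14.2, Cfsg.Agent.LsF.dProdEq_eq, Cfsg.Agent.LsF.finFintype_eq, Cfsg.Agent.LsF.dMat_eq, Cfsg.Agent.LsF.fsum_eq, Cfsg.Agent.LsF.frange_eq, Cfsg.Agent.LsF.iACM_eq, Cfsg.Agent.LsF.instIDecEq_eq, Cfsg.Agent.LsF.decide_eq])); decide +kernel)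

theorem x_tr : (xZ.1.trace, xZ.2.trace) = (1, 1) := by decide +kernel

theorem x_tr2 : ((xp 2).1.trace, (xp 2).2.trace) = (1, 1) := by (refine of_decide_eq_true ?_; (try (rewrite [Cfsg.Agent.LsF.f81f10e_13.2, Cfsg.Agent.LsF.dProdEq_eq, Cfsg.Agent.LsF.finFintype_eq, Cfsg.Agent.LsF.iACM_eq, Cfsg.Agent.LsF.instIDecEq_eq, Cfsg.Agent.LsF.decide_eq])); decide +kernel)

theorem x_tr6 : ((xp 6).1.trace, (xp 6).2.trace) = (0, -1) := by (refine of_decide_eq_true ?_; (try (rewrite [Cfsg.Agent.LsF.f81f10e_13.2, Cfsg.Agent.LsF.ineg_pat, Cfsg.Agent.LsF.dProdEq_eq, Cfsg.Agent.LsF.finFintype_eq, Cfsg.Agent.LsF.iACM_eq, Cfsg.Agent.LsF.instIDecEq_eq, Cfsg.Agent.LsF.decide_eq])); decide +kernel)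

theorem x_tr5 : ((xp 5).1.trace, (xp 5).2.trace) = (0, -1) := by (refine of_decide_eq_true ?_; (try (rewrite [Cfsg.Agent.LsF.f81f10e_13.2, Cfsg.Agent.LsF.ineg_pat, Cfsg.Agent.LsF.dProdEq_eq, Cfsg.Agent.LsF.finFintype_eq, Cfsg.Agent.LsF.iACM_eq, Cfsg.Agent.LsF.instIDecEq_eq, Cfsg.Agent.LsF.decide_eq])); decide +kernel)

private noncomputable def _root_.Cfsg.Agent.LsF.f81f10e_15 : {f // @Cfsg.Agent.H637.A7Mat.cc = f} := ⟨_, by first | (delta Cfsg.Agent.H637.A7Mat.cc; rewrite [Cfsg.Agent.LsF.instINeg_eq, Cfsg.Agent.LsF.instISub_eq]; exact rfl) | exact rfl⟩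
private noncomputable def _root_.Cfsg.Agent.LsF.f81f10e_16 : {f // @Cfsg.Agent.H637.A7Mat.HZ = f} := ⟨_, by first | (delta Cfsg.Agent.H637.A7Mat.HZ; rewrite [Cfsg.Agent.LsF.mof_pat, Cfsg.Agent.LsF.ineg_pat, Cfsg.Agent.LsF.vecCons_eq]; exact rfl) | exact rfl⟩
theorem herm : ∀ i, mm (mm (tt (cc (SZ i))) HZ) (SZ i) = HZ := by (refine of_decide_eq_true ?_; (try (rewrite [Cfsg.Agent.LsF.f81f10e_10.2, Cfsg.Agent.LsF.f81f10e_9.2, Cfsg.Agent.LsF.f81f10e_15.2, Cfsg.Agent.LsF.f81f10e_6.2, Cfsg.Agent.LsF.f81f10e_16.2, Cfsg.Agent.LsF.dProdEq_eq, Cfsg.Agent.LsF.finFintype_eq, Cfsg.Agent.LsF.dMat_eq, Cfsg.Agent.LsF.instIDecEq_eq, Cfsg.Agent.LsF.dForallFin_eq, Cfsg.Agent.LsF.decide_eq])); decide +kernel)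

theorem herm_inv : mm HZ HiZ = sc (1, 0) := by decide +kernel

theorem herm_inv' : mm HiZ HZ = sc (1, 0) := by decide +kernel

theorem linv_rows : mm linvZ rowsZ = sc (1, 0) := by decide +kernel

theorem rows_zero : ∀ j, (rowsZ.1 0 j, rowsZ.2 0 j) = ((mm phiZ (wd [])).1 0 j, (mm phiZ (wd [])).2 0 j) := by
  decide +kernel

theorem rows_one : ∀ j, (rowsZ.1 1 j, rowsZ.2 1 j) = ((mm phiZ (wd [0])).1 0 j, (mm phiZ (wd [0])).2 0 j) := by
  decide +kernel

theorem rows_two : ∀ j, (rowsZ.1 2 j, rowsZ.2 2 j) = ((mm phiZ (wd [1])).1 0 j, (mm phiZ (wd [1])).2 0 j) := by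
  decide +kernel

theorem rows_three : ∀ j, (rowsZ.1 3 j, rowsZ.2 3 j) = ((mm phiZ (wd [0, 1])).1 0 j, (mm phiZ (wd [0, 1])).2 0 j) := by
  decide +kernel

theorem cols : ∀ k : Fin 4, mm (wd (![[], [0], [1], [1, 0]] k)) (eu 0 0) = eu k 0 := by (refine of_decide_eq_true ?_; (try (rewrite [Cfsg.Agent.LsF.f81f10e_10.2, Cfsg.Agent.LsF.f81f10e_11.2, Cfsg.Agent.LsF.f81f10e_8.2, Cfsg.Agent.LsF.vecCons_eq, Cfsg.Agent.LsF.dProdEq_eq, Cfsg.Agent.LsF.finFintype_eq, Cfsg.Agent.LsF.dMat_eq, Cfsg.Agent.LsF.instIDecEq_eq, Cfsg.Agent.LsF.dForallFin_eq, Cfsg.Agent.LsF.decide_eq])); decide +kernel)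

private noncomputable def _root_.Cfsg.Agent.LsF.f81f10e_17 : {f // @Cfsg.Agent.H637.A7Mat.aF = f} := ⟨_, by first | (delta Cfsg.Agent.H637.A7Mat.aF; rewrite [Cfsg.Agent.LsF.iadd_eq]; exact rfl) | exact rfl⟩
private noncomputable def _root_.Cfsg.Agent.LsF.f81f10e_18 : {f // @Cfsg.Agent.H637.A7Mat.sF = f} := ⟨_, by first | (delta Cfsg.Agent.H637.A7Mat.sF; rewrite [Cfsg.Agent.LsF.iadd_eq, Cfsg.Agent.LsF.imul_eq, Cfsg.Agent.LsF.isub_eq]; exact rfl) | exact rfl⟩
private noncomputable def _root_.Cfsg.Agent.LsF.f81f10e_19 : {f // @Cfsg.Agent.H637.A7Mat.lF = f} := ⟨_, by first | (delta Cfsg.Agent.H637.A7Mat.lF; rewrite [Cfsg.Agent.LsF.f81f10e_17.2, Cfsg.Agent.LsF.f81f10e_18.2]; exact rfl) | exact rfl⟩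
theorem span_vv : ∀ i j : Fin 4, lc (Ct.getD (4 * i + j) []) (cw.map vv) = mm (sc (2, 0)) (eu i j + eu j i) := by
  have h : (all4 fun i => all4 fun j => eqB (lF (Ct.getD (4 * i + j) []) VL) (sF (2, 0) (eu i j + eu j i))) = true := by
    ((try (rewrite [Cfsg.Agent.LsF.f81f10e_0.2, Cfsg.Agent.LsF.f81f10e_1.2, Cfsg.Agent.LsF.f81f10e_19.2, Cfsg.Agent.LsF.f81f10e_18.2, Cfsg.Agent.LsF.f81f10e_8.2, Cfsg.Agent.LsF.nadd_pat, Cfsg.Agent.LsF.nmul_pat, Cfsg.Agent.LsF.getD_eq, Cfsg.Agent.LsF.instIAdd_eq])); decide +kernel)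
  intro i j
  rw [lc_eq, vv_eq, sc_eq]
  exact eq_of (all4_spec (all4_spec h i) j)

theorem span_pp : ∀ i j : Fin 4, lc (Rt.getD (4 * i + j) []) (rw'.map pp) = mm (sc (2, 0)) (eu i j + eu j i) := by
  have h : (all4 fun i => all4 fun j => eqB (lF (Rt.getD (4 * i + j) []) PL) (sF (2, 0) (eu i j + eu j i))) = true := by
    ((try (rewrite [Cfsg.Agent.LsF.f81f10e_0.2, Cfsg.Agent.LsF.f81f10e_1.2, Cfsg.Agent.LsF.f81f10e_19.2, Cfsg.Agent.LsF.f81f10e_18.2, Cfsg.Agent.LsF.f81f10e_8.2, Cfsg.Agent.LsF.nadd_pat, Cfsg.Agent.LsF.nmul_pat, Cfsg.Agent.LsF.getD_eq, Cfsg.Agent.LsF.instIAdd_eq])); decide +kernel)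
  intro i j
  rw [lc_eq, pp_eq, sc_eq]
  exact eq_of (all4_spec (all4_spec h i) j)

private noncomputable def _root_.Cfsg.Agent.LsF.f81f10e_20 : {f // @Cfsg.Agent.H637.A7Mat.oF = f} := ⟨_, by first | (delta Cfsg.Agent.H637.A7Mat.oF; rewrite [Cfsg.Agent.LsF.iadd_eq, Cfsg.Agent.LsF.imul_eq, Cfsg.Agent.LsF.isub_eq]; exact rfl) | exact rfl⟩
theorem sum_sym : ∀ i j : Fin 4, ∑ k ∈ Finset.range 7, mm (mm (xp k) (eu i j + eu j i)) (tt (xp k)) =
    - mm (sc (PhiZ.1 i j + PhiZ.1 j i, PhiZ.2 i j + PhiZ.2 j i)) (eu 0 0) := by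
  have h : (all4 fun i => all4 fun j => eqB (∑ k ∈ Finset.range 7, oF (XL.getD k 0) i j)
      (- sF (PhL.1 i j + PhL.1 j i, PhL.2 i j + PhL.2 j i) (eu 0 0))) = true := by ((try (rewrite [Cfsg.Agent.LsF.f81f10e_0.2, Cfsg.Agent.LsF.f81f10e_1.2, Cfsg.Agent.LsF.f81f10e_20.2, Cfsg.Agent.LsF.f81f10e_18.2, Cfsg.Agent.LsF.f81f10e_8.2, Cfsg.Agent.LsF.iadd_pat, Cfsg.Agent.LsF.fsum_eq, Cfsg.Agent.LsF.frange_eq, Cfsg.Agent.LsF.iACM_eq, Cfsg.Agent.LsF.getD_eq, Cfsg.Agent.LsF.instINeg_eq])); decide +kernel)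
  intro i j
  rw [sc_eq, Phi_eq, Finset.sum_congr rfl fun k hk => by rw [oF_eq, xp_eq k (Finset.mem_range.1 hk)]]
  exact eq_of (all4_spec (all4_spec h i) j)

end Cfsg.Agent.H637.A7Mat
end

-- part: H637/A7Ev
section
/-!
# The four-dimensional representation of `2.A₇` over a ring with `b² + b + 2 = 0` (helper637)

* `S b i` : the generators, `S_cube`, `S_sq` : the relations, `X b` the element of order seven, its trace;
* `herm` : `(S i at -1 - b)ᵀ H (S i) = H`;
* Norton data for the module and its symmetric square.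
-/

set_option autoImplicit false

namespace Cfsg.Agent.H637.A7Ev

open Matrix Cfsg.Agent.H637.A7Mat

variable {R : Type*} [CommRing R]

/-- evaluation of a pair of integer matrices -/
def ev (b : R) (X : MZ) : Matrix (Fin 4) (Fin 4) R := X.1.map (Int.castRingHom R) + b • X.2.map (Int.castRingHom R)

theorem ev_add (b : R) (X Y : MZ) : ev b (X + Y) = ev b X + ev b Y := by
  unfold ev
  rw [Prod.fst_add, Prod.snd_add, Matrix.map_add _ (map_add _), Matrix.map_add _ (map_add _), smul_add]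
  abel

theorem ev_neg (b : R) (X : MZ) : ev b (-X) = - ev b X := by
  unfold ev
  ext i j
  simp
  ring

theorem ev_zero (b : R) : ev b 0 = 0 := by
  unfold ev
  ext i j
  simp

theorem ev_sum (b : R) {ι : Type*} (s : Finset ι) (f : ι → MZ) : ev b (∑ i ∈ s, f i) = ∑ i ∈ s, ev b (f i) := by
  classical
  induction s using Finset.induction_on with
  | empty => rw [Finset.sum_empty, Finset.sum_empty, ev_zero]
  | insert a s ha ih => rw [Finset.sum_insert ha, Finset.sum_insert ha, ev_add, ih]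

theorem ev_tt (b : R) (X : MZ) : ev b (tt X) = (ev b X)ᵀ := by
  unfold ev tt
  ext i j
  simp

theorem ev_apply (b : R) (X : MZ) (i j : Fin 4) : ev b X i j = (X.1 i j : R) + b * (X.2 i j : R) := by
  unfold ev
  simp

theorem ev_sc (b : R) (c : ℤ × ℤ) : ev b (sc c) = ((c.1 : R) + b * c.2) • (1 : Matrix (Fin 4) (Fin 4) R) := by
  ext i j
  rw [ev_apply]
  show (((c.1 • (1 : Matrix (Fin 4) (Fin 4) ℤ)) i j : ℤ) : R) + b * (((c.2 • (1 : Matrix (Fin 4) (Fin 4) ℤ)) i j : ℤ) : R) = _
  rw [Matrix.smul_apply, Matrix.smul_apply, Matrix.smul_apply, smul_eq_mul, smul_eq_mul, smul_eq_mul]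
  by_cases h : i = j
  · subst h
    rw [Matrix.one_apply_eq, Matrix.one_apply_eq]
    simp
  · rw [Matrix.one_apply_ne h, Matrix.one_apply_ne h]
    simp

theorem ev_mm {b : R} (hb : b * b + b + 2 = 0) (X Y : MZ) : ev b (mm X Y) = ev b X * ev b Y := by
  have h1 : ∀ A B : Matrix (Fin 4) (Fin 4) ℤ, ∀ i j, ((A * B) i j : ℤ) =
      ((A.map (Int.castRingHom R) * B.map (Int.castRingHom R)) i j : R) := by
    intro A B i j
    rw [← Matrix.map_mul, Matrix.map_apply]
    rfl
  ext i j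
  rw [ev_apply]
  unfold ev mm
  simp only [Matrix.add_mul, Matrix.mul_add, Matrix.smul_mul, Matrix.mul_smul, Matrix.add_apply, Matrix.sub_apply,
    Matrix.smul_apply, smul_eq_mul, ← h1]
  push_cast
  linear_combination (-((X.2 * Y.2) i j : ℤ) : R) * hb

theorem ev_cc (b : R) (X : MZ) : ev b (cc X) = ev (-1 - b) X := by
  unfold ev cc
  ext i j
  simp
  ring

theorem ev_eu (b : R) (i j : Fin 4) : ev b (eu i j) = Matrix.single i j 1 := by
  unfold ev eu
  ext k l
  simp [Matrix.single_apply]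

theorem trace_ev (b : R) (X : MZ) : (ev b X).trace = (X.1.trace : R) + b * (X.2.trace : R) := by
  unfold ev
  rw [Matrix.trace_add, Matrix.trace_smul, smul_eq_mul]
  congr 1
  · simp [Matrix.trace]
  · simp [Matrix.trace]

theorem ev_map {R' : Type*} [CommRing R'] (f : R →+* R') (b : R) (X : MZ) : (ev b X).map f = ev (f b) X := by
  ext i j
  rw [Matrix.map_apply, ev_apply, ev_apply, map_add, map_mul, map_intCast, map_intCast]

variable (b : R)

/-- the generators -/
def S (i : Fin 5) : Matrix (Fin 4) (Fin 4) R := ev b (SZ i)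

/-- a word in the generators -/
def W (w : List (Fin 5)) : Matrix (Fin 4) (Fin 4) R := (w.map (S b)).prod

/-- the element of order seven -/
def X : Matrix (Fin 4) (Fin 4) R := W b [0, 1, 2, 3, 4]

variable {b} (hb : b * b + b + 2 = 0)

include hb

theorem ev_wd (w : List (Fin 5)) : ev b (wd w) = W b w := by
  induction w with
  | nil =>
    rw [wd, ev_sc]
    simp [W]
  | cons i w ih =>
    rw [wd, ev_mm hb, ih]
    simp [W, S]

theorem ev_xp (n : ℕ) : ev b (xp n) = X b ^ n := by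
  induction n with
  | zero =>
    rw [xp, ev_sc]
    simp
  | succ n ih =>
    rw [xp, ev_mm hb, ih, pow_succ']
    congr 1
    exact ev_wd hb _

theorem S_quad (i : Fin 5) : S b i * S b i + S b i + 1 = 0 := by
  have h := congrArg (ev b) (cube i)
  rw [ev_add, ev_add, ev_mm hb, ev_zero, ev_sc] at h
  simpa [S] using h

theorem S_cube (i : Fin 5) : S b i ^ 3 = 1 := by
  have h := S_quad hb i
  have h1 : S b i ^ 3 = (S b i - 1) * (S b i * S b i + S b i + 1) + 1 := by noncomm_ring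
  rw [h1, h, mul_zero, zero_add]

theorem S_sq {i j : Fin 5} (hij : i ≠ j) : (S b i * S b j) ^ 2 = -1 := by
  have h := congrArg (ev b) (sq i j hij)
  rw [ev_mm hb, ev_mm hb, ev_sc] at h
  rw [pow_two]
  simpa [S] using h

theorem X_seven : X b ^ 7 = 1 := by
  have h := congrArg (ev b) x_seven
  rw [ev_xp hb, ev_sc] at h
  simpa using h

theorem trace_X : (X b).trace = 1 + b := by
  have h1 := trace_ev b xZ
  have h2 := Prod.ext_iff.1 x_tr
  dsimp only at h2
  rw [h2.1, h2.2, show ev b xZ = X b from ev_wd hb _] at h1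
  rw [h1]
  simp

theorem trace_X2 : (X b ^ 2).trace = 1 + b := by
  have h1 := trace_ev b (xp 2)
  have h2 := Prod.ext_iff.1 x_tr2
  dsimp only at h2
  rw [h2.1, h2.2, ev_xp hb] at h1
  rw [h1]
  simp

theorem trace_X6 : (X b ^ 6).trace = -b := by
  have h1 := trace_ev b (xp 6)
  have h2 := Prod.ext_iff.1 x_tr6
  dsimp only at h2
  rw [h2.1, h2.2, ev_xp hb] at h1
  rw [h1]
  simp

theorem trace_X5 : (X b ^ 5).trace = -b := by
  have h1 := trace_ev b (xp 5)
  have h2 := Prod.ext_iff.1 x_tr5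
  dsimp only at h2
  rw [h2.1, h2.2, ev_xp hb] at h1
  rw [h1]
  simp

/-- the form -/
theorem S_herm (i : Fin 5) : (S (-1 - b) i)ᵀ * ev b HZ * S b i = ev b HZ := by
  have h := congrArg (ev b) (herm i)
  rw [ev_mm hb, ev_mm hb, ev_tt, ev_cc] at h
  exact h

theorem H_inv : ev b HZ * ev b HiZ = 1 := by
  have h := congrArg (ev b) herm_inv
  rw [ev_mm hb, ev_sc] at h
  simpa using h

theorem H_inv' : ev b HiZ * ev b HZ = 1 := by
  have h := congrArg (ev b) herm_inv'
  rw [ev_mm hb, ev_sc] at h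
  simpa using h

end Cfsg.Agent.H637.A7Ev
end

-- part: H637/RepPair
section
/-!
# Pairs of irreducible representations that are not self-dual (helper637)

* `dual_irreducible` : the dual of an irreducible representation is irreducible;
* `pair` : if `c (τ_ρ - τ_ρ*) = d (τ_σ - τ_σ*)`, `c ≠ 0`, `ρ`, `σ` irreducible over an algebraically closed field and `ρ` is not
  self-dual then `ρ` or its dual has the trace and the dimension of `σ`;
* `norton` : a criterion for irreducibility.
-/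

set_option autoImplicit false

namespace Cfsg.Agent.H637.RepPair

open Module Representation

universe u w

variable {K : Type u} [Field K] {G : Type w} [Group G]

section one

variable {V : Type u} [AddCommGroup V] [Module K V] (ρ : Representation K G V)

/-- the trace of a representation -/
noncomputable def tau (g : G) : K := LinearMap.trace K V (ρ g)

theorem tau_conj (g x : G) : tau ρ (x * g * x⁻¹) = tau ρ g := by
  unfold tau
  rw [ρ.map_mul, LinearMap.trace_mul_comm, ← ρ.map_mul, ← mul_assoc, inv_mul_cancel, one_mul]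

theorem tau_dual [FiniteDimensional K V] (g : G) : tau ρ.dual g = tau ρ g⁻¹ := by
  unfold tau
  rw [Representation.dual_apply, LinearMap.trace_transpose']

/-- irreducibility from invariant subspaces -/
theorem irreducible_of [Nontrivial V] (h : ∀ X : Submodule K V, (∀ g, ∀ v ∈ X, ρ g v ∈ X) → X = ⊥ ∨ X = ⊤) :
    ρ.IsIrreducible := by
  refine { toNontrivial := ⟨⊥, ⊤, fun e => ?_⟩, eq_bot_or_eq_top := fun X => ?_ }
  · obtain ⟨v, hv⟩ := exists_ne (0 : V)
    have h1 : v ∈ (⊤ : Subrepresentation ρ) := trivial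
    rw [← e] at h1
    exact hv h1
  · rcases h X.toSubmodule (fun g v hv => X.apply_mem_toSubmodule g hv) with h | h
    · left
      apply Subrepresentation.toSubmodule_injective
      rw [h]; rfl
    · right
      apply Subrepresentation.toSubmodule_injective
      rw [h]; rfl

variable {ρ}

theorem nontrivial_of (h : ρ.IsIrreducible) : Nontrivial V := by
  by_contra hn
  rw [not_nontrivial_iff_subsingleton] at hn
  obtain ⟨x, y, hxy⟩ := h.toNontrivial
  apply hxy
  apply SetLike.ext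
  intro v
  have hv : v = 0 := Subsingleton.elim _ _
  subst hv
  exact ⟨fun _ => y.toSubmodule.zero_mem, fun _ => x.toSubmodule.zero_mem⟩

theorem bot_or_top (h : ρ.IsIrreducible) (X : Submodule K V) (hX : ∀ g, ∀ v ∈ X, ρ g v ∈ X) : X = ⊥ ∨ X = ⊤ := by
  rcases h.eq_bot_or_eq_top ⟨X, fun g v hv => hX g v hv⟩ with h | h
  · left
    exact congrArg Subrepresentation.toSubmodule h
  · right
    exact congrArg Subrepresentation.toSubmodule h

theorem dual_irreducible [FiniteDimensional K V] (h : ρ.IsIrreducible) : ρ.dual.IsIrreducible := by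
  have := nontrivial_of h
  refine irreducible_of _ fun X hX => ?_
  have hinv : ∀ g, ∀ v ∈ X.dualCoannihilator, ρ g v ∈ X.dualCoannihilator := by
    intro g v hv
    rw [Submodule.mem_dualCoannihilator] at hv ⊢
    intro f hf
    have h1 := hv _ (hX g⁻¹ f hf)
    rw [Representation.dual_apply, inv_inv] at h1
    exact h1
  rcases bot_or_top h _ hinv with h1 | h1
  · right
    rw [← Subspace.dualCoannihilator_dualAnnihilator_eq (W := X), h1, Submodule.dualAnnihilator_bot]
  · left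
    rw [← Subspace.dualCoannihilator_dualAnnihilator_eq (W := X), h1, Submodule.dualAnnihilator_top]

/-- **Norton's criterion.** -/
theorem norton {a : Module.End K V} {u : V} {φ : V →ₗ[K] K} [Nontrivial V]
    (ha : ∀ X : Submodule K V, (∀ g, ∀ v ∈ X, ρ g v ∈ X) → ∀ v ∈ X, a v ∈ X) (hau : ∀ v, a v = φ v • u)
    (h1 : ∀ X : Submodule K V, (∀ g, ∀ v ∈ X, ρ g v ∈ X) → u ∈ X → X = ⊤)
    (h2 : ∀ v, (∀ g, φ (ρ g v) = 0) → v = 0) : ρ.IsIrreducible := by
  refine irreducible_of _ fun X hX => ?_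
  by_cases hb : X = ⊥
  · exact Or.inl hb
  · right
    obtain ⟨v, hv, hv0⟩ := Submodule.exists_mem_ne_zero_of_ne_bot hb
    obtain ⟨g, hg⟩ : ∃ g, φ (ρ g v) ≠ 0 := by
      by_contra hcon
      push Not at hcon
      exact hv0 (h2 v hcon)
    apply h1 X hX
    have h3 := ha X hX _ (hX g v hv)
    rw [hau] at h3
    have h4 := X.smul_mem (φ (ρ g v))⁻¹ h3
    rwa [smul_smul, inv_mul_cancel₀ hg, one_smul] at h4

end one

section equiv

variable {V W : Type u} [AddCommGroup V] [Module K V] [AddCommGroup W] [Module K W]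
  {ρ : Representation K G V} {σ : Representation K G W}

theorem tau_of_equiv (e : Representation.Equiv ρ σ) (g : G) : tau ρ g = tau σ g := by
  unfold tau
  have h1 : σ g = (e.toLinearEquiv).conj (ρ g) := by
    ext v
    rw [LinearEquiv.conj_apply_apply]
    have h2 : e.toLinearEquiv (ρ g (e.toLinearEquiv.symm v)) = σ g (e.toLinearEquiv (e.toLinearEquiv.symm v)) :=
      IntertwiningMap.isIntertwining ρ σ e.toIntertwiningMap g (e.toLinearEquiv.symm v)
    rw [LinearEquiv.apply_symm_apply] at h2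
    exact h2.symm
  rw [h1, LinearMap.trace_conj']

theorem finrank_of_equiv (e : Representation.Equiv ρ σ) : finrank K V = finrank K W :=
  e.toLinearEquiv.finrank_eq

end equiv

section pair

variable (K) (V W : Type u) [AddCommGroup V] [Module K V] [AddCommGroup W] [Module K W]

/-- the four spaces -/
def VV : Fin 4 → Type u
  | 0 => V
  | 1 => Module.Dual K V
  | 2 => W
  | 3 => Module.Dual K W

instance acg (i : Fin 4) : AddCommGroup (VV K V W i) :=
  match i with
  | 0 => inferInstanceAs (AddCommGroup V)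
  | 1 => inferInstanceAs (AddCommGroup (Module.Dual K V))
  | 2 => inferInstanceAs (AddCommGroup W)
  | 3 => inferInstanceAs (AddCommGroup (Module.Dual K W))

instance mdl (i : Fin 4) : Module K (VV K V W i) :=
  match i with
  | 0 => inferInstanceAs (Module K V)
  | 1 => inferInstanceAs (Module K (Module.Dual K V))
  | 2 => inferInstanceAs (Module K W)
  | 3 => inferInstanceAs (Module K (Module.Dual K W))

instance fdm [FiniteDimensional K V] [FiniteDimensional K W] (i : Fin 4) : FiniteDimensional K (VV K V W i) :=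
  match i with
  | 0 => inferInstanceAs (FiniteDimensional K V)
  | 1 => inferInstanceAs (FiniteDimensional K (Module.Dual K V))
  | 2 => inferInstanceAs (FiniteDimensional K W)
  | 3 => inferInstanceAs (FiniteDimensional K (Module.Dual K W))

variable {V W}

/-- the four representations -/
def RR (ρ : Representation K G V) (σ : Representation K G W) : ∀ i : Fin 4, Representation K G (VV K V W i)
  | 0 => ρ
  | 1 => ρ.dual
  | 2 => σ
  | 3 => σ.dual

variable {K} [FiniteDimensional K V] [FiniteDimensional K W]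

/-- **Two pairs of dual representations with proportional trace differences coincide.** -/
theorem pair [IsAlgClosed K] {ρ : Representation K G V} {σ : Representation K G W} (hρ : ρ.IsIrreducible)
    (hσ : σ.IsIrreducible) {c d : K} (hc : c ≠ 0)
    (h : ∀ g, c * (tau ρ g - tau ρ g⁻¹) = d * (tau σ g - tau σ g⁻¹)) (hne : ∃ g, tau ρ g⁻¹ ≠ tau ρ g) :
    finrank K V = finrank K W ∧ ((∀ g, tau ρ g = tau σ g) ∨ ∀ g, tau ρ g = tau σ g⁻¹) := by
  by_contra hcon
  rw [not_and_or, not_or] at hcon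
  -- the equivalences excluded
  have e1 : ∀ {X Y : Type u} [AddCommGroup X] [Module K X] [AddCommGroup Y] [Module K Y]
      {α : Representation K G X} {β : Representation K G Y}, (¬ (finrank K X = finrank K Y ∧ ∀ g, tau α g = tau β g)) →
      IsEmpty (Representation.Equiv α β) ∧ IsEmpty (Representation.Equiv β α) := by
    intro X Y _ _ _ _ α β hn
    exact ⟨⟨fun e => hn ⟨finrank_of_equiv e, fun g => tau_of_equiv e g⟩⟩,
      ⟨fun e => hn ⟨(finrank_of_equiv e).symm, fun g => (tau_of_equiv e g).symm⟩⟩⟩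
  have hdV : finrank K (Module.Dual K V) = finrank K V := Subspace.dual_finrank_eq
  have hdW : finrank K (Module.Dual K W) = finrank K W := Subspace.dual_finrank_eq
  have hns : ∃ g, tau σ g⁻¹ ≠ tau σ g := by
    by_contra hcon'
    push Not at hcon'
    obtain ⟨g, hg⟩ := hne
    have h1 := h g
    rw [hcon' g, sub_self, mul_zero] at h1
    rcases mul_eq_zero.1 h1 with h1 | h1
    · exact hc h1
    · exact hg (sub_eq_zero.1 h1).symm
  have n01 : ¬ (finrank K V = finrank K (Module.Dual K V) ∧ ∀ g, tau ρ g = tau ρ.dual g) := by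
    rintro ⟨-, h1⟩
    obtain ⟨g, hg⟩ := hne
    have h2 := h1 g
    rw [tau_dual] at h2
    exact hg h2.symm
  have n23 : ¬ (finrank K W = finrank K (Module.Dual K W) ∧ ∀ g, tau σ g = tau σ.dual g) := by
    rintro ⟨-, h1⟩
    obtain ⟨g, hg⟩ := hns
    have h2 := h1 g
    rw [tau_dual] at h2
    exact hg h2.symm
  have n02 : ¬ (finrank K V = finrank K W ∧ ∀ g, tau ρ g = tau σ g) := by
    rintro ⟨h1, h2⟩
    rcases hcon with h3 | h3
    · exact h3 h1
    · exact h3.1 h2
  have n03 : ¬ (finrank K V = finrank K (Module.Dual K W) ∧ ∀ g, tau ρ g = tau σ.dual g) := by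
    rintro ⟨h1, h2⟩
    rcases hcon with h3 | h3
    · exact h3 (h1.trans hdW)
    · refine h3.2 fun g => ?_
      rw [h2, tau_dual]
  have n12 : ¬ (finrank K (Module.Dual K V) = finrank K W ∧ ∀ g, tau ρ.dual g = tau σ g) := by
    rintro ⟨h1, h2⟩
    rcases hcon with h3 | h3
    · exact h3 (hdV.symm.trans h1)
    · refine h3.2 fun g => ?_
      have h4 := h2 g⁻¹
      rw [tau_dual, inv_inv] at h4
      exact h4
  have n13 : ¬ (finrank K (Module.Dual K V) = finrank K (Module.Dual K W) ∧ ∀ g, tau ρ.dual g = tau σ.dual g) := by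
    rintro ⟨h1, h2⟩
    rcases hcon with h3 | h3
    · exact h3 (hdV.symm.trans (h1.trans hdW))
    · refine h3.1 fun g => ?_
      have h4 := h2 g⁻¹
      rw [tau_dual, tau_dual, inv_inv] at h4
      exact h4
  have hind := Blocks.ModularTraces.linearIndependent_trace (RR K ρ σ) (fun i =>
    match i with
    | 0 => hρ
    | 1 => dual_irreducible hρ
    | 2 => hσ
    | 3 => dual_irreducible hσ) (fun i j hij =>
    match i, j with
    | 0, 1 => (e1 n01).1
    | 1, 0 => (e1 n01).2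
    | 2, 3 => (e1 n23).1
    | 3, 2 => (e1 n23).2
    | 0, 2 => (e1 n02).1
    | 2, 0 => (e1 n02).2
    | 0, 3 => (e1 n03).1
    | 3, 0 => (e1 n03).2
    | 1, 2 => (e1 n12).1
    | 2, 1 => (e1 n12).2
    | 1, 3 => (e1 n13).1
    | 3, 1 => (e1 n13).2
    | 0, 0 => absurd rfl hij
    | 1, 1 => absurd rfl hij
    | 2, 2 => absurd rfl hij
    | 3, 3 => absurd rfl hij)
  rw [Fintype.linearIndependent_iff] at hind
  have h5 := hind ![c, -c, -d, d] (by
    funext g
    simp only [Fin.sum_univ_four, Pi.add_apply, Pi.smul_apply, smul_eq_mul, Pi.zero_apply]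
    have h6 := h g
    have h7 := tau_dual ρ g
    have h8 := tau_dual σ g
    show c * tau ρ g + -c * tau ρ.dual g + -d * tau σ g + d * tau σ.dual g = 0
    rw [h7, h8]
    linear_combination h6) 0
  exact hc h5

end pair

end Cfsg.Agent.H637.RepPair
end

-- part: H637/A7Four
section
/-!
# Irreducibility of the four-dimensional representation of `2.A₇` and of its symmetric square (helper637)

`ρ : G →* M₄(K)` with `ρ (gᵢ) = S b i`, `b² + b + 2 = 0`, `K` not of characteristic `7`: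
`four_irreducible`; for `K` not of characteristic `2` : `sym_irreducible`; `tau_four`, `tau_sym` : the traces.
-/

set_option autoImplicit false
set_option linter.unusedSectionVars false

namespace Cfsg.Agent.H637.A7Four

open Matrix Module Cfsg.Agent.H637.A7Mat Cfsg.Agent.H637.A7Ev Cfsg.Agent.H637.RepPair

universe u w

variable {K : Type u} [Field K] {G : Type w} [Group G]

section rep

variable {n : Type} [Fintype n] [DecidableEq n] (ρ : G →* Matrix n n K)

/-- the representation on `Kⁿ` -/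
noncomputable def rep : Representation K G (n → K) where
  toFun g := Matrix.toLin' (ρ g)
  map_one' := by rw [map_one, Matrix.toLin'_one]; rfl
  map_mul' a b := by rw [map_mul, Matrix.toLin'_mul]; rfl

theorem rep_apply (g : G) (v : n → K) : rep ρ g v = ρ g *ᵥ v := rfl

theorem tau_rep (g : G) : tau (rep ρ) g = (ρ g).trace := by
  show LinearMap.trace K (n → K) (Matrix.toLin' (ρ g)) = _
  rw [Matrix.trace_toLin'_eq]

end rep

section sym

variable (n : Type) [Fintype n] [DecidableEq n]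

/-- symmetric matrices -/
def Sym (K : Type u) [Field K] : Submodule K (Matrix n n K) where
  carrier := {M | Mᵀ = M}
  add_mem' := fun {a b} ha hb => by
    show (a + b)ᵀ = a + b
    rw [Matrix.transpose_add, show aᵀ = a from ha, show bᵀ = b from hb]
  zero_mem' := Matrix.transpose_zero
  smul_mem' := fun c a ha => by
    show (c • a)ᵀ = c • a
    rw [Matrix.transpose_smul, show aᵀ = a from ha]

variable {n}

/-- `M ↦ A M Aᵀ` -/
def act (A : Matrix n n K) : Matrix n n K →ₗ[K] Matrix n n K where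
  toFun M := A * M * Aᵀ
  map_add' M N := by rw [Matrix.mul_add, Matrix.add_mul]
  map_smul' c M := by rw [Matrix.mul_smul, Matrix.smul_mul]; rfl

theorem act_mem (A : Matrix n n K) {M : Matrix n n K} (hM : M ∈ Sym n K) : act A M ∈ Sym n K := by
  show (A * M * Aᵀ)ᵀ = A * M * Aᵀ
  rw [Matrix.transpose_mul, Matrix.transpose_mul, Matrix.transpose_transpose, show Mᵀ = M from hM, Matrix.mul_assoc]

variable (ρ : G →* Matrix n n K)

/-- the symmetric square -/
noncomputable def sym : Representation K G (Sym n K) where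
  toFun g := (act (ρ g)).restrict fun M hM => act_mem (ρ g) hM
  map_one' := by
    ext M
    show (ρ 1 * M.1 * (ρ 1)ᵀ) _ _ = M.1 _ _
    rw [map_one, Matrix.transpose_one, Matrix.one_mul, Matrix.mul_one]
  map_mul' a b := by
    ext M
    show (ρ (a * b) * M.1 * (ρ (a * b))ᵀ) _ _ = (ρ a * (ρ b * M.1 * (ρ b)ᵀ) * (ρ a)ᵀ) _ _
    rw [map_mul, Matrix.transpose_mul]
    simp only [Matrix.mul_assoc]

theorem sym_apply (g : G) (M : Sym n K) : (sym ρ g M : Matrix n n K) = ρ g * M * (ρ g)ᵀ := rfl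

theorem trace_end (f : Matrix n n K →ₗ[K] Matrix n n K) :
    LinearMap.trace K _ f = ∑ i, ∑ j, f (Matrix.single i j 1) i j := by
  rw [LinearMap.trace_eq_matrix_trace K (Matrix.stdBasis K n n) f, Matrix.trace, Fintype.sum_prod_type]
  refine Finset.sum_congr rfl fun i _ => Finset.sum_congr rfl fun j _ => ?_
  rw [Matrix.diag_apply, LinearMap.toMatrix_apply, Matrix.stdBasis_eq_single]
  rfl

/-- the symmetrisation -/
noncomputable def symm (K : Type u) [Field K] : Matrix n n K →ₗ[K] Matrix n n K where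
  toFun M := (2 : K)⁻¹ • (M + Mᵀ)
  map_add' M N := by
    rw [Matrix.transpose_add, ← smul_add]
    congr 1
    abel
  map_smul' c M := by
    rw [Matrix.transpose_smul, ← smul_add, smul_comm]
    rfl

theorem symm_apply (M : Matrix n n K) : symm K M = (2 : K)⁻¹ • (M + Mᵀ) := rfl

/-- twice the trace of the symmetric square -/
theorem tau_sym (h2 : (2 : K) ≠ 0) (g : G) : 2 * tau (sym ρ) g = (ρ g).trace ^ 2 + (ρ g * ρ g).trace := by
  set A := ρ g with hA
  have hmem : ∀ M : Matrix n n K, ((act A).comp (symm K)) M ∈ Sym n K := by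
    intro M
    refine (act_mem A (M := symm K M) ?_ :)
    show (symm K M)ᵀ = symm K M
    rw [symm_apply, Matrix.transpose_smul, Matrix.transpose_add, Matrix.transpose_transpose, add_comm]
  have hfix : ∀ M : Matrix n n K, M ∈ Sym n K → symm K M = M := by
    intro M hM
    rw [symm_apply, show Mᵀ = M from hM, ← two_smul K M, smul_smul, inv_mul_cancel₀ h2, one_smul]
  have h1 := LinearMap.trace_restrict_eq_of_forall_mem (Sym n K) ((act A).comp (symm K)) hmem
  have h3 : tau (sym ρ) g = LinearMap.trace K _ ((act A).comp (symm K)) := by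
    rw [← h1]
    unfold tau
    congr 1
    ext M
    show (A * M.1 * Aᵀ) _ _ = (A * (symm K M.1) * Aᵀ) _ _
    rw [hfix _ M.2]
  rw [h3, trace_end]
  have h4 : ∀ i j, ((act A).comp (symm K)) (Matrix.single i j 1) i j = (2 : K)⁻¹ * (A i i * A j j + A i j * A j i) := by
    intro i j
    show (A * ((2 : K)⁻¹ • (Matrix.single i j (1 : K) + (Matrix.single i j (1 : K))ᵀ) : Matrix n n K) * Aᵀ : Matrix n n K) i j = _
    rw [Matrix.transpose_single, Matrix.mul_smul, Matrix.smul_mul, Matrix.smul_apply, smul_eq_mul, Matrix.mul_add,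
      Matrix.add_mul, Matrix.add_apply]
    congr 2
    · rw [Matrix.mul_apply, Finset.sum_eq_single j]
      · rw [Matrix.mul_single_apply_same, mul_one, Matrix.transpose_apply]
      · intro b _ hb
        rw [Matrix.mul_single_apply_of_ne _ _ _ _ _ hb, zero_mul]
      · intro h; exact absurd (Finset.mem_univ _) h
    · rw [Matrix.mul_apply, Finset.sum_eq_single i]
      · rw [Matrix.mul_single_apply_same, mul_one, Matrix.transpose_apply]
      · intro b _ hb
        rw [Matrix.mul_single_apply_of_ne _ _ _ _ _ hb, zero_mul]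
      · intro h; exact absurd (Finset.mem_univ _) h
  simp only [h4]
  have h5 : ∑ i, ∑ j, (2 : K)⁻¹ * (A i i * A j j + A i j * A j i) = (2 : K)⁻¹ * (A.trace ^ 2 + (A * A).trace) := by
    simp only [← Finset.mul_sum, Finset.sum_add_distrib]
    congr 2
    rw [Matrix.trace, pow_two, Finset.sum_mul]
    simp only [Matrix.diag_apply, Finset.mul_sum]
  rw [h5, mul_inv_cancel_left₀ h2]

end sym

/-! ### irreducibility -/

section irr

variable {b : K} (hb : b * b + b + 2 = 0) (ρ : G →* Matrix (Fin 4) (Fin 4) K) (g : Fin 5 → G) (hg : ∀ i, ρ (g i) = S b i)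

/-- a word in the generators -/
def gw (w : List (Fin 5)) : G := (w.map g).prod

/-- the element of order seven -/
def gx : G := gw g [0, 1, 2, 3, 4]

include hg

theorem rho_gw (w : List (Fin 5)) : ρ (gw g w) = W b w := by
  unfold gw W
  rw [map_list_prod, List.map_map]
  congr 1
  exact List.map_congr_left fun i _ => hg i

theorem rho_gx : ρ (gx g) = X b := rho_gw ρ g hg _

omit hg in
theorem lc_mem (hb : b * b + b + 2 = 0) (Y : Submodule K (Matrix (Fin 4) (Fin 4) K)) :
    ∀ (cs : List (ℤ × ℤ)) (Xs : List MZ), (∀ Z ∈ Xs, ev b Z ∈ Y) → ev b (lc cs Xs) ∈ Y := by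
  intro cs
  induction cs with
  | nil =>
    intro Xs _
    rw [lc, ev_zero]
    exact Y.zero_mem
    simp
  | cons c cs ih =>
    intro Xs hX
    cases Xs with
    | nil =>
      rw [lc, ev_zero]
      exact Y.zero_mem
      simp
    | cons Z Xs =>
      rw [lc, ev_add, ev_mm hb, ev_sc, Matrix.smul_mul, Matrix.one_mul]
      exact Y.add_mem (Y.smul_mem _ (hX Z List.mem_cons_self)) (ih Xs fun Z' hZ' => hX Z' (List.mem_cons_of_mem _ hZ'))

/-- the row -/
def phi (b : K) : Fin 4 → K := fun j => ev b phiZ 0 j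

omit hg in
theorem phi_mul (v : Fin 4 → K) : ev b phiZ *ᵥ v = (phi b ⬝ᵥ v) • Pi.single 0 1 := by
  funext i
  rw [Pi.smul_apply, smul_eq_mul]
  by_cases hi : i = 0
  · subst hi
    rw [Pi.single_eq_same, mul_one]
    rfl
  · rw [Pi.single_eq_of_ne hi, mul_zero]
    show (fun j => ev b phiZ i j) ⬝ᵥ v = 0
    have : (fun j => ev b phiZ i j) = 0 := by
      funext j
      rw [ev_apply]
      fin_cases i
      · exact absurd rfl hi
      all_goals fin_cases j <;> simp [phiZ]
    rw [this, zero_dotProduct]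

include hb

omit hg in
theorem one_add_ne (h7 : (7 : K) ≠ 0) : 1 + 2 * b ≠ 0 := by
  intro h0
  apply h7
  linear_combination (-(1 + 2 * b)) * h0 + 4 * hb

/-- **The four-dimensional representation is irreducible.** -/
theorem four_irreducible (h7 : (7 : K) ≠ 0) : (rep ρ).IsIrreducible := by
  have h12 := one_add_ne hb h7
  let a : Module.End K (Fin 4 → K) := ∑ k ∈ Finset.range 7, rep ρ (gx g ^ k)
  let φ : (Fin 4 → K) →ₗ[K] K := (1 + 2 * b) • (dotProductBilin K K (phi b))
  have hφ : ∀ v, φ v = (1 + 2 * b) * (phi b ⬝ᵥ v) := fun v => rfl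
  refine norton (a := a) (u := Pi.single 0 1) (φ := φ) ?_ ?_ ?_ ?_
  · intro X hX v hv
    show (∑ k ∈ Finset.range 7, rep ρ (gx g ^ k)) v ∈ X
    rw [LinearMap.sum_apply]
    exact X.sum_mem fun k _ => hX _ v hv
  · intro v
    show (∑ k ∈ Finset.range 7, rep ρ (gx g ^ k)) v = _
    have h1 : ∑ k ∈ Finset.range 7, (X b) ^ k = (1 + 2 * b) • ev b phiZ := by
      have h2 := congrArg (ev b) x_sum
      rw [ev_sum, ev_mm hb, ev_sc, Matrix.smul_mul, Matrix.one_mul] at h2
      have h3 : ∑ k ∈ Finset.range 7, (X b) ^ k = ∑ i ∈ Finset.range 7, ev b (xp i) :=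
        Finset.sum_congr rfl fun k _ => (ev_xp hb k).symm
      rw [h3, h2]
      congr 1
      push_cast
      ring
    rw [LinearMap.sum_apply, hφ]
    have h4 : ∑ k ∈ Finset.range 7, (rep ρ (gx g ^ k)) v = (∑ k ∈ Finset.range 7, (X b) ^ k) *ᵥ v := by
      rw [Matrix.sum_mulVec]
      refine Finset.sum_congr rfl fun k _ => ?_
      rw [rep_apply, map_pow, rho_gx ρ g hg]
    rw [h4, h1, Matrix.smul_mulVec, phi_mul, smul_smul]
  · intro Y hY hu
    have key : ∀ k : Fin 4, (Pi.single k 1 : Fin 4 → K) ∈ Y := by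
      intro k
      have h1 := congrArg (ev b) (cols k)
      rw [ev_mm hb, ev_wd hb, ev_eu, ev_eu] at h1
      have h2 := hY (gw g (![[], [0], [1], [1, 0]] k)) _ hu
      rw [rep_apply, rho_gw ρ g hg] at h2
      have h3 : (W b (![[], [0], [1], [1, 0]] k)) *ᵥ (Pi.single 0 1 : Fin 4 → K) = Pi.single k 1 := by
        funext i
        have h4 := congrFun (congrFun h1 i) 0
        rw [Matrix.mul_single_apply_same, mul_one] at h4
        rw [Matrix.mulVec_single_one, Matrix.col_apply, h4, Matrix.single_apply]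
        by_cases hi : i = k
        · subst hi
          simp
        · rw [Pi.single_eq_of_ne hi, if_neg]
          rintro ⟨h5, -⟩
          exact hi h5.symm
      rwa [h3] at h2
    rw [eq_top_iff]
    intro v _
    have h5 : v = ∑ k, v k • (Pi.single k 1 : Fin 4 → K) := by
      rw [← pi_eq_sum_univ']
    rw [h5]
    exact Y.sum_mem fun k _ => Y.smul_mem _ (key k)
  · intro v hv
    have h0 : ∀ w, phi b ⬝ᵥ (W b w *ᵥ v) = 0 := by
      intro w
      have h1 := hv (gw g w)
      rw [hφ, rep_apply, rho_gw ρ g hg] at h1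
      exact (mul_eq_zero.1 h1).resolve_left h12
    have h1 : ∀ (r : Fin 4) (w : List (Fin 5)), (∀ j, (rowsZ.1 r j, rowsZ.2 r j) = ((mm phiZ (wd w)).1 0 j, (mm phiZ (wd w)).2 0 j)) →
        (ev b rowsZ *ᵥ v) r = 0 := by
      intro r w h
      have h2 : (ev b rowsZ *ᵥ v) r = (ev b (mm phiZ (wd w)) *ᵥ v) 0 := by
        show (fun j => ev b rowsZ r j) ⬝ᵥ v = (fun j => ev b (mm phiZ (wd w)) 0 j) ⬝ᵥ v
        congr 1
        funext j
        have h3 := Prod.ext_iff.1 (h j)
        dsimp only at h3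
        rw [ev_apply, ev_apply, h3.1, h3.2]
      rw [h2, ev_mm hb, ev_wd hb, ← Matrix.mulVec_mulVec]
      exact h0 w
    have h2 : ev b rowsZ *ᵥ v = 0 := by
      funext r
      fin_cases r
      · exact h1 0 _ rows_zero
      · exact h1 1 _ rows_one
      · exact h1 2 _ rows_two
      · exact h1 3 _ rows_three
    have h3 := congrArg (ev b) linv_rows
    rw [ev_mm hb, ev_sc] at h3
    have h4 : v = (ev b linvZ * ev b rowsZ) *ᵥ v := by
      rw [h3]
      simp
    rw [h4, ← Matrix.mulVec_mulVec, h2, Matrix.mulVec_zero]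

/-- the functional on symmetric matrices -/
def psi (b : K) : Matrix (Fin 4) (Fin 4) K →ₗ[K] K where
  toFun M := - (ev b PhiZ * M).trace
  map_add' M N := by rw [Matrix.mul_add, Matrix.trace_add, neg_add]
  map_smul' c M := by rw [Matrix.mul_smul, Matrix.trace_smul, smul_eq_mul, smul_eq_mul, RingHom.id_apply, mul_neg]

omit hb hg in
theorem two_smul_eq (M : Matrix (Fin 4) (Fin 4) K) (hM : Mᵀ = M) :
    (2 : K) • M = ∑ i, ∑ j, M i j • (Matrix.single i j (1 : K) + Matrix.single j i 1) := by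
  have h1 : M = ∑ i, ∑ j, M i j • Matrix.single i j (1 : K) := by
    conv_lhs => rw [Matrix.matrix_eq_sum_single M]
    refine Finset.sum_congr rfl fun i _ => Finset.sum_congr rfl fun j _ => ?_
    rw [Matrix.smul_single, smul_eq_mul, mul_one]
  have h2 : M = ∑ i, ∑ j, M i j • Matrix.single j i (1 : K) := by
    rw [Finset.sum_comm]
    conv_lhs => rw [h1]
    refine Finset.sum_congr rfl fun i _ => Finset.sum_congr rfl fun j _ => ?_
    rw [show M j i = M i j from congrFun (congrFun hM i) j]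
  simp only [smul_add, Finset.sum_add_distrib]
  rw [← h1, ← h2, two_smul]

/-- **The symmetric square is irreducible.** -/
theorem sym_irreducible (h2 : (2 : K) ≠ 0) : (sym ρ).IsIrreducible := by
  let u : Sym (Fin 4) K := ⟨Matrix.single 0 0 1, Matrix.transpose_single _ _ _⟩
  let a : Module.End K (Sym (Fin 4) K) := ∑ k ∈ Finset.range 7, sym ρ (gx g ^ k)
  let φ : Sym (Fin 4) K →ₗ[K] K := (psi b).comp (Sym (Fin 4) K).subtype
  have hφ : ∀ M : Sym (Fin 4) K, φ M = psi b M := fun v => rfl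
  have hnt : Nontrivial (Sym (Fin 4) K) := by
    refine ⟨u, 0, fun h => ?_⟩
    have h3 := congrArg (fun M : Sym (Fin 4) K => (M : Matrix (Fin 4) (Fin 4) K) 0 0) h
    simp [u] at h3
  refine norton (a := a) (u := u) (φ := φ) ?_ ?_ ?_ ?_
  · intro X hX v hv
    show (∑ k ∈ Finset.range 7, sym ρ (gx g ^ k)) v ∈ X
    rw [LinearMap.sum_apply]
    exact X.sum_mem fun k _ => hX _ v hv
  · intro M
    apply Subtype.ext
    have e1 : ((∑ k ∈ Finset.range 7, sym ρ (gx g ^ k)) M : Matrix (Fin 4) (Fin 4) K) =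
        (∑ k ∈ Finset.range 7, act ((X b) ^ k)) (M : Matrix (Fin 4) (Fin 4) K) := by
      rw [LinearMap.sum_apply, LinearMap.sum_apply, AddSubmonoidClass.coe_finsetSum]
      refine Finset.sum_congr rfl fun k _ => ?_
      rw [sym_apply, map_pow, rho_gx ρ g hg]
      rfl
    have e2 : ∀ i j : Fin 4, (∑ k ∈ Finset.range 7, act ((X b) ^ k)) (Matrix.single i j (1 : K) + Matrix.single j i 1) =
        (psi b).smulRight (Matrix.single 0 0 (1 : K)) (Matrix.single i j (1 : K) + Matrix.single j i 1) := by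
      intro i j
      have h3 := congrArg (ev b) (sum_sym i j)
      rw [ev_sum, ev_neg, ev_mm hb, ev_sc, Matrix.smul_mul, Matrix.one_mul, ev_eu] at h3
      rw [LinearMap.sum_apply, LinearMap.smulRight_apply]
      have h4 : ∑ k ∈ Finset.range 7, (act ((X b) ^ k)) (Matrix.single i j (1 : K) + Matrix.single j i 1) =
          ∑ k ∈ Finset.range 7, ev b (mm (mm (xp k) (eu i j + eu j i)) (tt (xp k))) := by
        refine Finset.sum_congr rfl fun k _ => ?_
        rw [ev_mm hb, ev_mm hb, ev_tt, ev_xp hb, ev_add, ev_eu, ev_eu]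
        rfl
      rw [h4, h3, ← neg_smul]
      congr 1
      show _ = - (ev b PhiZ * (Matrix.single i j (1 : K) + Matrix.single j i 1)).trace
      rw [Matrix.mul_add, Matrix.trace_add, Matrix.trace_mul_comm, Matrix.trace_mul_comm (ev b PhiZ),
        Matrix.trace_single_mul, Matrix.trace_single_mul, ev_apply, ev_apply]
      push_cast
      ring
    have e3 : ∀ N : Matrix (Fin 4) (Fin 4) K, Nᵀ = N → (∑ k ∈ Finset.range 7, act ((X b) ^ k)) N =
        (psi b).smulRight (Matrix.single 0 0 (1 : K)) N := by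
      intro N hN
      have h3 : (2 : K) • (∑ k ∈ Finset.range 7, act ((X b) ^ k)) N =
          (2 : K) • (psi b).smulRight (Matrix.single 0 0 (1 : K)) N := by
        rw [← map_smul, ← map_smul, two_smul_eq N hN]
        simp only [map_sum, map_smul, e2]
      have h4 := congrArg (fun z => (2 : K)⁻¹ • z) h3
      simpa only [smul_smul, inv_mul_cancel₀ h2, one_smul] using h4
    show ((∑ k ∈ Finset.range 7, sym ρ (gx g ^ k)) M : Matrix (Fin 4) (Fin 4) K) = _
    rw [e1, e3 _ M.2]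
    rfl
  · intro Y hY hu
    have hmem : ∀ Z ∈ cw.map vv, ev b Z ∈ Y.map (Sym (Fin 4) K).subtype := by
      intro Z hZ
      obtain ⟨w, -, rfl⟩ := List.mem_map.1 hZ
      refine ⟨sym ρ (gw g w) u, hY _ _ hu, ?_⟩
      show (sym ρ (gw g w) u : Matrix (Fin 4) (Fin 4) K) = _
      rw [sym_apply, rho_gw ρ g hg]
      unfold vv
      rw [ev_mm hb, ev_mm hb, ev_tt, ev_wd hb, ev_eu]
    have h4 : (2 : K) * 2 ≠ 0 := mul_ne_zero h2 h2
    rw [eq_top_iff]
    intro M _
    have h5 : (2 : K) • (2 : K) • (M : Matrix (Fin 4) (Fin 4) K) ∈ Y.map (Sym (Fin 4) K).subtype := by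
      rw [two_smul_eq _ M.2, Finset.smul_sum]
      refine Submodule.sum_mem _ fun i _ => ?_
      rw [Finset.smul_sum]
      refine Submodule.sum_mem _ fun j _ => ?_
      rw [smul_comm]
      apply Submodule.smul_mem
      have h6 := lc_mem hb _ (Ct.getD (4 * i + j) []) (cw.map vv) hmem
      rw [span_vv i j, ev_mm hb, ev_sc, ev_add, ev_eu, ev_eu, Matrix.smul_mul, Matrix.one_mul] at h6
      have h7 : (((2 : ℤ), (0 : ℤ)).1 : K) + b * (((2 : ℤ), (0 : ℤ)).2 : K) = 2 := by
        push_cast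
        ring
      rwa [h7] at h6
    have h6 : (M : Matrix (Fin 4) (Fin 4) K) ∈ Y.map (Sym (Fin 4) K).subtype := by
      have h7 := Submodule.smul_mem _ ((2 : K) * 2)⁻¹ h5
      rwa [smul_smul (2 : K) 2, smul_smul, inv_mul_cancel₀ h4, one_smul] at h7
    obtain ⟨M', hM', e⟩ := h6
    have : M' = M := Subtype.ext e
    rwa [← this]
  · intro M hM
    let f : Matrix (Fin 4) (Fin 4) K →ₗ[K] K :=
      { toFun := fun N => (N * (M : Matrix (Fin 4) (Fin 4) K)).trace
        map_add' := fun A B => by rw [Matrix.add_mul, Matrix.trace_add]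
        map_smul' := fun c A => by rw [Matrix.smul_mul, Matrix.trace_smul]; rfl }
    have hmem : ∀ Z ∈ rw'.map pp, ev b Z ∈ LinearMap.ker f := by
      intro Z hZ
      obtain ⟨w, -, rfl⟩ := List.mem_map.1 hZ
      have h3 := hM (gw g w)
      rw [hφ, sym_apply, rho_gw ρ g hg] at h3
      have h4 : (ev b PhiZ * (W b w * (M : Matrix (Fin 4) (Fin 4) K) * (W b w)ᵀ)).trace = 0 := neg_eq_zero.1 h3
      rw [LinearMap.mem_ker]
      show (ev b (pp w) * (M : Matrix (Fin 4) (Fin 4) K)).trace = 0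
      unfold pp
      rw [ev_mm hb, ev_mm hb, ev_tt, ev_wd hb, Matrix.mul_assoc, Matrix.mul_assoc, Matrix.trace_mul_comm, ← h4]
      congr 1
      simp only [Matrix.mul_assoc]
    apply Subtype.ext
    show (M : Matrix (Fin 4) (Fin 4) K) = 0
    funext i j
    have h6 := lc_mem hb _ (Rt.getD (4 * i + j) []) (rw'.map pp) hmem
    rw [span_pp i j, ev_mm hb, ev_sc, ev_add, ev_eu, ev_eu, Matrix.smul_mul, Matrix.one_mul, LinearMap.mem_ker,
      map_smul, map_add] at h6
    have h7 : (((2 : ℤ), (0 : ℤ)).1 : K) + b * (((2 : ℤ), (0 : ℤ)).2 : K) = 2 := by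
      push_cast
      ring
    rw [h7, smul_eq_mul] at h6
    have h8 : ∀ i j, f (Matrix.single i j 1) = (M : Matrix (Fin 4) (Fin 4) K) j i := by
      intro i j
      show (Matrix.single i j (1 : K) * (M : Matrix (Fin 4) (Fin 4) K)).trace = _
      rw [Matrix.trace_single_mul, one_smul]
    rw [h8, h8, show (M : Matrix (Fin 4) (Fin 4) K) j i = (M : Matrix (Fin 4) (Fin 4) K) i j from
      congrFun (congrFun M.2 i) j, ← two_mul] at h6
    have h9 := (mul_eq_zero.1 h6).resolve_left h2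
    exact (mul_eq_zero.1 h9).resolve_left h2

end irr

end Cfsg.Agent.H637.A7Four
end

-- part: H637/A7Main
section
/-!
# `A₇` and `2.A₇` in matrix groups, all degrees and characteristics (helper637)

`P` a core (`H915.LD.Core`) with `Soc P ≅ A₇` whose scalars have order at most two: `main` : `P` is self-dual, or `n = 4` or
(`n = 10`, `p ≠ 2`), `p ≠ 7`, and the traces are those of the four-dimensional representation of `2.A₇` or its dual, or its
symmetric square; `le_two` : the conclusion on the field.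
-/

set_option autoImplicit false
set_option linter.unusedSectionVars false

namespace Cfsg.Agent.H637.A7Main

open Cfsg Cfsg.Geo Matrix Module Cfsg.Agent.H637.A7Mat Cfsg.Agent.H637.A7Ev Cfsg.Agent.H637.RepPair
  Cfsg.Agent.H637.A7Four Cfsg.Agent.H637.A7Grp Cfsg.Agent.H637.A7Cov Cfsg.Agent.H915.LD

universe u v

/-! ### the roots -/

section root

variable {K : Type u} [Field K] [IsAlgClosed K]

theorem exists_b : ∃ b : K, b * b + b + 2 = 0 := by
  obtain ⟨b, hb⟩ := IsAlgClosed.exists_root (Polynomial.X ^ 2 + Polynomial.X + Polynomial.C 2 : Polynomial K) (by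
    have h1 : (Polynomial.X ^ 2 + Polynomial.X + Polynomial.C 2 : Polynomial K).degree = 2 := by
      compute_degree!
    rw [h1]; decide)
  refine ⟨b, ?_⟩
  rw [Polynomial.IsRoot.def] at hb
  simp only [Polynomial.eval_add, Polynomial.eval_pow, Polynomial.eval_X, Polynomial.eval_C] at hb
  rw [← hb]
  ring

/-- The Frobenius on the roots of `x² + x + 2`. -/
theorem frob_b {b : K} (hb : b * b + b + 2 = 0) (h7 : (7 : K) ≠ 0) (p : ℕ) [hp : Fact p.Prime] [CharP K p] :
    ((p % 7 = 1 ∨ p % 7 = 2 ∨ p % 7 = 4) ∧ b ^ p = b) ∨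
      ((p % 7 = 3 ∨ p % 7 = 5 ∨ p % 7 = 6) ∧ b ^ p = -1 - b) := by
  have : NeZero ((7 : ℕ) : K) := ⟨by exact_mod_cast h7⟩
  obtain ⟨ζ, hζ⟩ := HasEnoughRootsOfUnity.exists_primitiveRoot K 7
  have h71 : ζ ^ 7 = 1 := hζ.pow_eq_one
  have hs : 1 + ζ + ζ ^ 2 + ζ ^ 3 + ζ ^ 4 + ζ ^ 5 + ζ ^ 6 = 0 := by
    have h1 := hζ.geom_sum_eq_zero (by norm_num)
    simp only [Finset.sum_range_succ, Finset.sum_range_zero, pow_zero, pow_one, zero_add] at h1
    exact h1
  set e := ζ + ζ ^ 2 + ζ ^ 4 with he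
  have hee : e * e + e + 2 = 0 := by
    have h8 : ζ ^ 8 = ζ := by rw [show 8 = 7 + 1 from rfl, pow_succ, h71, one_mul]
    have : e * e + e + 2 = 2 * (1 + ζ + ζ ^ 2 + ζ ^ 3 + ζ ^ 4 + ζ ^ 5 + ζ ^ 6) + (ζ ^ 8 - ζ) := by
      rw [he]; ring
    rw [this, hs, h8]; ring
  have hbe : b = e ∨ b = -1 - e := by
    have h1 : (b - e) * (b + 1 + e) = 0 := by linear_combination hb - hee
    rcases mul_eq_zero.1 h1 with h | h
    · left; linear_combination h
    · right; linear_combination h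
  have hp7 : p % 7 ≠ 0 := by
    intro h0
    have h1 : 7 ∣ p := Nat.dvd_of_mod_eq_zero h0
    have h2 : p = 7 := ((Nat.prime_dvd_prime_iff_eq (by norm_num) hp.out).1 h1).symm
    apply h7
    have h3 := CharP.cast_eq_zero K p
    rw [h2] at h3
    exact_mod_cast h3
  have hpow : ∀ m : ℕ, ζ ^ m = ζ ^ (m % 7) := by
    intro m
    conv_lhs => rw [← Nat.div_add_mod m 7, pow_add, pow_mul, h71, one_pow, one_mul]
  have hep : e ^ p = ζ ^ (p % 7) + ζ ^ (2 * p % 7) + ζ ^ (4 * p % 7) := by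
    rw [he, add_pow_char, add_pow_char, ← pow_mul, ← pow_mul, hpow p, hpow (2 * p), hpow (4 * p)]
  have h2 : 2 * p % 7 = 2 * (p % 7) % 7 := by omega
  have h4 : 4 * p % 7 = 4 * (p % 7) % 7 := by omega
  have hcases : ((p % 7 = 1 ∨ p % 7 = 2 ∨ p % 7 = 4) ∧ e ^ p = e) ∨
      ((p % 7 = 3 ∨ p % 7 = 5 ∨ p % 7 = 6) ∧ e ^ p = -1 - e) := by
    have hlt : p % 7 < 7 := Nat.mod_lt _ (by norm_num)
    rw [h2, h4] at hep
    generalize p % 7 = r at *
    interval_cases r
    · exact absurd rfl hp7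
    · left; refine ⟨by norm_num, ?_⟩; rw [hep, he]; ring
    · left; refine ⟨by norm_num, ?_⟩; rw [hep, he]; norm_num; ring
    · right; refine ⟨by norm_num, ?_⟩; rw [hep, he]; norm_num; linear_combination hs
    · left; refine ⟨by norm_num, ?_⟩; rw [hep, he]; norm_num; ring
    · right; refine ⟨by norm_num, ?_⟩; rw [hep, he]; norm_num; linear_combination hs
    · right; refine ⟨by norm_num, ?_⟩; rw [hep, he]; norm_num; linear_combination hs
  rcases hcases with ⟨h5, h6⟩ | ⟨h5, h6⟩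
  · left
    refine ⟨h5, ?_⟩
    rcases hbe with h | h
    · rw [h, h6]
    · rw [h, sub_pow_char, h6]
      have : (-1 : K) ^ p = -1 := by
        rw [← frobenius_def (R := K) (p := p), map_neg, map_one]
      rw [this]
  · right
    refine ⟨h5, ?_⟩
    rcases hbe with h | h
    · rw [h, h6]
    · rw [h, sub_pow_char, h6]
      have : (-1 : K) ^ p = -1 := by
        rw [← frobenius_def (R := K) (p := p), map_neg, map_one]
      rw [this]

end root

/-! ### the group generated by the matrices -/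

section gens

variable {K : Type u} [Field K] {b : K} (hb : b * b + b + 2 = 0)

/-- the generators as invertible matrices -/
def Su (hb : b * b + b + 2 = 0) (i : Fin 5) : GL (Fin 4) K where
  val := S b i
  inv := S b i ^ 2
  val_inv := by rw [← pow_succ', S_cube hb]
  inv_val := by rw [← pow_succ, S_cube hb]

theorem Su_cube (i : Fin 5) : Su hb i ^ 3 = 1 := Units.ext (S_cube hb i)

theorem Su_sq (i j : Fin 5) (hij : i ≠ j) : (Su hb i * Su hb j) ^ 2 = -1 := Units.ext (S_sq hb hij)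

end gens

/-! ### the Frobenius on the four-dimensional representation -/

section frob

variable {K : Type u} [Field K] {b : K} (hb : b * b + b + 2 = 0) (p : ℕ) [hp : Fact p.Prime] [CharP K p]
  {D : Type v} [Group D] (β : D →* GL (Fin 4) K) {g : Fin 5 → D} (hg : ∀ i, β (g i) = Su hb i)
  (hgen : Subgroup.closure (Set.range g) = ⊤)

/-- the trace -/
def tU (β : D →* GL (Fin 4) K) (d : D) : K := (β d : Matrix (Fin 4) (Fin 4) K).trace

include hg hgen

theorem tU_frob_fix (hbp : b ^ p = b) (d : D) : tU β d ^ p = tU β d := by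
  have key : ∀ d, ((β d : GL (Fin 4) K) : Matrix (Fin 4) (Fin 4) K).map (frobenius K p) = β d := by
    let Fr : GL (Fin 4) K →* GL (Fin 4) K := Units.map (RingHom.mapMatrix (frobenius K p)).toMonoidHom
    have h1 : Fr.comp β = β := by
      refine MonoidHom.eq_of_eqOn_dense hgen ?_
      rintro _ ⟨i, rfl⟩
      apply Units.ext
      show ((β (g i) : GL (Fin 4) K) : Matrix (Fin 4) (Fin 4) K).map (frobenius K p) = β (g i)
      rw [hg]
      show (S b i).map (frobenius K p) = S b i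
      unfold S
      rw [ev_map, frobenius_def, hbp]
    intro d
    exact congrArg Units.val (DFunLike.congr_fun h1 d)
  have h2 := congrArg Matrix.trace (key d)
  rw [← frobenius_def (R := K) (p := p)]
  unfold tU
  conv_rhs => rw [← h2]
  rw [Matrix.trace, Matrix.trace, map_sum]
  rfl

theorem tU_frob_inv (hbp : b ^ p = -1 - b) (d : D) : tU β d ^ p = tU β d⁻¹ := by
  have key : ∀ d, (((β d : GL (Fin 4) K) : Matrix (Fin 4) (Fin 4) K).map (frobenius K p))ᵀ * ev b HZ * β d = ev b HZ := by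
    intro d
    have hd : d ∈ Subgroup.closure (Set.range g) := by rw [hgen]; trivial
    induction hd using Subgroup.closure_induction with
    | mem x hx =>
      obtain ⟨i, rfl⟩ := hx
      rw [hg]
      show ((S b i).map (frobenius K p))ᵀ * ev b HZ * S b i = ev b HZ
      have h1 : (S b i).map (frobenius K p) = S (-1 - b) i := by
        unfold S
        rw [ev_map, frobenius_def, hbp]
      rw [h1]
      exact S_herm hb i
    | one => rw [map_one, Units.val_one, Matrix.map_one _ (map_zero _) (map_one _), Matrix.transpose_one,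
        Matrix.one_mul, Matrix.mul_one]
    | mul x y _ _ hx hy =>
      rw [map_mul, Units.val_mul, Matrix.map_mul, Matrix.transpose_mul]
      calc _ = (((β y : GL (Fin 4) K) : Matrix (Fin 4) (Fin 4) K).map (frobenius K p))ᵀ *
            ((((β x : GL (Fin 4) K) : Matrix (Fin 4) (Fin 4) K).map (frobenius K p))ᵀ * ev b HZ * β x) * β y := by
            simp only [Matrix.mul_assoc]
        _ = _ := by rw [hx, hy]
    | inv x _ hx =>
      have h1 : (((β x⁻¹ : GL (Fin 4) K) : Matrix (Fin 4) (Fin 4) K).map (frobenius K p))ᵀ *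
          (((β x : GL (Fin 4) K) : Matrix (Fin 4) (Fin 4) K).map (frobenius K p))ᵀ = 1 := by
        rw [← Matrix.transpose_mul, ← Matrix.map_mul, ← Units.val_mul, ← map_mul, mul_inv_cancel, map_one, Units.val_one,
          Matrix.map_one _ (map_zero _) (map_one _), Matrix.transpose_one]
      have h2 : ((β x : GL (Fin 4) K) : Matrix (Fin 4) (Fin 4) K) * (β x⁻¹ : GL (Fin 4) K) = 1 := by
        rw [← Units.val_mul, ← map_mul, mul_inv_cancel, map_one, Units.val_one]
      calc _ = (((β x⁻¹ : GL (Fin 4) K) : Matrix (Fin 4) (Fin 4) K).map (frobenius K p))ᵀ *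
            ((((β x : GL (Fin 4) K) : Matrix (Fin 4) (Fin 4) K).map (frobenius K p))ᵀ * ev b HZ * β x) *
              (β x⁻¹ : GL (Fin 4) K) := by rw [hx]
        _ = ((((β x⁻¹ : GL (Fin 4) K) : Matrix (Fin 4) (Fin 4) K).map (frobenius K p))ᵀ *
          (((β x : GL (Fin 4) K) : Matrix (Fin 4) (Fin 4) K).map (frobenius K p))ᵀ) * ev b HZ *
            (((β x : GL (Fin 4) K) : Matrix (Fin 4) (Fin 4) K) * (β x⁻¹ : GL (Fin 4) K)) := by
            simp only [Matrix.mul_assoc]
        _ = _ := by rw [h1, h2, Matrix.one_mul, Matrix.mul_one]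
  have h3 : ((β d : GL (Fin 4) K) : Matrix (Fin 4) (Fin 4) K) * (β d⁻¹ : GL (Fin 4) K) = 1 := by
    rw [← Units.val_mul, ← map_mul, mul_inv_cancel, map_one, Units.val_one]
  have h4 : (((β d : GL (Fin 4) K) : Matrix (Fin 4) (Fin 4) K).map (frobenius K p))ᵀ =
      ev b HZ * (β d⁻¹ : GL (Fin 4) K) * ev b HiZ := by
    calc (((β d : GL (Fin 4) K) : Matrix (Fin 4) (Fin 4) K).map (frobenius K p))ᵀ
        = (((β d : GL (Fin 4) K) : Matrix (Fin 4) (Fin 4) K).map (frobenius K p))ᵀ * ev b HZ *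
            (((β d : GL (Fin 4) K) : Matrix (Fin 4) (Fin 4) K) * (β d⁻¹ : GL (Fin 4) K)) * ev b HiZ := by
          rw [h3, Matrix.mul_one, Matrix.mul_assoc, H_inv hb, Matrix.mul_one]
      _ = ((((β d : GL (Fin 4) K) : Matrix (Fin 4) (Fin 4) K).map (frobenius K p))ᵀ * ev b HZ * β d) *
          (β d⁻¹ : GL (Fin 4) K) * ev b HiZ := by simp only [Matrix.mul_assoc]
      _ = _ := by rw [key d]
  have h5 := congrArg Matrix.trace h4
  rw [Matrix.trace_transpose, Matrix.mul_assoc, Matrix.trace_mul_comm, Matrix.mul_assoc, H_inv' hb, Matrix.mul_one] at h5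
  unfold tU
  rw [← h5, ← frobenius_def (R := K) (p := p), Matrix.trace, Matrix.trace, map_sum]
  rfl

end frob

/-! ### cores with few scalars -/

section core

variable {ι : Type} [Fintype ι] [DecidableEq ι] {F : Type u} [Field F] {P : Subgroup (GL ι F)}

/-- the matrix of an element of `P` over the extension -/
def mK (K : Type u) [Field K] [Algebra F K] (P : Subgroup (GL ι F)) : P →* Matrix ι ι K where
  toFun g := ((g : GL ι F) : Matrix ι ι F).map (algebraMap F K)
  map_one' := by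
    rw [Subgroup.coe_one, Units.val_one, Matrix.map_one _ (map_zero _) (map_one _)]
  map_mul' a b := by rw [Subgroup.coe_mul, Units.val_mul, Matrix.map_mul]

theorem trace_mK (K : Type u) [Field K] [Algebra F K] (g : P) : (mK K P g).trace = algebraMap F K (tr (g : GL ι F)) := by
  unfold tr
  show (((g : GL ι F) : Matrix ι ι F).map (algebraMap F K)).trace = _
  rw [Matrix.trace, Matrix.trace, map_sum]
  rfl

/-- an absolutely irreducible group spans over the extension -/
theorem span_mK (K : Type u) [Field K] [Algebra F K] (h : ActsAbsolutelyIrreducibly (matrixSet P)) :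
    Submodule.span K (Set.range (mK K P)) = ⊤ := by
  have h1 := H906.span_subtype h
  rw [eq_top_iff]
  have h2 : ∀ A : Matrix ι ι F, A.map (algebraMap F K) ∈ Submodule.span K (Set.range (mK K P)) := by
    intro A
    have hA : A ∈ Submodule.span F (Set.range ((Units.coeHom (Matrix ι ι F)).comp P.subtype)) := by rw [h1]; trivial
    induction hA using Submodule.span_induction with
    | mem x hx =>
      obtain ⟨g, rfl⟩ := hx
      exact Submodule.subset_span ⟨g, rfl⟩
    | zero =>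
      rw [Matrix.map_zero _ (map_zero _)]
      exact Submodule.zero_mem _
    | add x y _ _ hx hy =>
      rw [Matrix.map_add _ (map_add _)]
      exact Submodule.add_mem _ hx hy
    | smul c x _ hx =>
      have : (c • x).map (algebraMap F K) = (algebraMap F K c) • x.map (algebraMap F K) := by
        ext i j
        simp
      rw [this]
      exact Submodule.smul_mem _ _ hx
  intro M _
  rw [Matrix.matrix_eq_sum_single M]
  refine Submodule.sum_mem _ fun i _ => Submodule.sum_mem _ fun j _ => ?_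
  have h3 : Matrix.single i j (M i j) = M i j • (Matrix.single i j (1 : F)).map (algebraMap F K) := by
    ext k l
    simp [Matrix.single_apply]
  rw [h3]
  exact Submodule.smul_mem _ _ (h2 _)

theorem irreducible_mK [Nonempty ι] (K : Type u) [Field K] [Algebra F K] (h : ActsAbsolutelyIrreducibly (matrixSet P))
    {D : Type v} [Group D] (α : D →* P) (hα : Function.Surjective α) : (rep ((mK K P).comp α)).IsIrreducible := by
  refine irreducible_of _ fun X hX => ?_
  have h1 : ∀ M : Matrix ι ι K, ∀ v ∈ X, M *ᵥ v ∈ X := by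
    intro M v hv
    have hM : M ∈ Submodule.span K (Set.range (mK K P)) := by rw [span_mK K h]; trivial
    induction hM using Submodule.span_induction with
    | mem x hx =>
      obtain ⟨g, rfl⟩ := hx
      obtain ⟨d, rfl⟩ := hα g
      exact hX d v hv
    | zero =>
      rw [Matrix.zero_mulVec]
      exact X.zero_mem
    | add x y _ _ hx hy =>
      rw [Matrix.add_mulVec]
      exact X.add_mem hx hy
    | smul c x _ hx =>
      rw [Matrix.smul_mulVec]
      exact X.smul_mem _ hx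
  by_cases hb : X = ⊥
  · exact Or.inl hb
  · right
    obtain ⟨v, hv, hv0⟩ := Submodule.exists_mem_ne_zero_of_ne_bot hb
    obtain ⟨j, hj⟩ : ∃ j, v j ≠ 0 := by
      by_contra hcon
      push Not at hcon
      exact hv0 (funext hcon)
    rw [eq_top_iff]
    intro w _
    have h2 := h1 (Matrix.vecMulVec w (Pi.single j (v j)⁻¹)) v hv
    rw [Matrix.vecMulVec_mulVec, single_dotProduct, inv_mul_cancel₀ hj] at h2
    simpa using h2

/-- the conclusion -/
structure Concl (P : Subgroup (GL ι F)) (p : ℕ) (e : Soc P ≃* alternatingGroup (Fin 7)) (K : Type u) [Field K] [Algebra F K]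
    (b : K) (D : Type u) [Group D] (α : D →* P) (β : D →* GL (Fin 4) K) (g : Fin 5 → D) (z : D) : Prop where
  hb : b * b + b + 2 = 0
  good : Good ((e.toMonoidHom.comp (toSoc P)).comp α) g z
  surj : Function.Surjective α
  gS : ∀ i, (β (g i) : Matrix (Fin 4) (Fin 4) K) = S b i
  zm : β z = -1
  h7 : (7 : K) ≠ 0
  cases : (Fintype.card ι = 4 ∧ ((∀ d, algebraMap F K (tr (α d : GL ι F)) = tU β d) ∨
      ∀ d, algebraMap F K (tr (α d : GL ι F)) = tU β d⁻¹)) ∨
    (Fintype.card ι = 10 ∧ ((2 : K) ≠ 0 ∧ α z = 1) ∧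
      ((∀ d, algebraMap F K (tr (α d : GL ι F)) = tau (sym ((Units.coeHom _).comp β)) d) ∨
      ∀ d, algebraMap F K (tr (α d : GL ι F)) = tau (sym ((Units.coeHom _).comp β)) d⁻¹))

/-- In degree ten the scalars are trivial. -/
theorem Concl.scalars_eq {p : ℕ} {e : Soc P ≃* alternatingGroup (Fin 7)} {K : Type u} [Field K] [Algebra F K]
    {b : K} {D : Type u} [Group D] {α : D →* P} {β : D →* GL (Fin 4) K} {g : Fin 5 → D} {z : D}
    (H : Concl P p e K b D α β g z) (h10 : Fintype.card ι = 10) : (scalars ι F).subgroupOf P = ⊥ := by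
  have hz : α z = 1 := by
    rcases H.cases with ⟨h, -⟩ | ⟨-, ⟨-, h⟩, -⟩
    · omega
    · exact h
  rw [Subgroup.eq_bot_iff_forall]
  intro a ha
  obtain ⟨d, rfl⟩ := H.surj a
  have h1 : ((e.toMonoidHom.comp (toSoc P)).comp α) d = 1 := by
    have h2 : α d ∈ (e.toMonoidHom.comp (toSoc P)).ker := by
      rw [ker_comp e]
      exact ha
    exact h2
  rcases H.good.ker d h1 with h | h
  · rw [h, map_one]
  · rw [h, hz]

variable [Finite F] (p : ℕ) [hp : Fact p.Prime] [CharP F p]

/-- symmetric matrices are given by the entries above the diagonal -/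
def symEquiv (K : Type u) [Field K] (m : ℕ) : Sym (Fin m) K ≃ₗ[K] ({q : Fin m × Fin m // q.1 ≤ q.2} → K) where
  toFun M q := (M : Matrix (Fin m) (Fin m) K) q.1.1 q.1.2
  map_add' M N := rfl
  map_smul' c M := rfl
  invFun v := ⟨Matrix.of fun i j => v ⟨(min i j, max i j), min_le_max⟩, by
    show (Matrix.of fun i j => v ⟨(min i j, max i j), min_le_max⟩)ᵀ = _
    ext i j
    simp only [Matrix.transpose_apply, Matrix.of_apply]
    congr 2
    rw [min_comm, max_comm]⟩
  left_inv M := by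
    apply Subtype.ext
    ext i j
    show (M : Matrix (Fin m) (Fin m) K) (min i j) (max i j) = (M : Matrix (Fin m) (Fin m) K) i j
    rcases le_total i j with h | h
    · rw [min_eq_left h, max_eq_right h]
    · rw [min_eq_right h, max_eq_left h]
      exact congrFun (congrFun M.2 i) j
  right_inv v := by
    funext ⟨⟨i, j⟩, h⟩
    show v ⟨(min i j, max i j), min_le_max⟩ = v ⟨(i, j), h⟩
    congr 2
    exact Prod.ext (min_eq_left h) (max_eq_right h)

theorem finrank_sym (K : Type u) [Field K] : finrank K (Sym (Fin 4) K) = 10 := by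
  rw [(symEquiv K 4).finrank_eq, Module.finrank_fintype_fun_eq_card]
  decide

/-- **The main theorem.** -/
theorem main (hC : Core P) (e : Soc P ≃* alternatingGroup (Fin 7))
    (hZ : ∀ g ∈ P, g ∈ scalars ι F → g * g = 1) :
    SD P ∨ ∃ (b : AlgebraicClosure F) (D : Type u) (_ : Group D) (α : D →* P) (β : D →* GL (Fin 4) (AlgebraicClosure F))
      (g : Fin 5 → D) (z : D), Concl P p e (AlgebraicClosure F) b D α β g z := by
  classical
  set K := AlgebraicClosure F with hK
  have hι : Nonempty ι := hC.nonempty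
  have hKp : CharP K p := charP_of_injective_algebraMap (algebraMap F K).injective p
  obtain ⟨b, hb⟩ := exists_b (K := K)
  let π : P →* alternatingGroup (Fin 7) := e.toMonoidHom.comp (toSoc P)
  have hπ : Function.Surjective π := e.surjective.comp (toSoc_surjective P)
  have hker : π.ker = (scalars ι F).subgroupOf P := ker_comp e
  have hk : ∀ k, π k = 1 → (∀ g, k * g = g * k) ∧ k * k = 1 := by
    intro k hk
    have h1 : k ∈ (scalars ι F).subgroupOf P := by rw [← hker]; exact hk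
    exact ⟨fun g => (Subgroup.mem_center_iff.1 (scalars_le_center h1) g).symm, Subtype.ext (hZ k k.2 h1)⟩
  obtain ⟨D, g, z, H, hs, hgS, hzm⟩ := exists_good π hπ hk hC.commutator_top (S := Su hb) (m := -1) (Su_cube hb)
    (Su_sq hb) (by rw [neg_mul_neg, one_mul]) (fun q => by rw [neg_one_mul, mul_neg_one])
  let α : D →* P := (MonoidHom.fst _ _).comp D.subtype
  let β : D →* GL (Fin 4) K := (MonoidHom.snd _ _).comp D.subtype
  have hα : Function.Surjective α := hs
  have H' : Good (π.comp α) g z := H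
  have hfin := H'.fin
  have hβg : ∀ i, β (g i) = Su hb i := hgS
  have hβz : β z = -1 := hzm
  -- the representations
  let βm : D →* Matrix (Fin 4) (Fin 4) K := (Units.coeHom _).comp β
  have hgm : ∀ i, βm (g i) = S b i := fun i => congrArg Units.val (hβg i)
  have hρ := irreducible_mK K hC.absIrred α hα
  set ρ := rep ((mK K P).comp α) with hρdef
  have hτ : ∀ d, tau ρ d = algebraMap F K (tr (α d : GL ι F)) := fun d => by
    rw [hρdef, tau_rep]
    exact trace_mK K (α d)
  -- the element of order seven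
  have hy : βm (g 0 * g 1 * g 2 * g 3 * g 4) = X b := by
    have h1 := rho_gx βm g hgm
    rw [← h1]
    congr 1
    unfold gx gw
    simp only [List.map_cons, List.map_nil, List.prod_cons, List.prod_nil, mul_one, mul_assoc]
  obtain ⟨x, hx, hx7, hβx⟩ := H'.exists_x β (by
    apply Units.ext
    rw [Units.val_pow_eq_pow_val, Units.val_one]
    show (βm (g 0 * g 1 * g 2 * g 3 * g 4)) ^ 7 = 1
    rw [hy, X_seven hb])
  have hXx : βm x = X b := by
    rw [← hy]
    exact congrArg Units.val hβx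
  have hxi : x⁻¹ = x ^ 6 := by
    rw [inv_eq_iff_mul_eq_one, ← pow_succ', hx7]
  by_cases h7 : (7 : K) = 0
  · -- characteristic seven
    left
    have hp7 : p = 7 := by
      have h1 : ((7 : ℕ) : K) = 0 := by exact_mod_cast h7
      rw [CharP.cast_eq_zero_iff K p] at h1
      exact (Nat.prime_dvd_prime_iff_eq hp.out (by norm_num)).1 h1
    refine SD.of_reg p fun a ha hord => ?_
    obtain ⟨d, hd⟩ := hα ⟨a, ha⟩
    by_cases hct : ((π.comp α) d : Equiv.Perm (Fin 7)).cycleType = {7}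
    · exfalso
      apply hord
      have h1 := orderOf_seven hct
      rw [hp7, ← h1]
      have h2 : orderOf ((π.comp α) d) ∣ orderOf (α d) := orderOf_map_dvd π (α d)
      have h3 : orderOf (⟨a, ha⟩ : P) = orderOf a := Subgroup.orderOf_mk a ha
      rw [hd, h3] at h2
      exact h2
    · obtain ⟨y, hy'⟩ := H'.real hct
      have h1 : (α d)⁻¹ = α y * α d * (α y)⁻¹ := by
        rw [← map_inv, ← map_inv, ← map_mul, ← map_mul, hy']
      have h2 : tr ((α d)⁻¹ : P).1 = tr (α d).1 := by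
        rw [h1]
        exact tr_conj _ _
      rw [hd] at h2
      exact h2
  · by_cases hSD : SD P
    · exact Or.inl hSD
    · right
      have hne : ∃ d, tau ρ d⁻¹ ≠ tau ρ d := by
        unfold SD at hSD
        push Not at hSD
        obtain ⟨a, ha, hne⟩ := hSD
        obtain ⟨d, hd⟩ := hα ⟨a, ha⟩
        refine ⟨d, ?_⟩
        rw [hτ, hτ, map_inv, hd]
        intro h
        exact hne ((algebraMap F K).injective h)
      -- the scalar
      have hz1 : α z ∈ (scalars ι F).subgroupOf P := by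
        rw [← hker]
        exact H'.pi_z
      obtain ⟨c, hc⟩ := (mem_scalars_iff _).1 (Subgroup.mem_subgroupOf.1 hz1)
      have hzz : ∀ d, tr (α (z * d) : GL ι F) = (c : F) * tr (α d : GL ι F) := by
        intro d
        refine tr_smul ?_
        rw [map_mul, Subgroup.coe_mul, Units.val_mul, hc, Matrix.smul_mul, Matrix.one_mul]
      have hcc : (c : F) * c = 1 := by
        have h1 : ((α z * α z : P) : GL ι F) = 1 := by
          rw [← map_mul, H'.zz, map_one, Subgroup.coe_one]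
        have h2 := congrArg (fun u : GL ι F => (u : Matrix ι ι F) (Classical.arbitrary ι) (Classical.arbitrary ι)) h1
        simp only [Subgroup.coe_mul, Units.val_mul, hc, Units.val_one, Matrix.mul_smul,
          Matrix.smul_apply, Matrix.one_apply_eq, smul_eq_mul, mul_one] at h2
        exact h2
      have hc1 : (c : F) = 1 ∨ (c : F) = -1 := mul_self_eq_one_iff.1 hcc
      have h12 : 1 + 2 * b ≠ 0 := one_add_ne hb h7
      by_cases hcm : (c : F) = -1
      · -- the four-dimensional representation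
        have hσ : (rep βm).IsIrreducible := four_irreducible hb βm g hgm h7
        have hτ' : ∀ d, tau (rep βm) d = tU β d := fun d => tau_rep βm d
        have e1 : tau (rep βm) x = 1 + b := by
          rw [tau_rep, hXx, trace_X hb]
        have e2 : tau (rep βm) x⁻¹ = - b := by
          rw [tau_rep, hxi, map_pow, hXx, trace_X6 hb]
        have key := H'.class_eq hx (τ := tau ρ) (τ' := tau (rep βm)) (fun d c => tau_conj _ _ _)
          (fun d c => tau_conj _ _ _) (ε := -1) (fun d => by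
            rw [hτ, hτ, hzz, hcm, map_mul, map_neg, map_one]) (fun d => by
            rw [tau_rep, tau_rep, map_mul]
            show ((β z : GL (Fin 4) K) * βm d : Matrix (Fin 4) (Fin 4) K).trace = _
            rw [hβz, Units.val_neg, Units.val_one, Matrix.neg_mul, Matrix.one_mul, Matrix.trace_neg, neg_one_mul])
        rw [e1, e2] at key
        have hpair := pair hρ hσ (c := 1 + b - -b) (d := tau ρ x - tau ρ x⁻¹) (by
          intro h0
          apply h12
          linear_combination h0) (fun d => key d) hne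
        rw [Module.finrank_fintype_fun_eq_card, Module.finrank_fintype_fun_eq_card, Fintype.card_fin] at hpair
        refine ⟨b, D, inferInstance, α, β, g, z, hb, H', hα, fun i => hgm i, hβz, h7, Or.inl ⟨hpair.1, ?_⟩⟩
        rcases hpair.2 with h | h
        · left
          intro d
          rw [← hτ, ← hτ', h]
        · right
          intro d
          rw [← hτ, ← hτ', h]
      · -- the symmetric square
        have hc1' : (c : F) = 1 := hc1.resolve_right hcm
        have h2 : (2 : K) ≠ 0 := by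
          intro h0
          apply hcm
          rw [hc1']
          apply (algebraMap F K).injective
          rw [map_neg, map_one]
          linear_combination h0
        have hσ : (sym βm).IsIrreducible := sym_irreducible hb βm g hgm h2
        have hτs : ∀ d, 2 * tau (sym βm) d = (βm d).trace ^ 2 + (βm d * βm d).trace := fun d => tau_sym βm h2 d
        have e1 : 2 * tau (sym βm) x = (1 + b) ^ 2 + (1 + b) := by
          rw [hτs, hXx, trace_X hb, ← pow_two, trace_X2 hb]
        have e2 : 2 * tau (sym βm) x⁻¹ = (-b) ^ 2 + -b := by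
          rw [hτs, hxi, map_pow, hXx, trace_X6 hb, ← pow_add]
          have : (X b : Matrix (Fin 4) (Fin 4) K) ^ (6 + 6) = X b ^ 5 := by
            rw [show 6 + 6 = 7 + 5 from rfl, pow_add, X_seven hb, Matrix.one_mul]
          rw [this, trace_X5 hb]
        have key := H'.class_eq hx (τ := tau ρ) (τ' := tau (sym βm)) (fun d c => tau_conj _ _ _)
          (fun d c => tau_conj _ _ _) (ε := 1) (fun d => by
            rw [hτ, hτ, hzz, hc1', one_mul, one_mul]) (fun d => by
            have h3 : βm (z * d) = - βm d := by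
              rw [map_mul]
              show ((β z : GL (Fin 4) K) * βm d : Matrix (Fin 4) (Fin 4) K) = _
              rw [hβz]
              simp
            have h4 : 2 * tau (sym βm) (z * d) = 2 * tau (sym βm) d := by
              rw [hτs, hτs, h3, Matrix.trace_neg, neg_sq, neg_mul_neg]
            rw [one_mul]
            exact mul_left_cancel₀ h2 h4)
        have e3 : tau (sym βm) x - tau (sym βm) x⁻¹ = 1 + 2 * b := by
          apply mul_left_cancel₀ h2
          rw [mul_sub, e1, e2]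
          ring
        rw [e3] at key
        have hpair := pair hρ hσ (c := 1 + 2 * b) (d := tau ρ x - tau ρ x⁻¹) h12 (fun d => key d) hne
        rw [Module.finrank_fintype_fun_eq_card, finrank_sym] at hpair
        have hz0 : α z = 1 := by
          apply Subtype.ext
          apply Units.ext
          rw [hc, hc1', one_smul]
          rfl
        refine ⟨b, D, inferInstance, α, β, g, z, hb, H', hα, fun i => hgm i, hβz, h7, Or.inr ⟨hpair.1, ⟨h2, hz0⟩, ?_⟩⟩
        rcases hpair.2 with h | h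
        · left
          intro d
          rw [← hτ, h]
        · right
          intro d
          rw [← hτ, h]

/-- **`A₇` and `2.A₇`.** A core whose scalars have order at most two. -/
theorem le_two (hC : Core P) (e : Soc P ≃* alternatingGroup (Fin 7))
    (hZ : ∀ g ∈ P, g ∈ scalars ι F → g * g = 1) :
    SD P ∨ ((Fintype.card ι = 4 ∨ (Fintype.card ι = 10 ∧ p ≠ 2)) ∧ p ≠ 7 ∧
      (((p % 7 = 1 ∨ p % 7 = 2 ∨ p % 7 = 4) ∧ Fr P p) ∨ ((p % 7 = 3 ∨ p % 7 = 5 ∨ p % 7 = 6) ∧ Cj P p))) := by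
  rcases main p hC e hZ with h | ⟨b, D, _, α, β, g, z, H⟩
  · exact Or.inl h
  · right
    have hKp : CharP (AlgebraicClosure F) p :=
      charP_of_injective_algebraMap (algebraMap F (AlgebraicClosure F)).injective p
    have hβg : ∀ i, β (g i) = Su H.hb i := fun i => Units.ext (H.gS i)
    have hp7 : p ≠ 7 := by
      intro h0
      apply H.h7
      have h1 := CharP.cast_eq_zero (AlgebraicClosure F) p
      rw [h0] at h1
      exact_mod_cast h1
    have inj := (algebraMap F (AlgebraicClosure F)).injective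
    -- the trace of the symmetric square
    have hsy : (2 : AlgebraicClosure F) ≠ 0 → ∀ d, 2 * tau (sym ((Units.coeHom _).comp β)) d = tU β d ^ 2 + tU β (d * d) := by
      intro h2 d
      rw [tau_sym _ h2]
      unfold tU
      rw [map_mul β, Units.val_mul]
      rfl
    have hp2 : (2 : AlgebraicClosure F) ≠ 0 → p ≠ 2 := by
      intro h2 h0
      apply h2
      have h1 := CharP.cast_eq_zero (AlgebraicClosure F) p
      rw [h0] at h1
      exact_mod_cast h1
    refine ⟨?_, hp7, ?_⟩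
    · rcases H.cases with ⟨h, -⟩ | ⟨h, ⟨h2, -⟩, -⟩
      · exact Or.inl h
      · exact Or.inr ⟨h, hp2 h2⟩
    rcases frob_b H.hb H.h7 p with ⟨hm, hbp⟩ | ⟨hm, hbp⟩
    · left
      refine ⟨hm, fun a ha => ?_⟩
      have hU := tU_frob_fix (b := b) p β (g := g) (hb := H.hb) hβg H.good.gen hbp
      have hS : (2 : AlgebraicClosure F) ≠ 0 → ∀ d, tau (sym ((Units.coeHom _).comp β)) d ^ p =
          tau (sym ((Units.coeHom _).comp β)) d := by
        intro h2 d
        apply mul_left_cancel₀ h2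
        have h3 : (2 : AlgebraicClosure F) ^ p = 2 := by
          have := map_ofNat (frobenius (AlgebraicClosure F) p) 2
          rwa [frobenius_def] at this
        conv_lhs => rw [← h3]
        rw [← mul_pow, hsy h2, add_pow_char, ← pow_mul, mul_comm 2 p, pow_mul, hU, hU]
      obtain ⟨d, hd⟩ := H.surj ⟨a, ha⟩
      have key : ∀ d, tr (α d : GL ι F) ^ p = tr (α d : GL ι F) := by
        intro d
        apply inj
        rw [map_pow]
        rcases H.cases with ⟨-, h | h⟩ | ⟨-, ⟨h2, -⟩, h | h⟩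
        · rw [h, hU]
        · rw [h, hU]
        · rw [h, hS h2]
        · rw [h, hS h2]
      have h1 := key d
      rw [hd] at h1
      exact h1
    · right
      refine ⟨hm, fun a ha => ?_⟩
      have hU := tU_frob_inv (b := b) H.hb p β (g := g) hβg H.good.gen hbp
      have hS : (2 : AlgebraicClosure F) ≠ 0 → ∀ d, tau (sym ((Units.coeHom _).comp β)) d ^ p =
          tau (sym ((Units.coeHom _).comp β)) d⁻¹ := by
        intro h2 d
        apply mul_left_cancel₀ h2
        have h3 : (2 : AlgebraicClosure F) ^ p = 2 := by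
          have := map_ofNat (frobenius (AlgebraicClosure F) p) 2
          rwa [frobenius_def] at this
        conv_lhs => rw [← h3]
        rw [← mul_pow, hsy h2, hsy h2, add_pow_char, ← pow_mul, mul_comm 2 p, pow_mul, hU, hU, _root_.mul_inv_rev]
      obtain ⟨d, hd⟩ := H.surj ⟨a, ha⟩
      have key : ∀ d, tr (α d : GL ι F) ^ p = tr (α d⁻¹ : GL ι F) := by
        intro d
        apply inj
        rw [map_pow]
        rcases H.cases with ⟨-, h | h⟩ | ⟨-, ⟨h2, -⟩, h | h⟩
        · rw [h, h, hU]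
        · rw [h, h, hU]
        · rw [h, h, hS h2]
        · rw [h, h, hS h2]
      have h1 := key d
      rw [map_inv, hd] at h1
      exact h1

include p hp in
/-- **In degree ten the scalars are trivial.** -/
theorem ten_scalars (hC : Core P) (e : Soc P ≃* alternatingGroup (Fin 7))
    (hZ : ∀ g ∈ P, g ∈ scalars ι F → g * g = 1) (h10 : Fintype.card ι = 10) :
    SD P ∨ (scalars ι F).subgroupOf P = ⊥ := by
  rcases main p hC e hZ with h | ⟨b, D, _, α, β, g, z, H⟩
  · exact Or.inl h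
  · exact Or.inr (H.scalars_eq h10)

/-- **`A₇` in degrees prime to three.** -/
theorem coprime_three (hC : Core P) (e : Soc P ≃* alternatingGroup (Fin 7)) (h3 : ¬ 3 ∣ Fintype.card ι) :
    SD P ∨ ((Fintype.card ι = 4 ∨ (Fintype.card ι = 10 ∧ p ≠ 2)) ∧ p ≠ 7 ∧
      (((p % 7 = 1 ∨ p % 7 = 2 ∨ p % 7 = 4) ∧ Fr P p) ∨ ((p % 7 = 3 ∨ p % 7 = 5 ∨ p % 7 = 6) ∧ Cj P p))) := by
  refine le_two p hC e fun g hg hs => ?_
  have h1 := hC.card_scalars_dvd e (S2116.result 7 (Or.inr rfl))
  rw [show Nat.card (Multiplicative (ZMod 6)) = 6 from Nat.card_zmod 6] at h1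
  have hz : (⟨g, hg⟩ : P) ∈ (scalars ι F).subgroupOf P := hs
  have h2 : (⟨g, hg⟩ : P) ^ 6 = 1 := by
    have h4 : (⟨⟨g, hg⟩, hz⟩ : (scalars ι F).subgroupOf P) ^ Nat.card ((scalars ι F).subgroupOf P) = 1 := pow_card_eq_one'
    have h5 : (⟨g, hg⟩ : P) ^ Nat.card ((scalars ι F).subgroupOf P) = 1 := congrArg Subtype.val h4
    obtain ⟨m, hm⟩ := h1
    rw [hm, pow_mul, h5, one_pow]
  have h4 := hC.pow_card hz
  have h5 : orderOf (⟨g, hg⟩ : P) ∣ 2 := by
    have h6 := Nat.dvd_gcd (orderOf_dvd_of_pow_eq_one h2) (orderOf_dvd_of_pow_eq_one h4)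
    refine h6.trans ?_
    have h7 : (Nat.gcd 6 (Fintype.card ι)).Coprime 3 := by
      refine Nat.Coprime.coprime_dvd_left (Nat.gcd_dvd_right _ _) ?_
      rw [Nat.coprime_comm, Nat.Prime.coprime_iff_not_dvd (by norm_num)]
      exact h3
    have h8 : Nat.gcd 6 (Fintype.card ι) ∣ 2 * 3 := Nat.gcd_dvd_left _ _
    exact h7.dvd_of_dvd_mul_right h8
  have h6 := orderOf_dvd_iff_pow_eq_one.1 h5
  rw [pow_two] at h6
  exact congrArg Subtype.val h6

end core

end Cfsg.Agent.H637.A7Main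
end

private theorem dce_bdf4fd384f7e : _root_.True := by
  try have : _root_.True := by simp only [_root_.Cfsg.Agent.H637.A7Mat.wd.eq_2]
  try have : _root_.True := by simp only [_root_.Cfsg.Agent.H637.A7Mat.lc.eq_1]
  try have : _root_.True := by simp only [_root_.Cfsg.Agent.H637.A7Mat.wd.eq_def]
  try have : _root_.True := by simp only [_root_.Cfsg.Agent.H637.A7Ev.W.eq_1]
  try have : _root_.True := by simp only [_root_.Cfsg.Agent.H637.A7Mat.lc.eq_def]
  try have : _root_.True := by simp only [_root_.Cfsg.Agent.H637.A7Mat.wd.eq_1]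
  try have : _root_.True := by simp only [_root_.Cfsg.Agent.H637.A7Mat.phiZ.eq_1]
  try have : _root_.True := by simp only [_root_.Cfsg.Agent.H637.A7Mat.xp.eq_def]
  try have : _root_.True := by simp only [_root_.Cfsg.Agent.H637.A7Mat.lc.eq_2]
  try have : _root_.True := by simp only [_root_.Cfsg.Agent.H637.A7Mat.xp.eq_2]
  try have : _root_.True := by simp only [_root_.Cfsg.Agent.H637.A7Mat.lc._sparseCasesOn_1.else_eq]
  try have : _root_.True := by simp only [_root_.Cfsg.Agent.H637.A7Ev.S.eq_1]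
  try have : _root_.True := by simp only [_root_.Cfsg.Agent.H637.A7Mat.xp.eq_1]
  exact _root_.True.intro
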