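import Mathlib
import Cfsg.Agent.H890.K6Lines_m3
import Cfsg.Agent.H890.Y3Tools
import Cfsg.Agent.H907.FieldAdj
import Cfsg.Agent.StandardComponent.AltAut
import Cfsg.Agent.H637.A7Main
import Cfsg.Agent.Lib.MatLit
import Cfsg.Prelude.Def_GeometricClasses
import Cfsg.Agent.ClassicalGeometry.PSUAutSylow
import Cfsg.Agent.FastGrp
import Cfsg.Agent.Prune
set_option linter.all false

section
prune_inst 0x7f00000000000000000000000000000000000000000000000000000000000000000000000000000000000000000000000000000000000000000000000000000000000000000000000000000000000000003fffffffffffffffffffffffffffbeffbdffffffff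

section
prune_inst 0xb0adf9ebb8bbffdfff7e77a6dccdfdfdb93fffe6fff9cbffe061ff0bdf0b00c9c5a38d0be010fe0f96401410e87b43fb7eeeffea6fdc7ffffd5ff41ffbffcfedf7b508119488340f3c2ffe03f0778e7f000000000000000000000000000000000200000000

-- part: H637/A7Blk
section
prune_inst 0x4000000000000080012000000000000000000000000002000208000000800000000000040200000100000000001000000000000000000000000100000000000000000000000000000080000000000000000000000000000000000004000000000
set_option linter.all false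
open scoped Cfsg.Agent.FastGrp

-- part: H915/A7Old/Block
section
/-!
# Dimension six: two operators of order three with `ab = ω ba` (helper890)

`F⁶ = F³ ⊗ F²`, `a = diag(1, ω, ω²) ⊗ 1`, `b = cyclic ⊗ 1`.
-/

set_option autoImplicit false
set_option linter.unusedSectionVars false

namespace Cfsg.Agent.H915.A7Old

open Matrix

variable {F : Type*} [Field F]

/-- block matrices -/
def rho : Matrix (Fin 3) (Fin 3) (Matrix (Fin 2) (Fin 2) F) ≃+* Matrix (Fin 6) (Fin 6) F :=
  (Matrix.compRingEquiv (Fin 3) (Fin 2) F).trans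
    (Matrix.reindexRingEquiv F (finProdFinEquiv : Fin 3 × Fin 2 ≃ Fin 6))

theorem rho_apply (M : Matrix (Fin 3) (Fin 3) (Matrix (Fin 2) (Fin 2) F)) (i j : Fin 6) :
    rho M i j = M (finProdFinEquiv.symm i : Fin 3 × Fin 2).1 (finProdFinEquiv.symm j : Fin 3 × Fin 2).1
      (finProdFinEquiv.symm i : Fin 3 × Fin 2).2 (finProdFinEquiv.symm j : Fin 3 × Fin 2).2 := rfl

section gen

variable {R : Type*} [Ring R] [Algebra F R]

/-- `diag(1, ω, ω²)` -/
def a3 (ω : F) : Matrix (Fin 3) (Fin 3) R :=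
  Matrix.of fun i j => if i = j then (ω ^ (j : ℕ)) • 1 else 0

/-- the cyclic permutation -/
def b3 : Matrix (Fin 3) (Fin 3) R := Matrix.of fun i j => if i = j + 1 then 1 else 0

theorem a3_apply (ω : F) (i j : Fin 3) : (a3 ω : Matrix (Fin 3) (Fin 3) R) i j =
    if i = j then (ω ^ (j : ℕ)) • 1 else 0 := rfl

theorem b3_apply (i j : Fin 3) : (b3 : Matrix (Fin 3) (Fin 3) R) i j = if i = j + 1 then 1 else 0 := rfl

theorem mul3 (A B : Matrix (Fin 3) (Fin 3) R) (i j : Fin 3) :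
    (A * B) i j = A i 0 * B 0 j + A i 1 * B 1 j + A i 2 * B 2 j := by
  rw [Matrix.mul_apply, Fin.sum_univ_three]

theorem mul_a3 (A : Matrix (Fin 3) (Fin 3) R) (ω : F) (i j : Fin 3) :
    (A * a3 ω : Matrix (Fin 3) (Fin 3) R) i j = ω ^ (j : ℕ) • A i j := by
  rw [Matrix.mul_apply, Finset.sum_eq_single j]
  · rw [a3_apply, if_pos rfl, mul_smul_comm, mul_one]
  · intro l _ h
    rw [a3_apply, if_neg h, mul_zero]
  · intro h; exact absurd (Finset.mem_univ _) h

theorem a3_mul (A : Matrix (Fin 3) (Fin 3) R) (ω : F) (i j : Fin 3) :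
    (a3 ω * A : Matrix (Fin 3) (Fin 3) R) i j = ω ^ (i : ℕ) • A i j := by
  rw [Matrix.mul_apply, Finset.sum_eq_single i]
  · rw [a3_apply, if_pos rfl, smul_mul_assoc, one_mul]
  · intro l _ h
    rw [a3_apply, if_neg (Ne.symm h), zero_mul]
  · intro h; exact absurd (Finset.mem_univ _) h

theorem mul_b3 (A : Matrix (Fin 3) (Fin 3) R) (i j : Fin 3) :
    (A * b3 : Matrix (Fin 3) (Fin 3) R) i j = A i (j + 1) := by
  rw [Matrix.mul_apply, Finset.sum_eq_single (j + 1)]
  · rw [b3_apply, if_pos rfl, mul_one]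
  · intro l _ h
    rw [b3_apply, if_neg h, mul_zero]
  · intro h; exact absurd (Finset.mem_univ _) h

theorem b3_mul (A : Matrix (Fin 3) (Fin 3) R) (i j : Fin 3) :
    (b3 * A : Matrix (Fin 3) (Fin 3) R) (i + 1) j = A i j := by
  rw [Matrix.mul_apply, Finset.sum_eq_single i]
  · rw [b3_apply, if_pos rfl, one_mul]
  · intro l _ h
    rw [b3_apply, if_neg (fun h' => h (add_right_cancel h').symm), zero_mul]
  · intro h; exact absurd (Finset.mem_univ _) h

end gen

section basis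

variable {A B : Matrix (Fin 6) (Fin 6) F} {ω : F}

variable (hA : A ^ 3 = 1) (hB : B ^ 3 = 1) (hAB : A * B = ω • (B * A)) (hω : ω ^ 2 + ω + 1 = 0) (h3 : (3 : F) ≠ 0)

end basis

end Cfsg.Agent.H915.A7Old
end

-- part: H915/A7Old/Alg
section
/-!
# `3.A₇` : the relations in `M₃(R)` (helper890)
-/

set_option autoImplicit false
set_option linter.unusedSectionVars false

namespace Cfsg.Agent.H915.A7Old

open Matrix

section gen

variable {F : Type*} [Field F] {R : Type*} [Ring R] [Algebra F R] {ω : F}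

/-- `diag(x, y, z)` -/
def dg (x y z : R) : Matrix (Fin 3) (Fin 3) R :=
  Matrix.of fun i j => if i = j then (if i = 0 then x else if i = 1 then y else z) else 0

/-- `(ω^(-ij)) x` -/
def gm (ω : F) (x : R) : Matrix (Fin 3) (Fin 3) R := Matrix.of fun i j => ω ^ (2 * (i : ℕ) * (j : ℕ)) • x

theorem omega_cube (hω : ω ^ 2 + ω + 1 = 0) : ω ^ 3 = 1 := by linear_combination (ω - 1) * hω

theorem omega_ne (hω : ω ^ 2 + ω + 1 = 0) (h3 : (3 : F) ≠ 0) : ω ≠ 1 := by
  rintro rfl
  apply h3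
  linear_combination hω

theorem omega_ne_zero (hω : ω ^ 2 + ω + 1 = 0) : ω ≠ 0 := by
  rintro rfl
  norm_num at hω

theorem fin3 (i : Fin 3) : i = 0 ∨ i = 1 ∨ i = 2 := by
  have := i.2
  rcases (by omega : (i : ℕ) = 0 ∨ (i : ℕ) = 1 ∨ (i : ℕ) = 2) with h | h | h
  · exact Or.inl (Fin.ext h)
  · exact Or.inr (Or.inl (Fin.ext h))
  · exact Or.inr (Or.inr (Fin.ext h))

theorem ext3 {A B : Matrix (Fin 3) (Fin 3) R} (h00 : A 0 0 = B 0 0) (h01 : A 0 1 = B 0 1) (h02 : A 0 2 = B 0 2)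
    (h10 : A 1 0 = B 1 0) (h11 : A 1 1 = B 1 1) (h12 : A 1 2 = B 1 2) (h20 : A 2 0 = B 2 0) (h21 : A 2 1 = B 2 1)
    (h22 : A 2 2 = B 2 2) : A = B := by
  ext i j
  rcases fin3 i with rfl | rfl | rfl <;> rcases fin3 j with rfl | rfl | rfl <;> assumption

theorem diag_of_comm (hω : ω ^ 2 + ω + 1 = 0) (h3 : (3 : F) ≠ 0) {k : Matrix (Fin 3) (Fin 3) R}
    (h : k * a3 ω = a3 ω * k) : k = dg (k 0 0) (k 1 1) (k 2 2) := by
  have h1 : ∀ i j : Fin 3, i ≠ j → k i j = 0 := by
    intro i j hij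
    have h2 := congrFun (congrFun h i) j
    rw [mul_a3, a3_mul, ← sub_eq_zero, ← sub_smul] at h2
    refine (smul_eq_zero.1 h2).resolve_left fun h4 => ?_
    have hne := omega_ne hω h3
    have hne0 := omega_ne_zero hω
    have hi : (i : ℕ) = 0 ∨ (i : ℕ) = 1 ∨ (i : ℕ) = 2 := by omega
    have hj : (j : ℕ) = 0 ∨ (j : ℕ) = 1 ∨ (j : ℕ) = 2 := by omega
    have hij' : (i : ℕ) ≠ j := fun h => hij (Fin.ext h)
    rcases hi with hi | hi | hi <;> rcases hj with hj | hj | hj <;> rw [hi, hj] at h4 hij' <;>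
      [(exact hij' rfl); ((apply hne; linear_combination h4)); ((apply hne; linear_combination (ω - 1) * hω - ω * h4)); ((apply hne; linear_combination -h4));
       (exact hij' rfl);
       (
        (apply hne; have : ω * (ω - 1) = 0 := by linear_combination h4
         exact sub_eq_zero.1 ((mul_eq_zero.1 this).resolve_left hne0)));
       ((apply hne; linear_combination (ω - 1) * hω + ω * h4));
       (
        (apply hne; have : ω * (ω - 1) = 0 := by linear_combination -h4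
         exact sub_eq_zero.1 ((mul_eq_zero.1 this).resolve_left hne0)));
       (exact hij' rfl)]
  apply ext3 <;> first | rfl | (rw [h1 _ _ (by decide)]; rfl)

theorem gm_of (hω : ω ^ 2 + ω + 1 = 0) {g : Matrix (Fin 3) (Fin 3) R}
    (h : g * a3 ω = b3 * g) (h' : a3 ω * (g * b3) = g) : g = gm ω (g 0 0) := by
  have h1 : ∀ i j : Fin 3, g i j = ω ^ (j : ℕ) • g (i + 1) j := by
    intro i j
    have h2 := congrFun (congrFun h (i + 1)) j
    rw [mul_a3, b3_mul] at h2
    exact h2.symm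
  have h2 : ∀ i j : Fin 3, g i j = ω ^ (i : ℕ) • g i (j + 1) := by
    intro i j
    have h2 := congrFun (congrFun h' i) j
    rw [a3_mul, mul_b3] at h2
    exact h2.symm
  have e02 : g 0 2 = g 0 0 := by rw [h2 0 2]; simp
  have e01 : g 0 1 = g 0 0 := by rw [h2 0 1, show (1 : Fin 3) + 1 = 2 from rfl, e02]; simp
  have hω3 := omega_cube hω
  have e2 : ∀ j, g 2 j = ω ^ (j : ℕ) • g 0 j := fun j => h1 2 j
  have e1 : ∀ j, g 1 j = ω ^ (2 * (j : ℕ)) • g 0 j := by
    intro j
    rw [h1 1 j, show (1 : Fin 3) + 1 = 2 from rfl, e2, smul_smul, two_mul, pow_add]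
  apply ext3
  · simp [gm]
  · rw [e01]; simp [gm]
  · rw [e02]; simp [gm]
  · rw [e1]; simp [gm]
  · rw [e1, e01]; simp [gm]
  · rw [e1, e02]; simp [gm]
  · rw [e2]; simp [gm]
  · rw [e2, e01]
    show ω ^ 1 • g 0 0 = ω ^ (2 * 2 * 1) • g 0 0
    rw [show ω ^ (2 * 2 * 1) = ω ^ 3 * ω by ring, hω3]
    simp
  · rw [e2, e02]
    show ω ^ 2 • g 0 0 = ω ^ (2 * 2 * 2) • g 0 0
    rw [show ω ^ (2 * 2 * 2) = (ω ^ 3) ^ 2 * ω ^ 2 by ring, hω3]
    simp

/-- entries of `gm` with all exponents reduced -/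
theorem gm_entries (hω : ω ^ 2 + ω + 1 = 0) (x : R) :
    gm ω x 0 0 = x ∧ gm ω x 0 1 = x ∧ gm ω x 0 2 = x ∧ gm ω x 1 0 = x ∧ gm ω x 1 1 = ω ^ 2 • x ∧ gm ω x 1 2 = ω • x ∧
      gm ω x 2 0 = x ∧ gm ω x 2 1 = ω • x ∧ gm ω x 2 2 = ω ^ 2 • x := by
  have hω3 := omega_cube hω
  refine ⟨by simp [gm], by simp [gm], by simp [gm], by simp [gm], by simp [gm], ?_, by simp [gm], ?_, ?_⟩
  · show ω ^ (2 * 1 * 2) • x = _
    rw [show ω ^ (2 * 1 * 2) = ω ^ 3 * ω by ring, hω3, one_mul]
  · show ω ^ (2 * 2 * 1) • x = _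
    rw [show ω ^ (2 * 2 * 1) = ω ^ 3 * ω by ring, hω3, one_mul]
  · show ω ^ (2 * 2 * 2) • x = _
    rw [show ω ^ (2 * 2 * 2) = (ω ^ 3) ^ 2 * ω ^ 2 by ring, hω3, one_pow, one_mul]

/-- `x ⊗ (i ↦ -i)` -/
def rm (x : R) : Matrix (Fin 3) (Fin 3) R := Matrix.of fun i j => if i + j = 0 then x else 0

theorem gm_mul_gm (hω : ω ^ 2 + ω + 1 = 0) (x y : R) : gm ω x * gm ω y = rm ((3 : F) • (x * y)) := by
  obtain ⟨a00, a01, a02, a10, a11, a12, a20, a21, a22⟩ := gm_entries hω x
  obtain ⟨b00, b01, b02, b10, b11, b12, b20, b21, b22⟩ := gm_entries hω y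
  have h1 : (ω ^ 2 * ω ^ 2 + ω * ω + 1 : F) = 0 := by linear_combination (ω ^ 2 - ω + 1) * hω
  have h2 : (1 + ω ^ 2 * ω + ω * ω ^ 2 : F) = 3 := by linear_combination (2 * (ω - 1)) * hω
  apply ext3 <;> rw [mul3] <;>
    simp only [a00, a01, a02, a10, a11, a12, a20, a21, a22, b00, b01, b02, b10, b11, b12, b20, b21, b22,
      smul_mul_assoc, mul_smul_comm, smul_smul] <;>
    simp only [rm, Matrix.of_apply]
  · rw [if_pos (by decide)]; module
  · rw [if_neg (by decide)]
    calc _ = (ω ^ 2 + ω + 1) • (x * y) := by module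
      _ = 0 := by rw [hω, zero_smul]
  · rw [if_neg (by decide)]
    calc _ = (ω ^ 2 + ω + 1) • (x * y) := by module
      _ = 0 := by rw [hω, zero_smul]
  · rw [if_neg (by decide)]
    calc _ = (ω ^ 2 + ω + 1) • (x * y) := by module
      _ = 0 := by rw [hω, zero_smul]
  · rw [if_neg (by decide)]
    calc _ = (ω ^ 2 * ω ^ 2 + ω * ω + 1) • (x * y) := by module
      _ = 0 := by rw [h1, zero_smul]
  · rw [if_pos (by decide), ← h2]; module
  · rw [if_neg (by decide)]
    calc _ = (ω ^ 2 + ω + 1) • (x * y) := by module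
      _ = 0 := by rw [hω, zero_smul]
  · rw [if_pos (by decide), ← h2]; module
  · rw [if_neg (by decide)]
    calc _ = (ω ^ 2 * ω ^ 2 + ω * ω + 1) • (x * y) := by module
      _ = 0 := by rw [h1, zero_smul]

theorem rm_entries (x : R) : rm x 0 0 = x ∧ rm x 0 1 = 0 ∧ rm x 0 2 = 0 ∧ rm x 1 0 = 0 ∧ rm x 1 1 = 0 ∧ rm x 1 2 = x ∧
    rm x 2 0 = 0 ∧ rm x 2 1 = x ∧ rm x 2 2 = 0 := by
  refine ⟨?_, ?_, ?_, ?_, ?_, ?_, ?_, ?_, ?_⟩ <;> simp only [rm, Matrix.of_apply] <;>
    first | exact if_pos (by decide) | exact if_neg (by decide)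

theorem dg_entries (x y z : R) : dg x y z 0 0 = x ∧ dg x y z 0 1 = 0 ∧ dg x y z 0 2 = 0 ∧ dg x y z 1 0 = 0 ∧
    dg x y z 1 1 = y ∧ dg x y z 1 2 = 0 ∧ dg x y z 2 0 = 0 ∧ dg x y z 2 1 = 0 ∧ dg x y z 2 2 = z := by
  refine ⟨rfl, rfl, rfl, rfl, rfl, rfl, rfl, rfl, rfl⟩

/-- First consequences. -/
theorem stage_one (hω : ω ^ 2 + ω + 1 = 0) (h3 : (3 : F) ≠ 0) {k g : Matrix (Fin 3) (Fin 3) R}
    (ka : k * a3 ω = a3 ω * k) (ga : g * a3 ω = b3 * g) (gb : a3 ω * (g * b3) = g) (k2 : k * k = 1)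
    (g4 : (g * g) * (g * g) = 1) (sk : (g * g) * k = k * (g * g)) (v4 : k * b3 * k * b3 = b3 * (b3 * k)) :
    ∃ x d₀ d₁ d₂ t : R, k = dg d₀ d₁ d₂ ∧ g = gm ω x ∧ t = (3 : F) • (x * x) ∧ g * g = rm t ∧ t * t = 1 ∧
      t * d₀ = d₀ * t ∧ t * d₂ = d₁ * t ∧ t * d₁ = d₂ * t ∧ d₀ * d₀ = 1 ∧ d₁ * d₁ = 1 ∧ d₂ * d₂ = 1 ∧
      d₂ * d₁ = d₀ ∧ d₀ * d₂ = d₁ ∧ d₁ * d₀ = d₂ := by
  obtain ⟨x, hx⟩ : ∃ x, x = g 0 0 := ⟨_, rfl⟩
  obtain ⟨d₀, hd₀⟩ : ∃ x, x = k 0 0 := ⟨_, rfl⟩
  obtain ⟨d₁, hd₁⟩ : ∃ x, x = k 1 1 := ⟨_, rfl⟩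
  obtain ⟨d₂, hd₂⟩ : ∃ x, x = k 2 2 := ⟨_, rfl⟩
  have hk := diag_of_comm hω h3 ka
  have hg := gm_of hω ga gb
  rw [← hd₀, ← hd₁, ← hd₂] at hk
  rw [← hx] at hg
  have hgg : g * g = rm ((3 : F) • (x * x)) := by
    rw [hg, gm_mul_gm hω]
  obtain ⟨t, ht⟩ : ∃ t, t = (3 : F) • (x * x) := ⟨_, rfl⟩
  rw [← ht] at hgg
  obtain ⟨r00, r01, r02, r10, r11, r12, r20, r21, r22⟩ := rm_entries t
  obtain ⟨k00, k01, k02, k10, k11, k12, k20, k21, k22⟩ := dg_entries d₀ d₁ d₂
  rw [hgg, hk] at sk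
  rw [hgg] at g4
  rw [hk] at k2 v4
  have s1 := congrFun (congrFun g4 0) 0
  rw [mul3, r00, r01, r02, zero_mul, zero_mul, add_zero, add_zero, Matrix.one_apply_eq] at s1
  have s2 := congrFun (congrFun sk 0) 0
  rw [mul3, mul3, r00, r01, r02, k00, k01, k02, r10, r20] at s2
  simp only [zero_mul, mul_zero, add_zero] at s2
  have s3 := congrFun (congrFun sk 1) 2
  rw [mul3, mul3, r10, r11, r12, k02, k12, k22, k10, k11, r02, r22] at s3
  simp only [mul_zero, add_zero, zero_add] at s3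
  have s4 := congrFun (congrFun sk 2) 1
  rw [mul3, mul3, r20, r21, r22, k01, k11, k21, k20, k22, r01, r11] at s4
  simp only [mul_zero, add_zero, zero_add] at s4
  have q0 := congrFun (congrFun k2 0) 0
  rw [mul3, k00, k01, k02, Matrix.one_apply_eq] at q0
  simp only [zero_mul, add_zero] at q0
  have q1 := congrFun (congrFun k2 1) 1
  rw [mul3, k10, k11, k12, Matrix.one_apply_eq] at q1
  simp only [zero_mul, add_zero, zero_add] at q1
  have q2 := congrFun (congrFun k2 2) 2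
  rw [mul3, k20, k21, k22, Matrix.one_apply_eq] at q2
  simp only [zero_mul, add_zero, zero_add] at q2
  have key : ∀ j : Fin 3, dg d₀ d₁ d₂ (j + 2) (j + 2) * dg d₀ d₁ d₂ (j + 1) (j + 1) = dg d₀ d₁ d₂ j j := by
    intro j
    have h1 := congrFun (congrFun v4 (j + 1 + 1)) j
    rw [b3_mul, b3_mul, mul_b3] at h1
    rw [← h1]
    have h2 : ∀ i l : Fin 3, (dg d₀ d₁ d₂ * b3 * dg d₀ d₁ d₂ : Matrix (Fin 3) (Fin 3) R) i l =
        dg d₀ d₁ d₂ i i * (if i = l + 1 then 1 else 0) * dg d₀ d₁ d₂ l l := by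
      intro i l
      rw [Matrix.mul_apply, Finset.sum_eq_single l]
      · rw [Matrix.mul_apply, Finset.sum_eq_single i]
        · rfl
        · intro b _ h
          rw [show dg d₀ d₁ d₂ i b = 0 from if_neg (Ne.symm h), zero_mul]
        · intro h; exact absurd (Finset.mem_univ _) h
      · intro b _ h
        rw [show dg d₀ d₁ d₂ b l = 0 from if_neg h, mul_zero]
      · intro h; exact absurd (Finset.mem_univ _) h
    rw [h2, if_pos rfl, mul_one]
    rcases fin3 j with rfl | rfl | rfl <;> rfl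
  refine ⟨x, d₀, d₁, d₂, t, hk, hg, ht, hgg, s1, s2, s3, s4, q0, q1, q2, key 0, ?_, ?_⟩
  · exact key 1
  · exact key 2

end gen

end Cfsg.Agent.H915.A7Old
end

-- part: H915/A7Old/Two
section
/-!
# `3.A₇` : the multiplicity space (helper890)
-/

set_option autoImplicit false
set_option linter.unusedSectionVars false

namespace Cfsg.Agent.H915.A7Old

open Matrix

section two

variable {F : Type*} [Field F]

local notation "R2" => Matrix (Fin 2) (Fin 2) F

/-- Cayley-Hamilton -/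
theorem ch2 (x : Matrix (Fin 2) (Fin 2) F) : x * x = x.trace • x - x.det • 1 := by
  rw [Matrix.trace_fin_two, Matrix.det_fin_two]
  ext i j
  (revert i j; simp only [Matrix.mul_apply, Fin.sum_univ_two, _root_.Fin.forall_fin_succ, Fin.isValue, _root_.Matrix.sub_apply, _root_.Matrix.smul_apply, _root_.smul_eq_mul, _root_.Fin.succ_zero_eq_one, _root_.IsEmpty.forall_iff, _root_.and_true, _root_.Matrix.one_apply_eq, _root_.mul_one, Nat.reduceAdd, _root_.ne_eq, _root_.zero_ne_one, _root_.not_false_eq_true, _root_.Matrix.one_apply_ne, _root_.MulZeroClass.mul_zero, _root_.sub_zero, _root_.Fin.succ_ne_zero]) <;> (repeat' with_reducible apply And.intro) <;> ring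

/-- polarised Cayley-Hamilton -/
theorem ch2' (x y : Matrix (Fin 2) (Fin 2) F) :
    x * y + y * x = x.trace • y + y.trace • x + ((x * y).trace - x.trace * y.trace) • 1 := by
  rw [Matrix.trace_fin_two, Matrix.trace_fin_two, Matrix.trace_fin_two]
  ext i j
  (revert i j; simp only [Matrix.mul_apply, Fin.sum_univ_two, _root_.Fin.forall_fin_succ, _root_.Matrix.add_apply, Fin.isValue, _root_.Matrix.smul_apply, _root_.smul_eq_mul, _root_.Fin.succ_zero_eq_one, _root_.IsEmpty.forall_iff, _root_.and_true, _root_.Matrix.one_apply_eq, _root_.mul_one, Nat.reduceAdd, _root_.ne_eq, _root_.zero_ne_one, _root_.not_false_eq_true, _root_.Matrix.one_apply_ne, _root_.MulZeroClass.mul_zero, _root_.add_zero, _root_.Fin.succ_ne_zero]) <;> (repeat' with_reducible apply And.intro) <;> ring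

/-- a scalar matrix -/
def IsSc (x : Matrix (Fin 2) (Fin 2) F) : Prop := ∃ c : F, x = c • 1

theorem coeff_zero {x : Matrix (Fin 2) (Fin 2) F} (hx : ¬ IsSc x) {a b : F} (h : a • x + b • 1 = 0) :
    a = 0 ∧ b = 0 := by
  have ha : a = 0 := by
    by_contra ha
    apply hx
    refine ⟨-(a⁻¹ * b), ?_⟩
    have h1 : a⁻¹ • (a • x + b • (1 : Matrix (Fin 2) (Fin 2) F)) = 0 := by rw [h, smul_zero]
    rw [smul_add, smul_smul, smul_smul, inv_mul_cancel₀ ha, one_smul] at h1
    rw [neg_smul]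
    exact eq_neg_of_add_eq_zero_left h1
  refine ⟨ha, ?_⟩
  rw [ha, zero_smul, zero_add] at h
  have := congrFun (congrFun h 0) 0
  simpa using this

theorem IsSc.comm {x : Matrix (Fin 2) (Fin 2) F} (hx : IsSc x) (y : Matrix (Fin 2) (Fin 2) F) : x * y = y * x := by
  obtain ⟨c, rfl⟩ := hx
  rw [smul_mul_assoc, one_mul, mul_smul_comm, mul_one]

end two

end Cfsg.Agent.H915.A7Old
end

-- part: H915/A7Old/Rel
section
/-!
# `3.A₇` : exact relations between lifts (helper890)
-/

set_option autoImplicit false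
set_option linter.unusedSectionVars false

namespace Cfsg.Agent.H915.A7Old

open Cfsg Cfsg.Geo Matrix Cfsg.Agent.H913.N6
open Equiv Equiv.Perm Cfsg.Agent.H890.Y3

section cover

variable {ι : Type} [Fintype ι] [DecidableEq ι] {F : Type*} [Field F] {P : Subgroup (GL ι F)}
  {T : Type*} [Group T] {C : Cov P T}

/-- all scalars in `P` have order dividing three -/
def Z3 (P : Subgroup (GL ι F)) : Prop := ∀ c : Fˣ, sc c ∈ P → c ^ 3 = 1

theorem L_congr {x : GL ι F} {σ τ : T} (h : C.L x σ) (e : σ = τ) : C.L x τ := by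
  rw [← e]; exact h

theorem exists_two (hZ : Z3 P) {σ : T} (hσ : σ ^ 2 = 1) : ∃ x, C.L x σ ∧ x ^ 2 = 1 := by
  obtain ⟨y, hy⟩ := C.exists_lift σ
  have h1 := hy.pow 2
  rw [hσ, Cov.L.one_iff] at h1
  obtain ⟨hm, c, hc⟩ := h1
  have hc3 := hZ c (hc ▸ hm)
  refine ⟨sc c * y, hy.sc_mul (hc ▸ hm), ?_⟩
  rw [(show Commute (sc c) y from sc_comm c y).mul_pow, hc, ← sc_pow, ← sc_mul, ← pow_succ, hc3, sc_one]

theorem exists_four (hZ : Z3 P) {σ : T} (hσ : σ ^ 4 = 1) : ∃ x, C.L x σ ∧ x ^ 4 = 1 := by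
  obtain ⟨y, hy⟩ := C.exists_lift σ
  have h1 := hy.pow 4
  rw [hσ, Cov.L.one_iff] at h1
  obtain ⟨hm, c, hc⟩ := h1
  have hc3 := hZ c (hc ▸ hm)
  have hm' : sc c ∈ P := hc ▸ hm
  refine ⟨sc (c ^ 2) * y, hy.sc_mul (by rw [sc_pow]; exact pow_mem hm' 2), ?_⟩
  rw [(show Commute (sc (c ^ 2)) y from sc_comm _ y).mul_pow, hc, ← sc_pow, ← sc_mul]
  have : (c ^ 2) ^ 4 * c = 1 := by
    have : (c ^ 2) ^ 4 * c = (c ^ 3) ^ 3 := by
      rw [← pow_mul, ← pow_succ, ← pow_mul]
    rw [this, hc3, one_pow]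
  rw [this, sc_one]

variable [Nonempty ι]

theorem eq_one_of {c : Fˣ} (h3 : c ^ 3 = 1) (h2 : c ^ 2 = 1) : c = 1 := by
  have : c ^ 3 = c ^ 2 * c := pow_succ c 2
  rw [this, h2, one_mul] at h3
  exact h3

/-- lifts of order two are unique -/
theorem two_unique (hZ : Z3 P) {x y : GL ι F} {σ : T} (hx : C.L x σ) (hy : C.L y σ) (hx2 : x ^ 2 = 1) (hy2 : y ^ 2 = 1) :
    x = y := by
  obtain ⟨c, hm, rfl⟩ := hx.exists_sc hy
  rw [(show Commute (sc c) y from sc_comm c y).mul_pow, hy2, mul_one, ← sc_pow, ← sc_one] at hx2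
  have := eq_one_of (hZ c hm) (sc_inj hx2)
  rw [this, sc_one, one_mul]

theorem two_conj (hZ : Z3 P) {x y g : GL ι F} {σ τ γ : T} (hx : C.L x σ) (hy : C.L y τ) (hx2 : x ^ 2 = 1)
    (hy2 : y ^ 2 = 1) (hg : C.L g γ) (h : γ * σ * γ⁻¹ = τ) : g * x * g⁻¹ = y := by
  have h1 := hx.conj hg
  rw [h] at h1
  exact two_unique hZ h1 hy (by rw [conj_pow, hx2, mul_one, mul_inv_cancel]) hy2

theorem two_comm (hZ : Z3 P) {x g : GL ι F} {σ γ : T} (hx : C.L x σ) (hx2 : x ^ 2 = 1)
    (hg : C.L g γ) (h : γ * σ = σ * γ) : g * x = x * g := by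
  have h1 := two_conj hZ hx hx hx2 hx2 hg (by rw [h, mul_inv_cancel_right])
  exact mul_inv_eq_iff_eq_mul.1 h1

end cover

def kk : alternatingGroup (Fin 7) := ⟨c[3, 4] * c[5, 6], mem_alternatingGroup.2 (by decide)⟩

theorem kk_sq : kk ^ 2 = 1 := by decide +kernel
theorem kk_ne : kk ≠ 1 := by decide +kernel
theorem g4_four : g4 ^ 4 = 1 := by decide +kernel
theorem kk_r3 : r3 * kk = kk * r3 := by decide +kernel
theorem kk_g4 : g4 ^ 2 * kk = kk * g4 ^ 2 := by decide +kernel
theorem kk_v4 : kk * (r3' * kk * r3'⁻¹) = r3' ^ 2 * kk * (r3' ^ 2)⁻¹ := by decide +kernel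
theorem kk_v4' : (r3' * kk * r3'⁻¹) * kk = kk * (r3' * kk * r3'⁻¹) := by decide +kernel
theorem kk_r6 : (kk * (g4 * kk * g4⁻¹)) ^ 3 = g4 ^ 2 := by decide +kernel
theorem g4_sq_r3 : g4 ^ 2 * r3 * (g4 ^ 2)⁻¹ = r3⁻¹ := by decide +kernel

/-- The exact relations. -/
structure Rel {ι : Type} [Fintype ι] [DecidableEq ι] {F : Type*} [Field F] (ω : Fˣ) (a b k g : GL ι F) : Prop where
  a3 : a ^ 3 = 1
  b3 : b ^ 3 = 1
  ab : a * b = sc ω * (b * a)
  ga : g * a = b * g
  gb : g * b = a⁻¹ * g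
  g4 : g ^ 4 = 1
  k2 : k ^ 2 = 1
  k1 : k ≠ 1
  ka : k * a = a * k
  sk : g ^ 2 * k = k * g ^ 2
  v4 : k * (b * k * b⁻¹) = b ^ 2 * k * (b ^ 2)⁻¹
  r6 : (k * (g * k * g⁻¹)) ^ 3 = g ^ 2

section main

variable {ι : Type} [Fintype ι] [DecidableEq ι] [Nonempty ι] {F : Type*} [Field F] {P : Subgroup (GL ι F)}
  {C : Cov P (alternatingGroup (Fin 7))}

theorem exists_rel (hZ : Z3 P) : ∃ (ω : Fˣ) (a b k g : GL ι F), Rel ω a b k g ∧ C.L a r3 ∧ C.L b r3' ∧ C.L k kk ∧
    C.L g g4 ∧ sc ω ∈ P := by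
  obtain ⟨g, hg, hg4⟩ := exists_four (C := C) hZ g4_four
  obtain ⟨k, hk, hk2⟩ := exists_two (C := C) hZ kk_sq
  have hs : C.L (g ^ 2) (g4 ^ 2) := hg.pow 2
  have hs2 : (g ^ 2) ^ 2 = 1 := by rw [← pow_mul]; exact hg4
  obtain ⟨a₀, ha₀⟩ := C.exists_lift r3
  have h1 := ha₀.conj hs
  rw [g4_sq_r3] at h1
  obtain ⟨c, hcm, hc⟩ := h1.exists_sc ha₀.inv
  have hc3 := hZ c hcm
  obtain ⟨a, rfl⟩ : ∃ a, a = sc c * a₀ := ⟨_, rfl⟩
  have ha : C.L (sc c * a₀) r3 := ha₀.sc_mul hcm
  have hsa : g ^ 2 * (sc c * a₀) * (g ^ 2)⁻¹ = (sc c * a₀)⁻¹ := by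
    have e1 : g ^ 2 * (sc c * a₀) * (g ^ 2)⁻¹ = sc c * (g ^ 2 * a₀ * (g ^ 2)⁻¹) := by
      rw [← mul_assoc (g ^ 2), ← sc_comm c (g ^ 2)]; group
    rw [e1, hc, _root_.mul_inv_rev, ← sc_inv, ← sc_comm, ← mul_assoc, ← sc_mul]
    congr 2
    rw [eq_inv_iff_mul_eq_one, ← sq, ← pow_succ]
    exact hc3
  generalize sc c * a₀ = a at ha hsa
  clear ha₀ h1 hc
  have ha3 : a ^ 3 = 1 := by
    have h2 := ha.pow 3
    rw [r3_pow, Cov.L.one_iff] at h2
    obtain ⟨hdm, d, hd⟩ := h2
    have h3 : g ^ 2 * a ^ 3 * (g ^ 2)⁻¹ = (a ^ 3)⁻¹ := by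
      rw [← conj_pow, hsa, inv_pow]
    rw [hd, ← sc_comm, mul_inv_cancel_right, ← sc_inv] at h3
    have h4 : d * d = 1 := by
      have h5 := sc_inj h3
      nth_rewrite 1 [h5]
      exact inv_mul_cancel d
    have h5 := eq_one_of (hZ d (hd ▸ hdm)) (by rw [sq]; exact h4)
    rw [hd, h5, sc_one]
  have hb : C.L (g * a * g⁻¹) r3' := L_congr (ha.conj hg) g4_r3
  have hb3 : (g * a * g⁻¹) ^ 3 = 1 := by rw [conj_pow, ha3, mul_one, mul_inv_cancel]
  have hgb : g * (g * a * g⁻¹) = a⁻¹ * g := by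
    rw [← hsa, sq]; group
  obtain ⟨ω, hωm, hω⟩ : ∃ ω, sc ω ∈ P ∧ a * (g * a * g⁻¹) = sc ω * ((g * a * g⁻¹) * a) :=
    (L_congr (ha.mul hb) r3_comm).exists_sc (hb.mul ha)
  refine ⟨ω, a, g * a * g⁻¹, k, g, ⟨ha3, hb3, hω, by group, hgb, hg4, hk2, ?_, ?_, ?_, ?_, ?_⟩, ha, hb, hk, hg, hωm⟩
  · rintro rfl
    exact kk_ne (hk.unique Cov.L.one)
  · exact (two_comm hZ hk hk2 ha kk_r3).symm
  · exact two_comm hZ hk hk2 hs kk_g4
  · have h2 := (hk.conj hb)
    have h3 : (g * a * g⁻¹ * k * (g * a * g⁻¹)⁻¹) ^ 2 = 1 := by rw [conj_pow, hk2, mul_one, mul_inv_cancel]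
    have h4 := two_comm hZ hk hk2 h2 kk_v4'
    refine two_unique hZ (hk.mul h2) (L_congr (hk.conj (hb.pow 2)) kk_v4.symm) ?_ ?_
    · rw [(show Commute k _ from h4.symm).mul_pow, h3, hk2, mul_one]
    · rw [conj_pow, hk2, mul_one, mul_inv_cancel]
  · have h2 : C.L ((k * (g * k * g⁻¹)) ^ 3) (g4 ^ 2) := by
      exact L_congr ((hk.mul (hk.conj hg)).pow 3) kk_r6
    have hK2 : (g * k * g⁻¹) ^ 2 = 1 := by rw [conj_pow, hk2, mul_one, mul_inv_cancel]
    have hsk := two_comm hZ hk hk2 hs kk_g4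
    obtain ⟨d, hdm, hd⟩ := h2.exists_sc hs
    have hkinv : k⁻¹ = k := inv_eq_of_mul_eq_one_left (by rw [← sq]; exact hk2)
    have hKinv : (g * k * g⁻¹)⁻¹ = g * k * g⁻¹ := inv_eq_of_mul_eq_one_left (by rw [← sq]; exact hK2)
    have h5 : k * (k * (g * k * g⁻¹)) ^ 3 * k⁻¹ = ((k * (g * k * g⁻¹)) ^ 3)⁻¹ := by
      rw [← conj_pow, ← inv_pow, _root_.mul_inv_rev, hKinv, hkinv]
      congr 1
      rw [← mul_assoc, ← sq, hk2, one_mul]
    have h6 : k * (sc d * g ^ 2) * k⁻¹ = sc d * g ^ 2 := by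
      rw [← mul_assoc, ← sc_comm, mul_assoc (sc d), ← hsk]; group
    rw [hd, h6, _root_.mul_inv_rev, ← sc_inv, ← sc_comm] at h5
    have h7 : (g ^ 2)⁻¹ = g ^ 2 := inv_eq_of_mul_eq_one_left (by rw [← sq]; exact hs2)
    rw [h7] at h5
    have h8 := sc_inj (mul_right_cancel h5)
    have h9 := eq_one_of (hZ d hdm) (by rw [sq]; nth_rewrite 1 [h8]; exact inv_mul_cancel d)
    rw [hd, h9, sc_one, one_mul]

end main

end Cfsg.Agent.H915.A7Old
end

-- part: H915/A7Old/Norm
section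
/-!
# `3.A₇` : normal form in dimension six (helper890)
-/

set_option autoImplicit false
set_option linter.unusedSectionVars false

namespace Cfsg.Agent.H915.A7Old

open Matrix Cfsg.Agent.H913.N6
open scoped Kronecker

variable {F : Type*} [Field F]

local notation "R2" => Matrix (Fin 2) (Fin 2) F
local notation "M3" => Matrix (Fin 3) (Fin 3) (Matrix (Fin 2) (Fin 2) F)
local notation "M6" => Matrix (Fin 6) (Fin 6) F

theorem omega_sum {ω : F} (h3 : ω ^ 3 = 1) (h1 : ω ≠ 1) : ω ^ 2 + ω + 1 = 0 := by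
  have : (ω - 1) * (ω ^ 2 + ω + 1) = 0 := by linear_combination h3
  exact (mul_eq_zero.1 this).resolve_left (sub_ne_zero.2 h1)

theorem three_ne {ω : F} (h3 : ω ^ 3 = 1) (h1 : ω ≠ 1) : (3 : F) ≠ 0 := by
  intro h
  have : (ω - 1) ^ 2 = 0 := by linear_combination omega_sum h3 h1 - ω * h
  exact h1 (sub_eq_zero.1 (pow_eq_zero_iff two_ne_zero |>.1 this))

theorem rho_smul (c : F) (M : M3) : rho (c • M) = c • rho M := by
  ext i j
  rfl

/-- `X T = T ρ(X')` -/
def Im (T : GL (Fin 6) F) (X : M6) (X' : M3) : Prop := X * (T : M6) = (T : M6) * rho X'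

theorem Im.exists (T : GL (Fin 6) F) (X : M6) : ∃ X', Im T X X' := by
  refine ⟨rho.symm (((T⁻¹ : GL (Fin 6) F) : M6) * X * (T : M6)), ?_⟩
  rw [Im, RingEquiv.apply_symm_apply, ← mul_assoc, ← mul_assoc, ← Units.val_mul, mul_inv_cancel, Units.val_one, one_mul]

theorem Im.mul {T : GL (Fin 6) F} {X Y : M6} {X' Y' : M3} (h : Im T X X') (h' : Im T Y Y') :
    Im T (X * Y) (X' * Y') := by
  rw [Im, map_mul, mul_assoc, h', ← mul_assoc, h, mul_assoc]

theorem Im.one (T : GL (Fin 6) F) : Im T 1 1 := by rw [Im, map_one, one_mul, mul_one]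

theorem Im.pow {T : GL (Fin 6) F} {X : M6} {X' : M3} (h : Im T X X') (n : ℕ) : Im T (X ^ n) (X' ^ n) := by
  induction n with
  | zero => rw [pow_zero, pow_zero]; exact Im.one T
  | succ n ih => rw [pow_succ, pow_succ]; exact ih.mul h

theorem Im.unique {T : GL (Fin 6) F} {X : M6} {X' Y' : M3} (h : Im T X X') (h' : Im T X Y') : X' = Y' := by
  have h1 : (T : M6) * rho X' = (T : M6) * rho Y' := h.symm.trans h'
  have h2 := congrArg (fun Z => ((T⁻¹ : GL (Fin 6) F) : M6) * Z) h1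
  simp only [← mul_assoc, ← Units.val_mul, inv_mul_cancel, Units.val_one, one_mul] at h2
  exact rho.injective h2

theorem Im.inj {T : GL (Fin 6) F} {X Y : M6} {X' : M3} (h : Im T X X') (h' : Im T Y X') : X = Y := by
  have h1 : X * (T : M6) = Y * (T : M6) := h.trans h'.symm
  have h2 := congrArg (fun Z => Z * ((T⁻¹ : GL (Fin 6) F) : M6)) h1
  simp only [mul_assoc, ← Units.val_mul, mul_inv_cancel, Units.val_one, mul_one] at h2
  exact h2

theorem Im.det {T : GL (Fin 6) F} {X : M6} {X' : M3} (h : Im T X X') : X.det = (rho X').det := by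
  have h1 := congrArg Matrix.det h
  rw [Matrix.det_mul, Matrix.det_mul, mul_comm] at h1
  have h2 : (T : M6).det ≠ 0 := by
    rw [← Matrix.GeneralLinearGroup.val_det_apply]
    exact Units.ne_zero _
  exact mul_left_cancel₀ h2 h1

/-- the standard `x` and `δ` -/
def x0 (ω : F) : R2 := (ω - ω ^ 2)⁻¹ • !![0, -1; 1, 0]
def d0 (ω : F) : R2 := !![0, ω; ω ^ 2, 0]

/-- the relations as matrices -/
theorem Rel.mat {ω : Fˣ} {a b k g : GL (Fin 6) F} (h : Rel ω a b k g) :
    (g : M6) * a = b * g ∧ (a : M6) * (g * b) = g ∧ (k : M6) * k = 1 ∧ ((g : M6) * g) * (g * g) = 1 ∧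
      (k : M6) * a = a * k ∧ ((g : M6) * g) * k = k * (g * g) ∧ (k : M6) * b * k * b = b * (b * k) ∧
      ((k : M6) * (g * k * (g * (g * g)))) ^ 3 = g * g := by
  refine ⟨congrArg (fun g : GL (Fin 6) F => (g : M6)) h.ga, ?_, ?_, ?_,
    congrArg (fun g : GL (Fin 6) F => (g : M6)) h.ka, ?_, ?_, ?_⟩
  · have h1 : a * (g * b) = g := by rw [h.gb, mul_inv_cancel_left]
    exact congrArg (fun g : GL (Fin 6) F => (g : M6)) h1
  · have h1 : k * k = 1 := by rw [← sq, h.k2]
    exact congrArg (fun g : GL (Fin 6) F => (g : M6)) h1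
  · have h1 : (g * g) * (g * g) = 1 := by rw [← sq, ← sq, ← pow_mul, h.g4]
    exact congrArg (fun g : GL (Fin 6) F => (g : M6)) h1
  · have h1 : (g * g) * k = k * (g * g) := by rw [← sq, h.sk]
    exact congrArg (fun g : GL (Fin 6) F => (g : M6)) h1
  · have h1 : k * b * k * b = b * (b * k) := by
      have h2 := congrArg (fun z => z * b ^ 2) h.v4
      simp only [inv_mul_cancel_right] at h2
      calc k * b * k * b = k * (b * k * b⁻¹) * b ^ 2 := by group
        _ = b ^ 2 * k := h2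
        _ = b * (b * k) := by rw [sq, mul_assoc]
    exact congrArg (fun g : GL (Fin 6) F => (g : M6)) h1
  · have h1 : (k * (g * k * (g * (g * g)))) ^ 3 = g * g := by
      have h2 : g * (g * g) = g⁻¹ := by
        rw [eq_inv_iff_mul_eq_one, ← h.g4, pow_succ, pow_succ, sq, mul_assoc g g g]
      rw [h2, h.r6, sq]
    have h2 := congrArg (fun g : GL (Fin 6) F => (g : M6)) h1
    simp only [Units.val_pow_eq_pow_val, Units.val_mul] at h2
    exact h2

end Cfsg.Agent.H915.A7Old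
end

-- part: H915/A7Old/XLines
section
/-!
# `3.A₇` : the stabiliser of the 126 lines (helper890)
-/

set_option autoImplicit false
set_option linter.unusedSectionVars false

namespace Cfsg.Agent.H915.A7Old

open Matrix Cfsg.Agent.H913.N6 Cfsg.Agent.H890.K6

variable {F : Type*} [Field F]

local notation "R2" => Matrix (Fin 2) (Fin 2) F
local notation "M3" => Matrix (Fin 3) (Fin 3) (Matrix (Fin 2) (Fin 2) F)
local notation "M6" => Matrix (Fin 6) (Fin 6) F

/-- the stabiliser of the 126 lines -/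
def X [Finite F] (ω : F) : Subgroup (GL (Fin 6) F) where
  carrier := {g | ∀ v, IsLine ω v → IsLine ω ((g : M6) *ᵥ v)}
  one_mem' := fun v hv => by rw [Units.val_one, Matrix.one_mulVec]; exact hv
  mul_mem' := fun {a b} ha hb v hv => by
    rw [Units.val_mul, ← Matrix.mulVec_mulVec]
    exact ha _ (hb _ hv)
  inv_mem' := fun {a} ha => by
    have key : ∀ n : ℕ, ∀ v, IsLine ω v → IsLine ω (((a ^ n : GL (Fin 6) F) : M6) *ᵥ v) := by
      intro n
      induction n with
      | zero => intro v hv; rw [pow_zero, Units.val_one, Matrix.one_mulVec]; exact hv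
      | succ n ih =>
        intro v hv
        rw [pow_succ, Units.val_mul, ← Matrix.mulVec_mulVec]
        exact ih _ (ha _ hv)
    have h1 : a⁻¹ = a ^ (orderOf a - 1) := by
      rw [inv_eq_iff_mul_eq_one, ← pow_succ', Nat.sub_add_cancel (orderOf_pos a), pow_orderOf_eq_one]
    change ∀ v, IsLine ω v → IsLine ω (((a⁻¹ : GL (Fin 6) F) : M6) *ᵥ v)
    rw [h1]
    exact key _

/-! ### an element outside -/

end Cfsg.Agent.H915.A7Old
end

-- part: H915/A7Old/Unit
section
/-!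
# `3.A₇` : the unitary form (helper890)
-/

set_option autoImplicit false
set_option linter.unusedSectionVars false

namespace Cfsg.Agent.H915.A7Old

open Matrix Cfsg.Agent.H913.N6 Cfsg.Agent.H890.K6 Cfsg.Agent.H907 Cfsg.Agent.LieClassical.HermBasic

variable {F : Type*} [Field F] [Fintype F] {q : ℕ} (hF : Fintype.card F = q ^ 2)

local notation "R2" => Matrix (Fin 2) (Fin 2) F
local notation "M3" => Matrix (Fin 3) (Fin 3) (Matrix (Fin 2) (Fin 2) F)
local notation "M6" => Matrix (Fin 6) (Fin 6) F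

include hF

variable {ω : F}

end Cfsg.Agent.H915.A7Old
end

-- part: H915/A7Old/Kill
section
/-!
# `3.A₇` is not maximal in dimension six (helper890)
-/

set_option autoImplicit false
set_option linter.unusedSectionVars false

namespace Cfsg.Agent.H915.A7Old

open Cfsg Cfsg.Geo Matrix Cfsg.Agent.H913.N6 Cfsg.Agent.H890.K6 Cfsg.Agent.H890.Y3 Cfsg.Agent.H907
open Equiv Equiv.Perm
open Cfsg.Agent.H915.LD (Core Soc toSoc tr)

/-! ### the alternating group -/

theorem gen7 : Subgroup.closure ({r3, r3', kk, g4} : Set (alternatingGroup (Fin 7))) = ⊤ := by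
  apply Subgroup.map_injective (alternatingGroup (Fin 7)).subtype_injective
  rw [MonoidHom.map_closure, ← MonoidHom.range_eq_map, Subgroup.range_subtype]
  set G := Subgroup.closure ((alternatingGroup (Fin 7)).subtype '' {r3, r3', kk, g4}) with hG
  have m1 : (r3 : Perm (Fin 7)) ∈ G := Subgroup.subset_closure ⟨r3, by simp, rfl⟩
  have m2 : (r3' : Perm (Fin 7)) ∈ G := Subgroup.subset_closure ⟨r3', by simp, rfl⟩
  have m3 : (kk : Perm (Fin 7)) ∈ G := Subgroup.subset_closure ⟨kk, by simp, rfl⟩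
  have m4 : (g4 : Perm (Fin 7)) ∈ G := Subgroup.subset_closure ⟨g4, by simp, rfl⟩
  apply le_antisymm
  · rw [hG, Subgroup.closure_le]
    rintro _ ⟨s, -, rfl⟩
    exact s.2
  · have ht : ∀ y : Fin 7, ∃ g ∈ G, g 0 = y := by
      have t0 : ∃ g ∈ G, g 0 = (0 : Fin 7) := ⟨1, one_mem G, rfl⟩
      have step : ∀ {x y : Fin 7} {s : Perm (Fin 7)}, s ∈ G → s x = y → (∃ g ∈ G, g 0 = x) → ∃ g ∈ G, g 0 = y := by
        rintro x y s hs hxy ⟨g, hg, rfl⟩
        exact ⟨s * g, mul_mem hs hg, hxy⟩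
      have t1 := step m1 (by decide : (r3 : Perm (Fin 7)) 0 = 1) t0
      have t2 := step m1 (by decide : (r3 : Perm (Fin 7)) 1 = 2) t1
      have t3 := step m4 (by decide : (g4 : Perm (Fin 7)) 0 = 3) t0
      have t4 := step m2 (by decide : (r3' : Perm (Fin 7)) 3 = 4) t3
      have t5 := step m2 (by decide : (r3' : Perm (Fin 7)) 4 = 5) t4
      have t6 := step m3 (by decide : (kk : Perm (Fin 7)) 5 = 6) t5
      intro y
      fin_cases y
      exacts [t0, t1, t2, t3, t4, t5, t6]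
    have hpt : MulAction.IsPretransitive G (Fin 7) := by
      refine ⟨fun x y => ?_⟩
      obtain ⟨g, hg, rfl⟩ := ht x
      obtain ⟨g', hg', rfl⟩ := ht y
      refine ⟨⟨g' * g⁻¹, mul_mem hg' (inv_mem hg)⟩, ?_⟩
      show (g' * g⁻¹) (g 0) = g' 0
      simp only [_root_.Fin.isValue, _root_.Equiv.Perm.coe_mul, _root_.Equiv.Perm.coe_inv, _root_.Function.comp_apply, _root_.Equiv.symm_apply_apply]
    have hpp : MulAction.IsPreprimitive G (Fin 7) := MulAction.IsPreprimitive.of_prime_card (by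
      rw [Nat.card_eq_fintype_card, Fintype.card_fin]; norm_num)
    exact Perm.alternatingGroup_le_of_isPreprimitive_of_isThreeCycle_mem hpp (g := (r3 : Perm (Fin 7)))
      (by
        rw [← card_support_eq_three_iff]
        decide) m1

/-- `(i, j) ↦ r3 ^ i * r3' ^ j` -/
def f9 : Multiplicative (ZMod 3 × ZMod 3) →* alternatingGroup (Fin 7) :=
  MonoidHom.mk' (fun x => r3 ^ (x.toAdd.1).val * r3' ^ (x.toAdd.2).val) (by decide +kernel)

theorem f9_injective : Function.Injective f9 := by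
  rw [injective_iff_map_eq_one]
  decide +kernel

theorem index_f9 : f9.range.index = 280 := by
  have h1 : Nat.card f9.range = 9 := by
    rw [← Nat.card_congr (MonoidHom.ofInjective f9_injective).toEquiv]
    show Nat.card (ZMod 3 × ZMod 3) = 9
    rw [Nat.card_prod, Nat.card_zmod]
  have h2 := f9.range.card_mul_index
  rw [h1, nat_card_alternatingGroup, Nat.card_eq_fintype_card, Fintype.card_fin] at h2
  have h3 : Nat.factorial 7 / 2 = 9 * 280 := by decide
  rw [h3] at h2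
  exact Nat.eq_of_mul_eq_mul_left (by norm_num) h2

/-! ### the core -/

section core

variable {F : Type*} [Field F] {P : Subgroup (GL (Fin 6) F)}

local notation "R2" => Matrix (Fin 2) (Fin 2) F
local notation "M3" => Matrix (Fin 3) (Fin 3) (Matrix (Fin 2) (Fin 2) F)
local notation "M6" => Matrix (Fin 6) (Fin 6) F

/-- lifts of generators and the scalars of `P` generate `P` -/
theorem le_of_gens {T : Type*} [Group T] (C : Cov P T) {S : Set T} (hS : Subgroup.closure S = ⊤)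
    {Y : Subgroup (GL (Fin 6) F)} (hY : ∀ s ∈ S, ∃ y ∈ Y, C.L y s) (hsc : ∀ c, sc c ∈ P → sc c ∈ Y) : P ≤ Y := by
  have key : ∀ σ : T, ∃ y ∈ Y, C.L y σ := by
    intro σ
    have h1 : σ ∈ Subgroup.closure S := by rw [hS]; exact Subgroup.mem_top _
    induction h1 using Subgroup.closure_induction with
    | mem x hx => exact hY x hx
    | one => exact ⟨1, one_mem Y, Cov.L.one⟩
    | mul x y _ _ h h' =>
      obtain ⟨u, hu, hu'⟩ := h
      obtain ⟨v, hv, hv'⟩ := h'
      exact ⟨u * v, mul_mem hu hv, hu'.mul hv'⟩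
    | inv x _ h =>
      obtain ⟨u, hu, hu'⟩ := h
      exact ⟨u⁻¹, inv_mem hu, hu'.inv⟩
  intro x hx
  obtain ⟨σ, hσ⟩ := Cov.L.of_mem C hx
  obtain ⟨y, hy, hy'⟩ := key σ
  obtain ⟨c, hc, rfl⟩ := hσ.exists_sc hy'
  exact mul_mem (hsc c hc) hy

/-- The data of a normal form. -/
structure Frame (C : Cov P (alternatingGroup (Fin 7))) (ω : Fˣ) (a b k g T : GL (Fin 6) F) (ε : F) : Prop where
  rel : Rel ω a b k g
  La : C.L a r3
  Lb : C.L b r3'
  Lk : C.L k kk
  Lg : C.L g g4
  hω : (ω : F) ^ 2 + ω + 1 = 0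
  h3 : (3 : F) ≠ 0
  hω3 : ω ^ 3 = 1
  hω1 : ω ≠ 1
  mem : sc ω ∈ P
  hε : ε ^ 2 = 1
  IA : Im T a (a3 (ω : F))
  IB : Im T b b3
  IK : Im T k (dg 1 (d0 (ω : F)) (d0 (ω : F)))
  IG : Im T g (ε • gm (ω : F) (x0 (ω : F)))
  cent : ∀ X : M6, X * a = a * X → X * b = b * X → X * k = k * X → X * g = g * X → ∃ c : F, X = c • 1

variable {C : Cov P (alternatingGroup (Fin 7))}

/-- the lifts of the two `3`-cycles do not commute -/
theorem omega_ne_one [Finite F] (hC : Core P) (hZ : Z3 P) (hz : ∃ c : Fˣ, c ≠ 1 ∧ sc c ∈ P) {a b : GL (Fin 6) F}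
    (La : C.L a r3) (Lb : C.L b r3') : a * b ≠ b * a := by
  intro hab
  obtain ⟨c, hc1, hc⟩ := hz
  have hcomm : Commute a b := hab
  let S : Subgroup P := f9.range.comap C.π
  have hS : ∀ x ∈ S, ∀ y ∈ S, x * y = y * x := by
    have form : ∀ x ∈ S, ∃ (d : Fˣ) (i j : ℕ), (x : GL (Fin 6) F) = sc d * (a ^ i * b ^ j) := by
      intro x hx
      obtain ⟨m, hm⟩ := hx
      have h1 : C.L (x : GL (Fin 6) F) (r3 ^ (m.toAdd.1).val * r3' ^ (m.toAdd.2).val) := ⟨x.2, hm.symm⟩
      have h2 := (La.pow (m.toAdd.1).val).mul (Lb.pow (m.toAdd.2).val)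
      obtain ⟨d, -, hd⟩ := h1.exists_sc h2
      exact ⟨d, _, _, hd⟩
    intro x hx y hy
    obtain ⟨d, i, j, h1⟩ := form x hx
    obtain ⟨d', i', j', h2⟩ := form y hy
    apply Subtype.ext
    rw [Subgroup.coe_mul, Subgroup.coe_mul, h1, h2]
    have e1 : Commute (a ^ i * b ^ j) (a ^ i' * b ^ j') := by
      apply Commute.mul_left
      · exact Commute.mul_right (Commute.pow_pow (Commute.refl a) _ _) (hcomm.pow_pow _ _)
      · exact Commute.mul_right (hcomm.symm.pow_pow _ _) (Commute.pow_pow (Commute.refl b) _ _)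
    have e2 : ∀ (e : Fˣ) (z : GL (Fin 6) F), Commute (sc e) z := fun e z => sc_comm e z
    exact ((e2 d _).mul_left ((e2 d' _).symm.mul_right e1)).eq
  have hzS : (⟨sc c, hc⟩ : P) ∈ S := by
    show C.π _ ∈ f9.range
    rw [(C.ker ⟨sc c, hc⟩).2 (sc_mem_scalars c)]
    exact one_mem _
  have h1 := pow_index_mem hC.commutator_top S hS hzS (fun x => Subtype.ext (sc_comm c (x : GL (Fin 6) F)))
  have h2 : S.index = 280 := by
    rw [← index_f9]
    exact Subgroup.index_comap_of_surjective _ C.surj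
  rw [h2] at h1
  have h3 : sc (c ^ 280) = (1 : GL (Fin 6) F) := by
    rw [sc_pow]
    exact congrArg Subtype.val h1
  rw [← sc_one] at h3
  have h4 := sc_inj h3
  have h5 := hZ c hc
  apply hc1
  have h6 : c ^ 280 = (c ^ 3) ^ 93 * c := by rw [← pow_mul, ← pow_succ]
  rw [h6, h5, one_pow, one_mul] at h4
  exact h4

variable {ω : Fˣ} {a b k g T : GL (Fin 6) F} {ε : F}

/-! ### the elements `D` and `W` -/

end core

end Cfsg.Agent.H915.A7Old
end

-- part: H637/A7Blk
section
/-!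
# Block form for `a b = ω b a` on any space (helper637)

`V` a space with endomorphisms `A³ = B³ = 1`, `A B = ω B A`.  With `W = ker (A - 1)` every endomorphism of `V` becomes a
`3 × 3` matrix over `End W`: `rho T i j = π B^(-i) T B^j`.
-/

set_option autoImplicit false
set_option linter.unusedSectionVars false

namespace Cfsg.Agent.H637.Blk

open Cfsg.Agent.H915.A7Old (a3 b3 dg gm rm fin3 ext3 omega_cube omega_ne)

variable {F V : Type*} [Field F] [AddCommGroup V] [Module F V]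

/-- the data -/
structure Sys (A B : Module.End F V) (ω : F) : Prop where
  hA : A * (A * A) = 1
  hB : B * (B * B) = 1
  hAB : A * B = ω • (B * A)
  hω : ω ^ 2 + ω + 1 = 0
  h3 : (3 : F) ≠ 0

/-- the fixed space of `A` -/
def W (A : Module.End F V) : Submodule F V := LinearMap.ker (A - 1)

theorem mem_W {A : Module.End F V} {v : V} : v ∈ W A ↔ A v = v := by
  rw [W, LinearMap.mem_ker, LinearMap.sub_apply, Module.End.one_apply, sub_eq_zero]

variable {A B : Module.End F V} {ω : F}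

namespace Sys

variable (h : Sys A B ω)
include h

theorem AAA (v : V) : A (A (A v)) = v := by
  have := congrArg (fun T : Module.End F V => T v) h.hA
  exact this

theorem BBB (v : V) : B (B (B v)) = v := by
  have := congrArg (fun T : Module.End F V => T v) h.hB
  exact this

theorem AB (v : V) : A (B v) = ω • B (A v) := by
  have := congrArg (fun T : Module.End F V => T v) h.hAB
  exact this

theorem ω3 : ω ^ 3 = 1 := omega_cube h.hω

theorem pr_mem (v : V) : (3 : F)⁻¹ • (v + A v + A (A v)) ∈ W A := by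
  rw [mem_W, map_smul, map_add, map_add, h.AAA]
  congr 1
  abel

end Sys

/-- the projection onto `W` -/
noncomputable def pr (h : Sys A B ω) : V →ₗ[F] W A where
  toFun v := ⟨(3 : F)⁻¹ • (v + A v + A (A v)), h.pr_mem v⟩
  map_add' u v := by
    apply Subtype.ext
    simp only [map_add, Submodule.coe_add]
    rw [← smul_add]
    congr 1
    abel
  map_smul' c v := by
    apply Subtype.ext
    simp only [map_smul, Submodule.coe_smul, RingHom.id_apply]
    rw [← smul_add, ← smul_add, smul_comm]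

theorem pr_coe (h : Sys A B ω) (v : V) : ((pr h v : W A) : V) = (3 : F)⁻¹ • (v + A v + A (A v)) := rfl

/-- `v ↦ B^j v` -/
noncomputable def em (B : Module.End F V) (A : Module.End F V) (j : Fin 3) : W A →ₗ[F] V :=
  (B ^ (j : ℕ)) ∘ₗ (W A).subtype

/-- `v ↦ π (B^(-i) v)` -/
noncomputable def pj (h : Sys A B ω) (i : Fin 3) : V →ₗ[F] W A :=
  (pr h) ∘ₗ (B ^ (2 * (i : ℕ)))

section
variable (h : Sys A B ω)

theorem em_zero (w : W A) : em B A 0 w = w := rfl
theorem em_one (w : W A) : em B A 1 w = B w := by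
  show (B ^ 1) (w : V) = _
  rw [pow_one]
theorem em_two (w : W A) : em B A 2 w = B (B w) := by
  show (B ^ 2) (w : V) = _
  rw [sq]; rfl

theorem pj_zero (v : V) : pj h 0 v = pr h v := rfl
theorem pj_one (v : V) : pj h 1 v = pr h (B (B v)) := by
  show pr h ((B ^ 2) v) = _
  rw [sq]; rfl
theorem pj_two (v : V) : pj h 2 v = pr h (B v) := by
  show pr h ((B ^ 4) v) = _
  have : (B ^ 4) v = B (B (B (B v))) := rfl
  rw [this, h.BBB]

include h in
theorem A_em (j : Fin 3) (w : W A) : A (em B A j w) = ω ^ (j : ℕ) • em B A j w := by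
  have hw : A (w : V) = w := mem_W.1 w.2
  rcases fin3 j with rfl | rfl | rfl
  · rw [em_zero, hw]; simp
  · rw [em_one, h.AB, hw]; simp
  · rw [em_two, h.AB, h.AB, hw, map_smul, smul_smul]
    show _ = ω ^ 2 • _
    rw [sq]

include h in
theorem B_em (j : Fin 3) (w : W A) : B (em B A j w) = em B A (j + 1) w := by
  rcases fin3 j with rfl | rfl | rfl
  · rw [em_zero]; show _ = em B A 1 w; rw [em_one]
  · rw [em_one]; show _ = em B A 2 w; rw [em_two]
  · rw [em_two, h.BBB]; show _ = em B A 0 w; rw [em_zero]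

theorem pr_em (j : Fin 3) (w : W A) : pr h (em B A j w) = if j = 0 then w else 0 := by
  apply Subtype.ext
  rw [pr_coe, A_em h, map_smul, A_em h, smul_smul]
  have hω := h.hω
  have h3 := h.h3
  rcases fin3 j with rfl | rfl | rfl
  · rw [if_pos rfl, em_zero]
    show (3 : F)⁻¹ • ((w : V) + ω ^ 0 • (w : V) + (ω ^ 0 * ω ^ 0) • (w : V)) = w
    rw [pow_zero, one_smul, mul_one, one_smul]
    have : (w : V) + w + w = (3 : F) • (w : V) := by
      rw [show (3 : F) = 1 + 1 + 1 by norm_num, add_smul, add_smul, one_smul]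
    rw [this, smul_smul, inv_mul_cancel₀ h3, one_smul]
  · rw [if_neg (by decide)]
    show (3 : F)⁻¹ • (em B A 1 w + ω ^ 1 • em B A 1 w + (ω ^ 1 * ω ^ 1) • em B A 1 w) = 0
    have : em B A 1 w + ω ^ 1 • em B A 1 w + (ω ^ 1 * ω ^ 1) • em B A 1 w = (ω ^ 2 + ω + 1) • em B A 1 w := by module
    rw [this, hω, zero_smul, smul_zero]
  · rw [if_neg (by decide)]
    show (3 : F)⁻¹ • (em B A 2 w + ω ^ 2 • em B A 2 w + (ω ^ 2 * ω ^ 2) • em B A 2 w) = 0
    have : em B A 2 w + ω ^ 2 • em B A 2 w + (ω ^ 2 * ω ^ 2) • em B A 2 w =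
        ((ω ^ 2 - ω + 1) * (ω ^ 2 + ω + 1)) • em B A 2 w := by module
    rw [this, hω, mul_zero, zero_smul, smul_zero]

theorem pj_em (i j : Fin 3) (w : W A) : pj h i (em B A j w) = if i = j then w else 0 := by
  rcases fin3 i with rfl | rfl | rfl
  · rw [pj_zero, pr_em]
    exact if_congr eq_comm rfl rfl
  · rw [pj_one, B_em h, B_em h, pr_em]
    refine if_congr ?_ rfl rfl
    rcases fin3 j with rfl | rfl | rfl <;> decide
  · rw [pj_two, B_em h, pr_em]
    refine if_congr ?_ rfl rfl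
    rcases fin3 j with rfl | rfl | rfl <;> decide

theorem sum_em_pj (v : V) : ∑ i, em B A i (pj h i v) = v := by
  rw [Fin.sum_univ_three, em_zero, em_one, em_two, pj_zero, pj_one, pj_two, pr_coe, pr_coe, pr_coe]
  have hω := h.hω
  have h3 := h.h3
  have e1 : ∀ u, B (A (B (B u))) = ω ^ 2 • A u := by
    intro u
    -- A B² = ω² B² A
    have : A (B (B u)) = ω ^ 2 • B (B (A u)) := by rw [h.AB, h.AB, map_smul, smul_smul, sq]
    rw [this, map_smul, h.BBB]
  have e2 : ∀ u, B (B (A (B u))) = ω • A u := by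
    intro u
    rw [h.AB, map_smul, map_smul, h.BBB]
  have e3 : B (A (A (B (B v)))) = ω • A (A v) := by
    have : A (A (B (B v))) = ω ^ 4 • B (B (A (A v))) := by
      have e : ∀ u, A (B (B u)) = ω ^ 2 • B (B (A u)) := by
        intro u
        rw [h.AB, h.AB, map_smul, smul_smul, sq]
      rw [e, map_smul, e, smul_smul]
      congr 1
      ring
    rw [this, map_smul, h.BBB]
    congr 1
    linear_combination ω * h.ω3
  have e4 : B (B (A (A (B v)))) = ω ^ 2 • A (A v) := by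
    rw [h.AB, map_smul, h.AB, smul_smul, map_smul, map_smul, h.BBB, sq]
  rw [map_smul, map_smul, map_smul, map_add, map_add, map_add, map_add, map_add, map_add, h.BBB, e1, e3, e2, e4,
    ← smul_add, ← smul_add]
  have : v + A v + A (A v) + (v + ω ^ 2 • A v + ω • A (A v)) + (v + ω • A v + ω ^ 2 • A (A v)) =
      (3 : F) • v + (ω ^ 2 + ω + 1) • (A v + A (A v)) := by module
  rw [this, hω, zero_smul, add_zero, smul_smul, inv_mul_cancel₀ h3, one_smul]

/-- the block matrix of an endomorphism -/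
noncomputable def rho (h : Sys A B ω) (T : Module.End F V) : Matrix (Fin 3) (Fin 3) (Module.End F (W A)) :=
  Matrix.of fun i j => (pj h i) ∘ₗ T ∘ₗ (em B A j)

theorem rho_apply (T : Module.End F V) (i j : Fin 3) (w : W A) : rho h T i j w = pj h i (T (em B A j w)) := rfl

theorem em_rho (T : Module.End F V) (j : Fin 3) (w : W A) : T (em B A j w) = ∑ i, em B A i (rho h T i j w) := by
  simp only [rho_apply]
  rw [sum_em_pj]

theorem rho_mul (S T : Module.End F V) : rho h (S * T) = rho h S * rho h T := by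
  ext i j w : 3
  rw [Matrix.mul_apply, rho_apply, Module.End.mul_apply, em_rho h T, LinearMap.sum_apply, map_sum, map_sum]
  rfl

theorem rho_one : rho h 1 = 1 := by
  ext i j w : 3
  rw [rho_apply, Module.End.one_apply, pj_em, Matrix.one_apply]
  split_ifs <;> rfl

theorem rho_smul (c : F) (T : Module.End F V) : rho h (c • T) = c • rho h T := by
  ext i j w : 3
  rw [rho_apply, LinearMap.smul_apply, map_smul]
  rfl

theorem rho_injective : Function.Injective (rho h) := by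
  intro S T e
  apply LinearMap.ext
  intro v
  rw [← sum_em_pj h v, map_sum, map_sum]
  apply Finset.sum_congr rfl
  intro i _
  rw [em_rho h S, em_rho h T, e]

theorem rho_A : rho h A = a3 ω := by
  ext i j w : 3
  rw [rho_apply, A_em h, map_smul, pj_em, H915.A7Old.a3_apply]
  by_cases hij : i = j
  · rw [if_pos hij, if_pos hij]; rfl
  · rw [if_neg hij, if_neg hij, smul_zero]; rfl

theorem rho_B : rho h B = b3 := by
  ext i j w : 3
  rw [rho_apply, B_em h, pj_em, H915.A7Old.b3_apply]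
  by_cases hij : i = j + 1
  · rw [if_pos hij, if_pos hij]; rfl
  · rw [if_neg hij, if_neg hij]; rfl

theorem rho_pow (T : Module.End F V) (n : ℕ) : rho h (T ^ n) = rho h T ^ n := by
  induction n with
  | zero => rw [pow_zero, pow_zero, rho_one]
  | succ n ih => rw [pow_succ, pow_succ, rho_mul, ih]

/-- the induced subspace of `V` -/
noncomputable def up (U : Submodule F (W A)) : Submodule F V where
  carrier := {v | ∀ i, pj h i v ∈ U}
  add_mem' {u v} hu hv i := by rw [map_add]; exact add_mem (hu i) (hv i)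
  zero_mem' i := by rw [map_zero]; exact zero_mem U
  smul_mem' c v hv i := by rw [map_smul]; exact U.smul_mem c (hv i)

theorem up_invt {U : Submodule F (W A)} {T : Module.End F V} (hT : ∀ i j, ∀ u ∈ U, rho h T i j u ∈ U) {v : V}
    (hv : v ∈ up h U) : T v ∈ up h U := by
  intro i
  rw [← sum_em_pj h v, map_sum, map_sum]
  exact sum_mem fun j _ => hT i j _ (hv j)

theorem up_eq_bot {U : Submodule F (W A)} (hU : up h U = ⊥) : U = ⊥ := by
  rw [eq_bot_iff]
  intro u hu
  have h1 : em B A 0 u ∈ up h U := by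
    intro i
    rw [pj_em]
    split_ifs
    · exact hu
    · exact zero_mem U
  rw [hU, Submodule.mem_bot, em_zero] at h1
  rw [Submodule.mem_bot]
  exact Subtype.ext h1

theorem up_eq_top {U : Submodule F (W A)} (hU : up h U = ⊤) : U = ⊤ := by
  rw [eq_top_iff]
  intro u _
  have h1 : em B A 0 u ∈ up h U := by rw [hU]; exact Submodule.mem_top
  have h2 := h1 0
  rwa [pj_em, if_pos rfl] at h2

/-- the coordinates -/
noncomputable def coords (h : Sys A B ω) : V ≃ₗ[F] (Fin 3 → W A) where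
  toFun v i := pj h i v
  invFun w := ∑ i, em B A i (w i)
  map_add' u v := by funext i; exact map_add _ _ _
  map_smul' c v := by funext i; exact map_smul _ _ _
  left_inv v := sum_em_pj h v
  right_inv w := by
    funext i
    simp only [map_sum, pj_em]
    rw [Finset.sum_ite_eq Finset.univ i, if_pos (Finset.mem_univ i)]

include h in
theorem finrank_eq [FiniteDimensional F V] : Module.finrank F V = 3 * Module.finrank F (W A) := by
  rw [(coords h).finrank_eq, Module.finrank_pi_fintype, Finset.sum_const, Finset.card_univ, Fintype.card_fin,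
    smul_eq_mul]

theorem trace_eq [FiniteDimensional F V] (T : Module.End F V) :
    LinearMap.trace F V T = ∑ i, LinearMap.trace F (W A) (rho h T i i) := by
  have h1 : T = ∑ i, (T ∘ₗ em B A i) ∘ₗ pj h i := by
    apply LinearMap.ext
    intro v
    rw [LinearMap.sum_apply]
    conv_lhs => rw [← sum_em_pj h v, map_sum]
    rfl
  conv_lhs => rw [h1, map_sum]
  apply Finset.sum_congr rfl
  intro i _
  rw [LinearMap.trace_comp_comm']
  rfl

end

end Cfsg.Agent.H637.Blk
end

private theorem dce_1498fe6fc6d5 : _root_.True := by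
  try have : _root_.True := by simp only [_root_.Cfsg.Agent.H890.K6.pairs.eq_1]
  try have : _root_.True := by simp only [_root_.Cfsg.Agent.H890.K6.negE.eq_1]
  try have : _root_.True := by simp only [_root_.Cfsg.Agent.H890.K6.ME_D.eq_1]
  try have : _root_.True := by simp only [_root_.Cfsg.Agent.H637.Blk.W.eq_1]
  try have : _root_.True := by simp only [_root_.Cfsg.Agent.H915.A7Old.dg.eq_1]
  try have : _root_.True := by simp only [_root_.Cfsg.Agent.H890.K6.ln.eq_1]
  try have : _root_.True := by simp only [_root_.Cfsg.Agent.H915.A7Old.x0.eq_1]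
  try have : _root_.True := by simp only [_root_.Cfsg.Agent.H915.A7Old.Im.eq_1]
  try have : _root_.True := by simp only [_root_.Cfsg.Agent.H890.K6.ME_B.eq_1]
  try have : _root_.True := by simp only [_root_.Cfsg.Agent.H915.A7Old.gm.eq_1]
  try have : _root_.True := by simp only [_root_.Cfsg.Agent.H890.K6.pwE.eq_1]
  try have : _root_.True := by simp only [_root_.Cfsg.Agent.H915.A7Old.d0.eq_1]
  try have : _root_.True := by simp only [_root_.Cfsg.Agent.H637.Blk.pj.congr_simp]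
  try have : _root_.True := by simp only [_root_.Cfsg.Agent.H890.K6.ME_K.eq_1]
  try have : _root_.True := by simp only [_root_.Cfsg.Agent.H890.K6.ME_G.eq_1]
  try have : _root_.True := by simp only [_root_.Cfsg.Agent.H890.K6.ME_A.eq_1]
  try have : _root_.True := by simp only [_root_.Cfsg.Agent.H637.Blk.rho.congr_simp]
  try have : _root_.True := by simp only [_root_.Cfsg.Agent.H915.A7Old.rm.eq_1]
  exact _root_.True.intro
end

-- part: H637/A7NineMain
section
prune_inst 0x4400020040000020000188000200000000800000000000000200008000400a0408500080180a00102082008402000004811000000020000000a000000000000000000040000000108000008000000000000000000000000000000000000000000000000000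
set_option linter.all false
open scoped Cfsg.Agent.FastGrp

-- part: H637/A7Three
section
/-!
# `3.A₇` over the multiplicity space (helper637)

A core `P` with `P/Z = A₇` whose scalars have order three: the data `x, d₀, d₁, d₂, t` on the multiplicity space `W` of
`3^{1+2}` (dimension `n/3`), after helper890.
-/

set_option autoImplicit false
set_option linter.unusedSectionVars false

namespace Cfsg.Agent.H637.Three

open Cfsg Cfsg.Geo Matrix Cfsg.Agent.H913.N6 Cfsg.Agent.H637.Blk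
open Cfsg.Agent.H915.LD (Core Soc toSoc tr Fr)
open Cfsg.Agent.H907
open Cfsg.Agent.H890.Y3 (r3 r3' g4 r3_comm r3_pow)
open Cfsg.Agent.H915.A7Old (Rel Z3 kk gen7 f9 f9_injective index_f9 a3 b3 dg gm rm fin3 ext3 omega_cube omega_ne mul3 exists_rel
  omega_sum three_ne stage_one gm_mul_gm gm_entries dg_entries rm_entries two_conj L_congr)

section core

variable {ι : Type} [Fintype ι] [DecidableEq ι] {F : Type*} [Field F] {P : Subgroup (GL ι F)}

local notation "MI" => Matrix ι ι F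

/-- lifts of generators and the scalars of `P` generate `P` -/
theorem le_of_gens {T : Type*} [Group T] (C : Cov P T) {S : Set T} (hS : Subgroup.closure S = ⊤)
    {Y : Subgroup (GL ι F)} (hY : ∀ s ∈ S, ∃ y ∈ Y, C.L y s) (hsc : ∀ c, sc c ∈ P → sc c ∈ Y) : P ≤ Y := by
  have key : ∀ σ : T, ∃ y ∈ Y, C.L y σ := by
    intro σ
    have h1 : σ ∈ Subgroup.closure S := by rw [hS]; exact Subgroup.mem_top _
    induction h1 using Subgroup.closure_induction with
    | mem x hx => exact hY x hx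
    | one => exact ⟨1, one_mem Y, Cov.L.one⟩
    | mul x y _ _ h h' =>
      obtain ⟨u, hu, hu'⟩ := h
      obtain ⟨v, hv, hv'⟩ := h'
      exact ⟨u * v, mul_mem hu hv, hu'.mul hv'⟩
    | inv x _ h =>
      obtain ⟨u, hu, hu'⟩ := h
      exact ⟨u⁻¹, inv_mem hu, hu'.inv⟩
  intro x hx
  obtain ⟨σ, hσ⟩ := Cov.L.of_mem C hx
  obtain ⟨y, hy, hy'⟩ := key σ
  obtain ⟨c, hc, rfl⟩ := hσ.exists_sc hy'
  exact mul_mem (hsc c hc) hy

/-- the lifts of the two `3`-cycles do not commute -/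
theorem omega_ne_one [Nonempty ι] [Finite F] (hC : Core P) {C : Cov P (alternatingGroup (Fin 7))} (hZ : Z3 P)
    (hz : ∃ c : Fˣ, c ≠ 1 ∧ sc c ∈ P) {a b : GL ι F} (La : C.L a r3) (Lb : C.L b r3') : a * b ≠ b * a := by
  intro hab
  obtain ⟨c, hc1, hc⟩ := hz
  have hcomm : Commute a b := hab
  let S : Subgroup P := f9.range.comap C.π
  have hS : ∀ x ∈ S, ∀ y ∈ S, x * y = y * x := by
    have form : ∀ x ∈ S, ∃ (d : Fˣ) (i j : ℕ), (x : GL ι F) = sc d * (a ^ i * b ^ j) := by
      intro x hx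
      obtain ⟨m, hm⟩ := hx
      have h1 : C.L (x : GL ι F) (r3 ^ (m.toAdd.1).val * r3' ^ (m.toAdd.2).val) := ⟨x.2, hm.symm⟩
      have h2 := (La.pow (m.toAdd.1).val).mul (Lb.pow (m.toAdd.2).val)
      obtain ⟨d, -, hd⟩ := h1.exists_sc h2
      exact ⟨d, _, _, hd⟩
    intro x hx y hy
    obtain ⟨d, i, j, h1⟩ := form x hx
    obtain ⟨d', i', j', h2⟩ := form y hy
    apply Subtype.ext
    rw [Subgroup.coe_mul, Subgroup.coe_mul, h1, h2]
    have e1 : Commute (a ^ i * b ^ j) (a ^ i' * b ^ j') := by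
      apply Commute.mul_left
      · exact Commute.mul_right (Commute.pow_pow (Commute.refl a) _ _) (hcomm.pow_pow _ _)
      · exact Commute.mul_right (hcomm.symm.pow_pow _ _) (Commute.pow_pow (Commute.refl b) _ _)
    have e2 : ∀ (e : Fˣ) (z : GL ι F), Commute (sc e) z := fun e z => sc_comm e z
    exact ((e2 d _).mul_left ((e2 d' _).symm.mul_right e1)).eq
  have hzS : (⟨sc c, hc⟩ : P) ∈ S := by
    show C.π _ ∈ f9.range
    rw [(C.ker ⟨sc c, hc⟩).2 (sc_mem_scalars c)]
    exact one_mem _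
  have h1 := pow_index_mem hC.commutator_top S hS hzS (fun x => Subtype.ext (sc_comm c (x : GL ι F)))
  have h2 : S.index = 280 := by
    rw [← index_f9]
    exact Subgroup.index_comap_of_surjective _ C.surj
  rw [h2] at h1
  have h3 : sc (c ^ 280) = (1 : GL ι F) := by
    rw [sc_pow]
    exact congrArg Subtype.val h1
  rw [← sc_one] at h3
  have h4 := sc_inj h3
  have h5 := hZ c hc
  apply hc1
  have h6 : c ^ 280 = (c ^ 3) ^ 93 * c := by rw [← pow_mul, ← pow_succ]
  rw [h6, h5, one_pow, one_mul] at h4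
  exact h4

/-- the relations as matrices -/
theorem rel_mat {ω : Fˣ} {a b k g : GL ι F} (h : _root_.Cfsg.Agent.H915.A7Old.Rel ω a b k g) :
    (g : MI) * a = b * g ∧ (a : MI) * (g * b) = g ∧ (k : MI) * k = 1 ∧ ((g : MI) * g) * (g * g) = 1 ∧
      (k : MI) * a = a * k ∧ ((g : MI) * g) * k = k * (g * g) ∧ (k : MI) * b * k * b = b * (b * k) ∧
      ((k : MI) * (g * k * (g * (g * g)))) ^ 3 = g * g := by
  refine ⟨congrArg (fun g : GL ι F => (g : MI)) h.ga, ?_, ?_, ?_,
    congrArg (fun g : GL ι F => (g : MI)) h.ka, ?_, ?_, ?_⟩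
  · have h1 : a * (g * b) = g := by rw [h.gb, mul_inv_cancel_left]
    exact congrArg (fun g : GL ι F => (g : MI)) h1
  · have h1 : k * k = 1 := by rw [← sq, h.k2]
    exact congrArg (fun g : GL ι F => (g : MI)) h1
  · have h1 : (g * g) * (g * g) = 1 := by rw [← sq, ← sq, ← pow_mul, h.g4]
    exact congrArg (fun g : GL ι F => (g : MI)) h1
  · have h1 : (g * g) * k = k * (g * g) := by rw [← sq, h.sk]
    exact congrArg (fun g : GL ι F => (g : MI)) h1
  · have h1 : k * b * k * b = b * (b * k) := by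
      have h2 := congrArg (fun z => z * b ^ 2) h.v4
      simp only [inv_mul_cancel_right] at h2
      calc k * b * k * b = k * (b * k * b⁻¹) * b ^ 2 := by group
        _ = b ^ 2 * k := h2
        _ = b * (b * k) := by rw [sq, mul_assoc]
    exact congrArg (fun g : GL ι F => (g : MI)) h1
  · have h1 : (k * (g * k * (g * (g * g)))) ^ 3 = g * g := by
      have h2 : g * (g * g) = g⁻¹ := by
        rw [eq_inv_iff_mul_eq_one, ← h.g4, pow_succ, pow_succ, sq, mul_assoc g g g]
      rw [h2, h.r6, sq]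
    have h2 := congrArg (fun g : GL ι F => (g : MI)) h1
    simp only [Units.val_pow_eq_pow_val, Units.val_mul] at h2
    exact h2

end core

/-- the reduced data on the multiplicity space -/
structure Dat {F W : Type*} [Field F] [AddCommGroup W] [Module F W] (ω : F) (x d₀ d₁ d₂ t : Module.End F W) :
    Prop where
  hω : ω ^ 2 + ω + 1 = 0
  h3 : (3 : F) ≠ 0
  ht : t = (3 : F) • (x * x)
  tt : t * t = 1
  t0 : t * d₀ = d₀ * t
  t2 : t * d₂ = d₁ * t
  t1 : t * d₁ = d₂ * t
  h00 : d₀ * d₀ = 1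
  h11 : d₁ * d₁ = 1
  h22 : d₂ * d₂ = 1
  h21 : d₂ * d₁ = d₀
  h02 : d₀ * d₂ = d₁
  h10 : d₁ * d₀ = d₂
  r6 : (dg d₀ d₁ d₂ * (gm ω x * dg d₀ d₁ d₂ * (gm ω x * (gm ω x * gm ω x)))) ^ 3 = gm ω x * gm ω x
  irr : ∀ U : Submodule F W, (∀ u ∈ U, x u ∈ U) → (∀ u ∈ U, d₀ u ∈ U) → (∀ u ∈ U, d₁ u ∈ U) → (∀ u ∈ U, d₂ u ∈ U) →
    U = ⊥ ∨ U = ⊤
  comm : ∀ Z : Module.End F W, Z * x = x * Z → Z * d₀ = d₀ * Z → Z * d₁ = d₁ * Z → Z * d₂ = d₂ * Z → ∃ c : F, Z = c • 1
  htr : LinearMap.trace F W t = LinearMap.trace F W d₀ + LinearMap.trace F W d₁ + LinearMap.trace F W d₂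

section ex

variable {ι : Type} [Fintype ι] [DecidableEq ι] {F : Type*} [Field F] {P : Subgroup (GL ι F)}

local notation "MI" => Matrix ι ι F
local notation "Λ" => (Matrix.toLinAlgEquiv' : Matrix ι ι F ≃ₐ[F] ((ι → F) →ₗ[F] (ι → F)))

theorem g4_kk : ∃ γ : alternatingGroup (Fin 7), γ * kk * γ⁻¹ = g4 ^ 2 :=
  ⟨⟨c[0, 5] * c[1, 6], Equiv.Perm.mem_alternatingGroup.2 (by decide)⟩, by decide +kernel⟩

theorem val_inv_eq {x : GL ι F} {n : ℕ} (h : x ^ (n + 1) = 1) : x⁻¹ = x ^ n := by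
  rw [inv_eq_iff_mul_eq_one, ← pow_succ']
  exact h

set_option maxHeartbeats 1000000 in
theorem exists_dat [Finite F] (hC : Core P) (C : Cov P (alternatingGroup (Fin 7))) (hZ : Z3 P)
    (hz : ∃ c : Fˣ, c ≠ 1 ∧ sc c ∈ P) : ∃ (W : Submodule F (ι → F)) (ω : F) (x d₀ d₁ d₂ t : Module.End F W),
      Dat ω x d₀ d₁ d₂ t ∧ Fintype.card ι = 3 * Module.finrank F W := by
  classical
  have hι : Nonempty ι := hC.nonempty
  obtain ⟨ω, a, b, k, g, hrel, La, Lb, Lk, Lg, hωP⟩ := exists_rel (C := C) hZ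
  have hω1 : ω ≠ 1 := by
    rintro rfl
    apply omega_ne_one hC hZ hz La Lb
    rw [hrel.ab, sc_one, one_mul]
  have hω3 := hZ ω hωP
  have hω3' : (ω : F) ^ 3 = 1 := by rw [← Units.val_pow_eq_pow_val, hω3, Units.val_one]
  have hω1' : (ω : F) ≠ 1 := fun h => hω1 (Units.ext h)
  have hω := omega_sum hω3' hω1'
  have h3 := three_ne hω3' hω1'
  obtain ⟨ga, gb, kk2, g4', ka, sk, v4, r6⟩ := rel_mat hrel
  have h : Sys (Λ (a : MI)) (Λ (b : MI)) (ω : F) := by
    refine ⟨?_, ?_, ?_, hω, h3⟩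
    · have h1 : a * (a * a) = 1 := by rw [← sq, ← pow_succ', hrel.a3]
      have h2 : (a : MI) * (a * a) = 1 := congrArg (fun g : GL ι F => (g : MI)) h1
      rw [← map_mul, ← map_mul, h2, map_one]
    · have h1 : b * (b * b) = 1 := by rw [← sq, ← pow_succ', hrel.b3]
      have h2 : (b : MI) * (b * b) = 1 := congrArg (fun g : GL ι F => (g : MI)) h1
      rw [← map_mul, ← map_mul, h2, map_one]
    · have h2 : (a : MI) * b = (ω : F) • ((b : MI) * a) := by
        have h3 := congrArg (fun g : GL ι F => (g : MI)) hrel.ab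
        simp only [Units.val_mul, coe_sc, smul_mul_assoc, one_mul] at h3
        exact h3
      rw [← map_mul, h2, map_smul, map_mul]
  have hmul : ∀ X Y : MI, rho h (Λ (X * Y)) = rho h (Λ X) * rho h (Λ Y) := fun X Y => by rw [map_mul, rho_mul]
  have hone : rho h (Λ (1 : MI)) = 1 := by rw [map_one, rho_one]
  have hpow : ∀ (X : MI) (n : ℕ), rho h (Λ (X ^ n)) = rho h (Λ X) ^ n := fun X n => by rw [map_pow, rho_pow]
  obtain ⟨k', hk'⟩ : ∃ k', k' = rho h (Λ (k : MI)) := ⟨_, rfl⟩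
  obtain ⟨g', hg'⟩ : ∃ g', g' = rho h (Λ (g : MI)) := ⟨_, rfl⟩
  have hA : rho h (Λ (a : MI)) = a3 (ω : F) := rho_A h
  have hB : rho h (Λ (b : MI)) = b3 := rho_B h
  have ga' : g' * a3 (ω : F) = b3 * g' := by simp only [hg', ← hA, ← hB, ← hmul, ← hmul, ga]
  have gb' : a3 (ω : F) * (g' * b3) = g' := by simp only [hg', ← hA, ← hB, ← hmul, ← hmul, gb]
  have kk2' : k' * k' = 1 := by rw [hk', ← hmul, kk2, hone]
  have g4'' : (g' * g') * (g' * g') = 1 := by rw [hg', ← hmul, ← hmul, g4', hone]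
  have ka' : k' * a3 (ω : F) = a3 (ω : F) * k' := by rw [hk', ← hA, ← hmul, ← hmul, ka]
  have sk' : (g' * g') * k' = k' * (g' * g') := by rw [hg', hk', ← hmul, ← hmul, ← hmul, sk]
  have v4' : k' * b3 * k' * b3 = b3 * (b3 * k') := by
    simp only [hk', ← hB, ← hmul, ← hmul, ← hmul, ← hmul, ← hmul, v4]
  have r6' : (k' * (g' * k' * (g' * (g' * g')))) ^ 3 = g' * g' := by
    simp only [hk', hg', ← hmul, ← hmul, ← hmul, ← hmul, ← hmul, ← hpow, r6]
  obtain ⟨x, d₀, d₁, d₂, t, hk, hg, ht, hgg, htt, ht0, ht2, ht1, h00, h11, h22, h21, h02, h10⟩ :=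
    stage_one hω h3 ka' ga' gb' kk2' g4'' sk' v4'
  refine ⟨Blk.W (Λ (a : MI)), (ω : F), x, d₀, d₁, d₂, t, ?_, ?_⟩
  swap
  · rw [← finrank_eq h, Module.finrank_fintype_fun_eq_card]
  obtain ⟨a00, a01, a02, a10, a11, a12, a20, a21, a22⟩ := gm_entries hω x
  obtain ⟨k00, k01, k02, k10, k11, k12, k20, k21, k22⟩ := dg_entries d₀ d₁ d₂
  refine ⟨hω, h3, ht, htt, ht0, ht2, ht1, h00, h11, h22, h21, h02, h10, ?_, ?_, ?_, ?_⟩
  · rw [hk, hg] at r6'
    exact r6'
  · -- irreducibility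
    intro U hx h0 h1 h2
    have hU : ∀ y ∈ P, ∀ v ∈ up h U, Λ (y : MI) v ∈ up h U := by
      let Y : Subgroup (GL ι F) :=
        { carrier := {y | (∀ v ∈ up h U, Λ (y : MI) v ∈ up h U) ∧ ∀ v ∈ up h U, Λ ((y⁻¹ : GL ι F) : MI) v ∈ up h U}
          mul_mem' := fun {y z} hy hz => by
            refine ⟨fun v hv => ?_, fun v hv => ?_⟩
            · rw [Units.val_mul, map_mul]
              exact hy.1 _ (hz.1 _ hv)
            · rw [_root_.mul_inv_rev, Units.val_mul, map_mul]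
              exact hz.2 _ (hy.2 _ hv)
          one_mem' := by
            refine ⟨fun v hv => ?_, fun v hv => ?_⟩
            · rw [Units.val_one, map_one]; exact hv
            · rw [inv_one, Units.val_one, map_one]; exact hv
          inv_mem' := fun {y} hy => by
            refine ⟨hy.2, ?_⟩
            rw [inv_inv]; exact hy.1 }
      have hY : ∀ y : GL ι F, y ∈ Y ↔ (∀ v ∈ up h U, Λ (y : MI) v ∈ up h U) ∧
        ∀ v ∈ up h U, Λ ((y⁻¹ : GL ι F) : MI) v ∈ up h U := fun _ => Iff.rfl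
      have mk : ∀ (y : GL ι F) (n : ℕ), y ^ (n + 1) = 1 → (∀ v ∈ up h U, Λ (y : MI) v ∈ up h U) → y ∈ Y := by
        intro y n hn hy
        refine ⟨hy, ?_⟩
        rw [val_inv_eq hn, Units.val_pow_eq_pow_val, map_pow]
        clear hn
        induction n with
        | zero => intro v hv; exact hv
        | succ n ih =>
          intro v hv
          rw [pow_succ']
          exact hy _ (ih v hv)
      have hPY : P ≤ Y := by
        refine le_of_gens C gen7 ?_ ?_
        · intro s hs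
          simp only [Set.mem_insert_iff, Set.mem_singleton_iff] at hs
          rcases hs with rfl | rfl | rfl | rfl
          · refine ⟨a, mk a 2 hrel.a3 fun v hv => up_invt h ?_ hv, La⟩
            rw [hA]
            intro i j u hu
            rw [H915.A7Old.a3_apply]
            split_ifs
            · exact U.smul_mem _ hu
            · exact zero_mem U
          · refine ⟨b, mk b 2 hrel.b3 fun v hv => up_invt h ?_ hv, Lb⟩
            rw [hB]
            intro i j u hu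
            rw [H915.A7Old.b3_apply]
            split_ifs
            · exact hu
            · exact zero_mem U
          · refine ⟨k, mk k 1 hrel.k2 fun v hv => up_invt h ?_ hv, Lk⟩
            rw [← hk', hk]
            intro i j u hu
            rcases fin3 i with rfl | rfl | rfl <;> rcases fin3 j with rfl | rfl | rfl <;>
              simp only [k00, k01, k02, k10, k11, k12, k20, k21, k22]
            all_goals first
              | exact zero_mem U
              | exact h0 u hu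
              | exact h1 u hu
              | exact h2 u hu
          · refine ⟨g, mk g 3 hrel.g4 fun v hv => up_invt h ?_ hv, Lg⟩
            rw [← hg', hg]
            intro i j u hu
            exact U.smul_mem _ (hx u hu)
        · intro c _
          refine (hY _).2 ⟨fun v hv => ?_, fun v hv => ?_⟩
          · rw [coe_sc, map_smul, map_one]
            exact (up h U).smul_mem _ hv
          · rw [← sc_inv, coe_sc, map_smul, map_one]
            exact (up h U).smul_mem _ hv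
      intro y hy
      exact (hPY hy).1
    have h4 := hC.absIrred.1 (up h U) (by
      rintro _ ⟨y, hy, rfl⟩
      rintro _ ⟨v, hv, rfl⟩
      exact hU y hy v hv)
    rcases h4 with h4 | h4
    · exact Or.inl (up_eq_bot h h4)
    · exact Or.inr (up_eq_top h h4)
  · -- commutant
    intro Z hx h0 h1 h2
    let Zh : Module.End F (ι → F) := ∑ i, (_root_.Cfsg.Agent.H637.Blk.em (Λ (b : MI)) (Λ (a : MI)) i) ∘ₗ Z ∘ₗ (pj h i)
    have hZh : rho h Zh = dg Z Z Z := by
      ext i j w : 3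
      rw [rho_apply]
      simp only [Zh, LinearMap.sum_apply, map_sum, LinearMap.comp_apply, pj_em]
      rw [Finset.sum_eq_single i]
      · rw [if_pos rfl]
        simp only [dg, Matrix.of_apply]
        by_cases hij : i = j
        · rw [if_pos hij, if_pos hij]
          split_ifs <;> rfl
        · simp only [if_neg hij, if_neg hij, map_zero]
          rfl
      · intro l _ hl
        rw [if_neg (Ne.symm hl)]
      · intro hi
        exact absurd (Finset.mem_univ i) hi
    obtain ⟨X, hX⟩ : ∃ X : MI, Λ X = Zh := (Λ).surjective Zh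
    obtain ⟨X00, X01, X02, X10, X11, X12, X20, X21, X22⟩ := dg_entries Z Z Z
    have key : ∀ y : GL ι F, dg Z Z Z * rho h (Λ (y : MI)) = rho h (Λ (y : MI)) * dg Z Z Z → X * (y : MI) = (y : MI) * X := by
      intro y hy
      apply (Λ).injective
      apply rho_injective h
      simp only [map_mul, map_mul, rho_mul, rho_mul, hX, hZh]
      exact hy
    let Y : Subgroup (GL ι F) :=
      { carrier := {x | X * (x : MI) = (x : MI) * X}
        mul_mem' := fun {x y} hx hy => by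
          change X * ((x * y : GL ι F) : MI) = ((x * y : GL ι F) : MI) * X
          rw [Units.val_mul, ← mul_assoc, show X * (x : MI) = (x : MI) * X from hx, mul_assoc,
            show X * (y : MI) = (y : MI) * X from hy, mul_assoc]
        one_mem' := by
          change X * ((1 : GL ι F) : MI) = ((1 : GL ι F) : MI) * X
          rw [Units.val_one, mul_one, one_mul]
        inv_mem' := fun {x} hx => by
          change X * ((x⁻¹ : GL ι F) : MI) = ((x⁻¹ : GL ι F) : MI) * X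
          have h1 : ((x⁻¹ : GL ι F) : MI) * (X * (x : MI)) * ((x⁻¹ : GL ι F) : MI) =
            ((x⁻¹ : GL ι F) : MI) * ((x : MI) * X) * ((x⁻¹ : GL ι F) : MI) := by
              rw [show X * (x : MI) = (x : MI) * X from hx]
          have h2 : (x : MI) * ((x⁻¹ : GL ι F) : MI) = 1 := by rw [← Units.val_mul, mul_inv_cancel, Units.val_one]
          have h4 : ((x⁻¹ : GL ι F) : MI) * (x : MI) = 1 := by rw [← Units.val_mul, inv_mul_cancel, Units.val_one]
          rw [mul_assoc, mul_assoc, h2, mul_one, ← mul_assoc (((x⁻¹ : GL ι F) : MI)) (x : MI), h4, one_mul] at h1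
          exact h1.symm }
    have hPY : P ≤ Y := by
      refine le_of_gens C gen7 ?_ ?_
      · intro s hs
        simp only [Set.mem_insert_iff, Set.mem_singleton_iff] at hs
        rcases hs with rfl | rfl | rfl | rfl
        · refine ⟨a, key a ?_, La⟩
          rw [hA]
          apply Matrix.ext
          intro i j
          rw [H915.A7Old.mul_a3, H915.A7Old.a3_mul]
          simp only [dg, Matrix.of_apply]
          by_cases hij : i = j
          · rw [if_pos hij, hij]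
          · simp only [if_neg hij, smul_zero, smul_zero]
        · refine ⟨b, key b ?_, Lb⟩
          rw [hB]
          apply Matrix.ext
          intro i j
          rw [H915.A7Old.mul_b3]
          rcases fin3 i with rfl | rfl | rfl
          · rw [show (0 : Fin 3) = 2 + 1 from rfl, H915.A7Old.b3_mul]
            rcases fin3 j with rfl | rfl | rfl <;> rfl
          · rw [show (1 : Fin 3) = 0 + 1 from rfl, H915.A7Old.b3_mul]
            rcases fin3 j with rfl | rfl | rfl <;> rfl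
          · rw [show (2 : Fin 3) = 1 + 1 from rfl, H915.A7Old.b3_mul]
            rcases fin3 j with rfl | rfl | rfl <;> rfl
        · refine ⟨k, key k ?_, Lk⟩
          rw [← hk', hk]
          apply ext3 <;> simp only [Matrix.mul_apply, Fin.sum_univ_three, k00, k01, k02, k10, k11, k12, k20, k21, k22, X00, X01, X02, X10, X11, X12, X20,
            X21, X22, h0, h1, h2, mul_zero, zero_mul, add_zero, zero_add]
        · refine ⟨g, key g ?_, Lg⟩
          rw [← hg', hg]
          apply ext3 <;> simp only [Matrix.mul_apply, Fin.sum_univ_three, a00, a01, a02, a10, a11, a12, a20, a21, a22, X00, X01, X02, X10, X11, X12, X20,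
            X21, X22, hx, mul_zero, zero_mul, add_zero, zero_add, mul_smul_comm, smul_mul_assoc, smul_zero]
      · intro c _
        change X * ((sc c : GL ι F) : MI) = ((sc c : GL ι F) : MI) * X
        rw [coe_sc, mul_smul_comm, smul_mul_assoc, mul_one, one_mul]
    obtain ⟨c, hc⟩ := hC.absIrred.2 X (by
      rintro _ ⟨x, hx, rfl⟩
      exact hPY hx)
    refine ⟨c, ?_⟩
    have h5 : dg Z Z Z = (c • 1 : Matrix (Fin 3) (Fin 3) (Module.End F (Blk.W (Λ (a : MI))))) := by
      simp only [← hZh, ← hX, hc, map_smul, map_one, rho_smul, rho_one]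
    have h6 := congrFun (congrFun h5 0) 0
    rw [X00, Matrix.smul_apply, Matrix.one_apply_eq] at h6
    exact h6
  · -- traces
    obtain ⟨γ, hγ⟩ := g4_kk
    obtain ⟨y, hy⟩ := C.exists_lift γ
    have h1 := two_conj hZ Lk (Lg.pow 2) hrel.k2 (by rw [← pow_mul]; exact hrel.g4) hy hγ
    have h2 : tr (g ^ 2) = tr k := by
      rw [← h1]
      unfold tr
      rw [Units.val_mul, Units.val_mul, Matrix.trace_mul_cycle, ← Units.val_mul, inv_mul_cancel, Units.val_one, one_mul]
    have htrΛ : ∀ X : MI, LinearMap.trace F (ι → F) (Λ X) = X.trace := fun X => by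
      exact Matrix.trace_toLin'_eq X
    have h3' := (htrΛ ((g : MI) * g)).symm.trans (trace_eq h (Λ ((g : MI) * g)))
    have h4 := (htrΛ (k : MI)).symm.trans (trace_eq h (Λ (k : MI)))
    simp only [← hk', hk, Fin.sum_univ_three, k00, k11, k22] at h4
    simp only [hmul, ← hg', hgg, Fin.sum_univ_three] at h3'
    obtain ⟨r00, r01, r02, r10, r11, r12, r20, r21, r22⟩ := rm_entries t
    simp only [r00, r11, r22, map_zero, add_zero, add_zero] at h3'
    simp only [← h3', ← h4]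
    have h5 : tr (g ^ 2) = ((g : MI) * g).trace := by
      unfold tr
      rw [sq, Units.val_mul]
    rw [← h5, h2]
    rfl

end ex

end Cfsg.Agent.H637.Three
end

-- part: H637/A7Nine
section
/-!
# `3.A₇` in dimension nine (helper637)
-/

set_option autoImplicit false
set_option linter.unusedSectionVars false
set_option linter.unusedSimpArgs false

namespace Cfsg.Agent.H637.Three

open Matrix
open Cfsg.Agent.H915.A7Old (a3 b3 dg gm rm fin3 ext3 omega_cube omega_ne mul3 gm_mul_gm gm_entries dg_entries rm_entries)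

section gen

variable {F : Type*} [Field F] {R : Type*} [Ring R] [Algebra F R] {ω : F}

/-- circulant -/
def ci (y₀ y₁ y₂ : R) : Matrix (Fin 3) (Fin 3) R := !![y₀, y₂, y₁; y₁, y₀, y₂; y₂, y₁, y₀]

theorem ci_entries (y₀ y₁ y₂ : R) : ci y₀ y₁ y₂ 0 0 = y₀ ∧ ci y₀ y₁ y₂ 0 1 = y₂ ∧ ci y₀ y₁ y₂ 0 2 = y₁ ∧
    ci y₀ y₁ y₂ 1 0 = y₁ ∧ ci y₀ y₁ y₂ 1 1 = y₀ ∧ ci y₀ y₁ y₂ 1 2 = y₂ ∧ ci y₀ y₁ y₂ 2 0 = y₂ ∧ ci y₀ y₁ y₂ 2 1 = y₁ ∧
    ci y₀ y₁ y₂ 2 2 = y₀ := ⟨rfl, rfl, rfl, rfl, rfl, rfl, rfl, rfl, rfl⟩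

theorem K_eq3 (hω : ω ^ 2 + ω + 1 = 0) (x d₀ d₁ d₂ t : R) :
    gm ω x * dg d₀ d₁ d₂ * (gm ω x * rm t) = ci (x * (d₀ + d₁ + d₂) * (x * t))
      (x * (d₀ + ω ^ 2 • d₁ + ω • d₂) * (x * t)) (x * (d₀ + ω • d₁ + ω ^ 2 • d₂) * (x * t)) := by
  obtain ⟨a00, a01, a02, a10, a11, a12, a20, a21, a22⟩ := gm_entries hω x
  obtain ⟨r00, r01, r02, r10, r11, r12, r20, r21, r22⟩ := rm_entries t
  obtain ⟨k00, k01, k02, k10, k11, k12, k20, k21, k22⟩ := dg_entries d₀ d₁ d₂
  obtain ⟨p00, p01, p02, p10, p11, p12, p20, p21, p22⟩ := ci_entries (x * (d₀ + d₁ + d₂) * (x * t))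
      (x * (d₀ + ω ^ 2 • d₁ + ω • d₂) * (x * t)) (x * (d₀ + ω • d₁ + ω ^ 2 • d₂) * (x * t))
  have e1 : ω ^ 2 * ω ^ 2 = ω := by linear_combination (ω ^ 2 - ω) * hω
  have e2 : ω * ω ^ 2 = 1 := by linear_combination (ω - 1) * hω
  have e3 : ω ^ 2 * ω = 1 := by linear_combination (ω - 1) * hω
  have e4 : ω * ω = ω ^ 2 := by ring
  apply ext3 <;> simp only [mul3, p00, p01, p02, p10, p11, p12, p20, p21, p22] <;>
    simp only [a00, a01, a02, a10, a11, a12, a20, a21, a22, r00, r01, r02, r10, r11, r12, r20, r21, r22,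
      k00, k01, k02, k10, k11, k12, k20, k21, k22, mul_zero, zero_mul, add_zero, zero_add, mul_add, add_mul,
      smul_mul_assoc, mul_smul_comm, smul_smul, smul_zero, e1, e2, e3, e4, one_smul, mul_assoc]

/-- the relation of order six, in blocks -/
theorem r6_block (hω : ω ^ 2 + ω + 1 = 0) {x d₀ d₁ d₂ t : R} (ht : t = (3 : F) • (x * x)) (tt : t * t = 1)
    (h00 : d₀ * d₀ = 1) (h11 : d₁ * d₁ = 1) (h22 : d₂ * d₂ = 1)
    (r6 : (dg d₀ d₁ d₂ * (gm ω x * dg d₀ d₁ d₂ * (gm ω x * (gm ω x * gm ω x)))) ^ 3 = gm ω x * gm ω x) :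
    ∃ y₀ y₁ y₂ : R, y₀ = x * (d₀ + d₁ + d₂) * (x * t) ∧ y₁ = x * (d₀ + ω ^ 2 • d₁ + ω • d₂) * (x * t) ∧
      y₂ = x * (d₀ + ω • d₁ + ω ^ 2 • d₂) * (x * t) ∧
      dg d₀ d₁ d₂ * ci y₀ y₁ y₂ * dg d₀ d₁ d₂ = rm t * (ci y₀ y₁ y₂ * dg d₀ d₁ d₂ * ci y₀ y₁ y₂) := by
  refine ⟨_, _, _, rfl, rfl, rfl, ?_⟩
  have hs : gm ω x * gm ω x = rm t := by rw [gm_mul_gm hω, ht]
  rw [← K_eq3 hω, ← hs]
  have hkk : dg d₀ d₁ d₂ * dg d₀ d₁ d₂ = (1 : Matrix (Fin 3) (Fin 3) R) := by
    obtain ⟨k00, k01, k02, k10, k11, k12, k20, k21, k22⟩ := dg_entries d₀ d₁ d₂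
    apply ext3 <;> simp only [mul3, k00, k01, k02, k10, k11, k12, k20, k21, k22, h00, h11, h22] <;> simp
  have hss : (gm ω x * gm ω x) * (gm ω x * gm ω x) = (1 : Matrix (Fin 3) (Fin 3) R) := by
    rw [hs]
    obtain ⟨r00, r01, r02, r10, r11, r12, r20, r21, r22⟩ := rm_entries t
    apply ext3 <;> simp only [mul3, r00, r01, r02, r10, r11, r12, r20, r21, r22, tt] <;> simp
  generalize dg d₀ d₁ d₂ = k at *
  generalize gm ω x = g at *
  have hKK : (g * k * (g * (g * g))) * (g * k * (g * (g * g))) = 1 := by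
    calc _ = g * k * ((g * g) * (g * g)) * k * (g * (g * g)) := by noncomm_ring
      _ = g * (k * k) * (g * (g * g)) := by rw [hss]; noncomm_ring
      _ = (g * g) * (g * g) := by rw [hkk]; noncomm_ring
      _ = 1 := hss
  generalize g * k * (g * (g * g)) = K at *
  have h1 : (K * k * K) * (K * k * K) = 1 := by
    calc _ = K * k * (K * K) * k * K := by noncomm_ring
      _ = K * (k * k) * K := by rw [hKK]; noncomm_ring
      _ = K * K := by rw [hkk]; noncomm_ring
      _ = 1 := hKK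
  calc k * K * k = k * K * k * ((K * k * K) * (K * k * K)) := by rw [h1, mul_one]
    _ = (k * K) ^ 3 * (K * k * K) := by
      rw [pow_succ, pow_two]; noncomm_ring
    _ = (g * g) * (K * k * K) := by rw [r6]

/-- two blocks of the relation of order six -/
theorem r6_entries (hω : ω ^ 2 + ω + 1 = 0) {x d₀ d₁ d₂ t : R} (ht : t = (3 : F) • (x * x)) (tt : t * t = 1)
    (h00 : d₀ * d₀ = 1) (h11 : d₁ * d₁ = 1) (h22 : d₂ * d₂ = 1)
    (r6 : (dg d₀ d₁ d₂ * (gm ω x * dg d₀ d₁ d₂ * (gm ω x * (gm ω x * gm ω x)))) ^ 3 = gm ω x * gm ω x) :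
    ∃ y₀ y₁ y₂ : R, y₀ = x * (d₀ + d₁ + d₂) * (x * t) ∧ y₁ = x * (d₀ + ω ^ 2 • d₁ + ω • d₂) * (x * t) ∧
      y₂ = x * (d₀ + ω • d₁ + ω ^ 2 • d₂) * (x * t) ∧
      d₀ * y₂ * d₁ = t * (y₀ * d₀ * y₂ + y₂ * d₁ * y₀ + y₁ * d₂ * y₁) ∧
      d₁ * y₁ * d₀ = t * (y₂ * d₀ * y₀ + y₁ * d₁ * y₁ + y₀ * d₂ * y₂) := by
  obtain ⟨y₀, y₁, y₂, h0, h1, h2, h⟩ := r6_block hω ht tt h00 h11 h22 r6
  refine ⟨y₀, y₁, y₂, h0, h1, h2, ?_, ?_⟩
  · have e := congrFun (congrFun h 0) 1
    obtain ⟨r00, r01, r02, r10, r11, r12, r20, r21, r22⟩ := rm_entries t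
    obtain ⟨k00, k01, k02, k10, k11, k12, k20, k21, k22⟩ := dg_entries d₀ d₁ d₂
    obtain ⟨p00, p01, p02, p10, p11, p12, p20, p21, p22⟩ := ci_entries y₀ y₁ y₂
    simp only [mul3, p00, p01, p02, p10, p11, p12, p20, p21, p22, r00, r01, r02, r10, r11, r12, r20, r21, r22,
      k00, k01, k02, k10, k11, k12, k20, k21, k22, mul_zero, zero_mul, add_zero, zero_add] at e
    exact e
  · have e := congrFun (congrFun h 1) 0
    obtain ⟨r00, r01, r02, r10, r11, r12, r20, r21, r22⟩ := rm_entries t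
    obtain ⟨k00, k01, k02, k10, k11, k12, k20, k21, k22⟩ := dg_entries d₀ d₁ d₂
    obtain ⟨p00, p01, p02, p10, p11, p12, p20, p21, p22⟩ := ci_entries y₀ y₁ y₂
    simp only [mul3, p00, p01, p02, p10, p11, p12, p20, p21, p22, r00, r01, r02, r10, r11, r12, r20, r21, r22,
      k00, k01, k02, k10, k11, k12, k20, k21, k22, mul_zero, zero_mul, add_zero, zero_add] at e
    exact e

end gen

section dat

variable {F W : Type*} [Field F] [AddCommGroup W] [Module F W] {ω : F} {x d₀ d₁ d₂ t : Module.End F W}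

theorem mul_ap {A B C : Module.End F W} (h : A * B = C) (w : W) : A (B w) = C w := by rw [← h]; rfl

namespace Dat

variable (D : Dat ω x d₀ d₁ d₂ t)
include D

theorem xt : t * x = x * t := by
  rw [D.ht, smul_mul_assoc, mul_smul_comm, mul_assoc]

theorem h01 : d₀ * d₁ = d₂ := by rw [← D.h21, mul_assoc, D.h11, mul_one]

theorem h12 : d₁ * d₂ = d₀ := by rw [← D.h10, ← mul_assoc, D.h11, one_mul]

/-- `d₀ ≠ 1` in dimension at least three -/
theorem ne_one [FiniteDimensional F W] (hW : 2 < Module.finrank F W) : d₀ ≠ 1 := by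
  intro h0
  have e21 : d₂ = d₁ := by rw [← D.h02, h0, one_mul]
  obtain ⟨c, hc⟩ := D.comm t D.xt D.t0 (by rw [D.t1, e21]) (by rw [D.t2, e21])
  have hxx : ∀ w, x (x w) = ((3 : F)⁻¹ * c) • w := by
    intro w
    have h1 : (3 : F) • x (x w) = c • w := by
      have h2 := congrArg (fun T : Module.End F W => T w) (D.ht.symm.trans hc)
      exact h2
    rw [← smul_smul, ← h1, smul_smul, inv_mul_cancel₀ D.h3, one_smul]
  have hdd : ∀ w, d₁ (d₁ w) = w := fun w => mul_ap D.h11 w
  have hmx : (x * d₁ + d₁ * x) * x = x * (x * d₁ + d₁ * x) := by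
    apply LinearMap.ext
    intro w
    show x (d₁ (x w)) + d₁ (x (x w)) = x (x (d₁ w) + d₁ (x w))
    rw [map_add, hxx, hxx, map_smul]
    abel
  have hmd : (x * d₁ + d₁ * x) * d₁ = d₁ * (x * d₁ + d₁ * x) := by
    apply LinearMap.ext
    intro w
    show x (d₁ (d₁ w)) + d₁ (x (d₁ w)) = d₁ (x (d₁ w) + d₁ (x w))
    rw [map_add, hdd, hdd]
    abel
  obtain ⟨κ, hκ⟩ := D.comm (x * d₁ + d₁ * x) hmx (by rw [h0, mul_one, one_mul]) hmd (by rw [e21]; exact hmd)
  have hκ' : ∀ w, d₁ (x w) = κ • w - x (d₁ w) := by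
    intro w
    have h2 : x (d₁ w) + d₁ (x w) = κ • w := congrArg (fun T : Module.End F W => T w) hκ
    rw [← h2]
    abel
  have : Nontrivial W := Module.nontrivial_of_finrank_pos (R := F) (by omega)
  obtain ⟨v, hv, ε, hε⟩ : ∃ v : W, v ≠ 0 ∧ ∃ ε : F, d₁ v = ε • v := by
    by_cases h1 : ∃ u, d₁ u + u ≠ 0
    · obtain ⟨u, hu⟩ := h1
      refine ⟨d₁ u + u, hu, 1, ?_⟩
      rw [map_add, hdd, one_smul, add_comm]
    · push Not at h1
      obtain ⟨v, hv⟩ := exists_ne (0 : W)
      refine ⟨v, hv, -1, ?_⟩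
      rw [neg_one_smul]
      exact eq_neg_of_add_eq_zero_left (h1 v)
  let U : Submodule F W := Submodule.span F (Set.range ![v, x v])
  have hvU : v ∈ U := Submodule.subset_span ⟨0, rfl⟩
  have hxU : x v ∈ U := Submodule.subset_span ⟨1, rfl⟩
  have hgen : ∀ T : Module.End F W, T v ∈ U → T (x v) ∈ U → ∀ u ∈ U, T u ∈ U := by
    intro T h1 h2 u hu
    have : U ≤ U.comap T := by
      apply Submodule.span_le.2
      rintro _ ⟨i, rfl⟩
      fin_cases i
      · exact h1
      · exact h2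
    exact this hu
  have hx := hgen x hxU (by rw [hxx]; exact U.smul_mem _ hvU)
  have hd : ∀ u ∈ U, d₁ u ∈ U := hgen d₁ (by rw [hε]; exact U.smul_mem _ hvU) (by
    rw [hκ', hε, map_smul]
    exact sub_mem (U.smul_mem _ hvU) (U.smul_mem _ hxU))
  rcases D.irr U hx (by rw [h0]; exact fun u hu => hu) hd (by rw [e21]; exact hd) with h1 | h1
  · rw [h1, Submodule.mem_bot] at hvU
    exact hv hvU
  · have h2 : Module.finrank F U ≤ 2 := by
      have := finrank_range_le_card (R := F) (![v, x v])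
      rw [Fintype.card_fin] at this
      exact this
    rw [h1, finrank_top] at h2
    omega

end Dat

/-- an endomorphism with square zero of a three-dimensional space -/
theorem rank_one [FiniteDimensional F W] (hW : Module.finrank F W = 3) {N : Module.End F W} (h : N * N = 0)
    (h0 : N ≠ 0) : ∃ e : W, e ≠ 0 ∧ (∃ w, N w = e) ∧ ∃ φ : W →ₗ[F] F, ∀ w, N w = φ w • e := by
  obtain ⟨w₀, hw₀⟩ : ∃ w, N w ≠ 0 := by
    by_contra hcon
    push Not at hcon
    exact h0 (LinearMap.ext hcon)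
  have h1 := LinearMap.finrank_range_add_finrank_ker N
  have h2 : LinearMap.range N ≤ LinearMap.ker N := by
    rintro _ ⟨w, rfl⟩
    rw [LinearMap.mem_ker]
    exact mul_ap h w
  have h3 := Submodule.finrank_mono h2
  have h4 : Module.finrank F (LinearMap.range N) ≤ 1 := by omega
  have h5 : Module.finrank F (LinearMap.range N) = 1 := by
    apply le_antisymm h4
    apply Nat.one_le_iff_ne_zero.2
    intro h6
    have h7 := Submodule.finrank_eq_zero.1 h6
    apply hw₀
    have h8 : N w₀ ∈ LinearMap.range N := ⟨w₀, rfl⟩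
    rw [h7, Submodule.mem_bot] at h8
    exact h8
  obtain ⟨f, hf⟩ : ∃ f : W →ₗ[F] F, f (N w₀) = 1 := by
    by_contra hcon
    push Not at hcon
    apply hw₀
    rw [← Module.forall_dual_apply_eq_zero_iff F]
    intro g
    by_contra hg
    apply hcon ((g (N w₀))⁻¹ • g)
    rw [LinearMap.smul_apply, smul_eq_mul, inv_mul_cancel₀ hg]
  refine ⟨N w₀, hw₀, ⟨w₀, rfl⟩, f ∘ₗ N, fun w => ?_⟩
  have h6 : (⟨N w₀, w₀, rfl⟩ : LinearMap.range N) ≠ 0 := fun h => hw₀ (congrArg Subtype.val h)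
  obtain ⟨c, hc⟩ := (finrank_eq_one_iff_of_nonzero' _ h6).1 h5 ⟨N w, w, rfl⟩
  have h7 : c • N w₀ = N w := congrArg Subtype.val hc
  rw [LinearMap.comp_apply, ← h7, map_smul, hf, smul_eq_mul, mul_one]

/-- characteristic two is impossible in dimension three -/
theorem Dat.not_two [FiniteDimensional F W] (D : Dat ω x d₀ d₁ d₂ t) (hW : Module.finrank F W = 3)
    (h2 : (2 : F) = 0) : False := by
  have h0 := D.ne_one (by omega)
  have add_self : ∀ w : W, w + w = 0 := fun w => by rw [← two_smul F w, h2, zero_smul]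
  have eq_of_add : ∀ u v : W, u + v = 0 → u = v := fun u v h => by
    have h1 : u = u + (v + v) := by rw [add_self, add_zero]
    rw [h1, ← add_assoc, h, zero_add]
  have sq0 : ∀ T : Module.End F W, T * T = 1 → (T + 1) * (T + 1) = 0 := by
    intro T hT
    apply LinearMap.ext
    intro w
    show T (T w + w) + (T w + w) = 0
    rw [map_add, mul_ap hT]
    show w + T w + (T w + w) = 0
    have : w + T w + (T w + w) = (w + w) + (T w + T w) := by abel
    rw [this, add_self, add_self, add_zero]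
  have ne0 : ∀ T : Module.End F W, T ≠ 1 → T + 1 ≠ 0 := by
    intro T hT h
    apply hT
    apply LinearMap.ext
    intro w
    exact eq_of_add _ _ (congrArg (fun T : Module.End F W => T w) h)
  have ht1 : t ≠ 1 := by
    intro ht
    apply h0
    have e : d₂ = d₁ := by
      have := D.t2
      rwa [ht, one_mul, mul_one] at this
    rw [← D.h21, e, D.h11]
  have hd1 : d₁ ≠ 1 := by
    intro hd
    apply h0
    have e : d₂ = 1 := by
      have h3 : t * d₂ = t * 1 := by rw [D.t2, hd, one_mul, mul_one]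
      calc d₂ = t * (t * d₂) := by rw [← mul_assoc, D.tt, one_mul]
        _ = 1 := by rw [h3, mul_one, D.tt]
    rw [← D.h21, e, hd, one_mul]
  obtain ⟨e, he, ⟨e', he'⟩, ψ, hψ⟩ := rank_one hW (sq0 t D.tt) (ne0 t ht1)
  obtain ⟨v, hv, -, φ, hφ⟩ := rank_one hW (sq0 d₁ D.h11) (ne0 d₁ hd1)
  have ht : ∀ w, t w = w + ψ w • e := by
    intro w
    have h3 : t w + w = ψ w • e := hψ w
    rw [← h3, add_comm (t w), ← add_assoc, add_self, zero_add]
  have hd : ∀ w, d₁ w = w + φ w • v := by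
    intro w
    have h3 : d₁ w + w = φ w • v := hφ w
    rw [← h3, add_comm (d₁ w), ← add_assoc, add_self, zero_add]
  have hψe : ψ e = 0 := by
    have h3 : (t + 1) e = 0 := by rw [← he']; exact mul_ap (sq0 t D.tt) e'
    rw [hψ] at h3
    exact (smul_eq_zero.1 h3).resolve_right he
  have hte : t e = e := by rw [ht, hψe, zero_smul, add_zero]
  -- an operator commuting with `t` fixes the line and the plane
  have line : ∀ T : Module.End F W, t * T = T * t → ∀ u ∈ Submodule.span F {e}, T u ∈ Submodule.span F {e} := by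
    intro T hT u hu
    obtain ⟨c, rfl⟩ := Submodule.mem_span_singleton.1 hu
    rw [map_smul]
    apply Submodule.smul_mem
    have h3 : ψ (T e') • e = T e := by
      rw [← hψ, ← he']
      show t (T e') + T e' = T (t e' + e')
      rw [map_add]
      congr 1
      exact congrArg (fun T : Module.End F W => T e') hT
    rw [← h3]
    exact Submodule.smul_mem _ _ (Submodule.mem_span_singleton_self e)
  have plane : ∀ T : Module.End F W, t * T = T * t → ∀ u ∈ LinearMap.ker ψ, T u ∈ LinearMap.ker ψ := by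
    intro T hT u hu
    rw [LinearMap.mem_ker] at hu ⊢
    have h3 : ψ (T u) • e = T (ψ u • e) := by
      rw [← hψ, ← hψ]
      show t (T u) + T u = T (t u + u)
      rw [map_add]
      congr 1
      exact congrArg (fun T : Module.End F W => T u) hT
    rw [hu, zero_smul, map_zero] at h3
    exact (smul_eq_zero.1 h3).resolve_right he
  have hφe : φ e ≠ 0 := by
    intro h3
    have h4 : ∀ u ∈ Submodule.span F {e}, d₁ u ∈ Submodule.span F {e} := by
      intro u hu
      obtain ⟨c, rfl⟩ := Submodule.mem_span_singleton.1 hu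
      rw [map_smul, hd, h3, zero_smul, add_zero]
      exact hu
    have h5 : ∀ u ∈ Submodule.span F {e}, d₂ u ∈ Submodule.span F {e} := by
      intro u hu
      rw [← mul_ap D.h10]
      exact h4 _ (line d₀ D.t0 _ hu)
    rcases D.irr _ (line x D.xt) (line d₀ D.t0) h4 h5 with h6 | h6
    · exact he (Submodule.span_singleton_eq_bot.1 h6)
    · have h7 := finrank_span_singleton (K := F) he
      rw [h6, finrank_top] at h7
      omega
  have hψv : ψ v ≠ 0 := by
    intro h3
    have h4 : ∀ u ∈ LinearMap.ker ψ, d₁ u ∈ LinearMap.ker ψ := by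
      intro u hu
      rw [LinearMap.mem_ker] at hu ⊢
      rw [hd, map_add, map_smul, h3, hu, smul_zero, add_zero]
    have h5 : ∀ u ∈ LinearMap.ker ψ, d₂ u ∈ LinearMap.ker ψ := by
      intro u hu
      rw [← mul_ap D.h10]
      exact h4 _ (plane d₀ D.t0 _ hu)
    rcases D.irr _ (plane x D.xt) (plane d₀ D.t0) h4 h5 with h6 | h6
    · have h7 : e ∈ LinearMap.ker ψ := hψe
      rw [h6, Submodule.mem_bot] at h7
      exact he h7
    · have h7 : e' ∈ LinearMap.ker ψ := by rw [h6]; exact Submodule.mem_top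
      have h8 := hψ e'
      rw [he', LinearMap.mem_ker.1 h7, zero_smul] at h8
      exact he h8
  have hφv : φ v = 0 := by
    have h3 : (d₁ + 1) ((d₁ + 1) e) = 0 := mul_ap (sq0 d₁ D.h11) e
    rw [hφ e, map_smul, hφ v, smul_smul] at h3
    rcases smul_eq_zero.1 h3 with h4 | h4
    · exact (mul_eq_zero.1 h4).resolve_left hφe
    · exact absurd h4 hv
  have hφtv : φ (t v) ≠ 0 := by
    rw [ht, map_add, map_smul, hφv, zero_add, smul_eq_mul]
    exact mul_ne_zero hψv hφe
  -- `d₂ = t d₁ t`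
  have hd2 : ∀ w, d₂ w = w + φ (t w) • t v := by
    intro w
    have h3 : t (t (d₂ w)) = d₂ w := mul_ap D.tt _
    rw [← h3, mul_ap D.t2]
    show t (d₁ (t w)) = _
    rw [hd, map_add, map_smul, mul_ap D.tt]
    rfl
  have hcomm : d₁ (d₂ e) = d₂ (d₁ e) := by
    rw [mul_ap D.h12, mul_ap D.h21]
  rw [hd2 e, hd e, hte, map_add, map_add, map_smul, map_smul, hd e, hd2 e, hte, hd (t v), hd2 v] at hcomm
  have h3 : (φ e * φ (t v)) • v = (φ e * φ (t v)) • t v := by
    have h4 : e + φ e • v + φ e • (t v + φ (t v) • v) - (e + φ e • t v + φ e • (v + φ (t v) • t v)) =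
        (φ e * φ (t v)) • v - (φ e * φ (t v)) • t v := by module
    rw [hcomm, sub_self] at h4
    exact (sub_eq_zero.1 h4.symm)
  have h4 : v = t v := by
    have h5 : (φ e * φ (t v)) • (v - t v) = 0 := by rw [smul_sub, h3, sub_self]
    exact sub_eq_zero.1 ((smul_eq_zero.1 h5).resolve_left (mul_ne_zero hφe hφtv))
  rw [ht] at h4
  have h5 : ψ v • e = 0 := by
    have h6 : v + ψ v • e - v = ψ v • e := by abel
    rw [← h4, sub_self] at h6
    exact h6.symm
  rcases smul_eq_zero.1 h5 with h6 | h6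
  · exact hψv h6
  · exact he h6

/-- a nonzero vector `e` with `d₀ e = -e`, `d₁ e = e` -/
theorem Dat.exists_e1 [FiniteDimensional F W] (D : Dat ω x d₀ d₁ d₂ t) (hW : 2 < Module.finrank F W)
    (h2 : (2 : F) ≠ 0) : ∃ e : W, e ≠ 0 ∧ d₀ e = -e ∧ d₁ e = e ∧ d₂ e = -e := by
  by_contra hcon
  push Not at hcon
  apply D.ne_one hW
  have key : ∀ w, w + d₁ w = d₀ (w + d₁ w) := by
    intro w
    by_contra h
    have hu : (w + d₁ w) - d₀ (w + d₁ w) ≠ 0 := sub_ne_zero.2 h
    have h3 : d₀ ((w + d₁ w) - d₀ (w + d₁ w)) = -((w + d₁ w) - d₀ (w + d₁ w)) := by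
      rw [map_sub, mul_ap D.h00, Module.End.one_apply]
      abel
    have h4 : d₁ ((w + d₁ w) - d₀ (w + d₁ w)) = (w + d₁ w) - d₀ (w + d₁ w) := by
      rw [map_sub, mul_ap D.h10, map_add, map_add, map_add, mul_ap D.h11, mul_ap D.h21, mul_ap D.h01,
        Module.End.one_apply]
      abel
    refine hcon _ hu h3 h4 ?_
    rw [← mul_ap D.h10, h3, map_neg, h4]
  have key2 : ∀ w, w + d₂ w = d₀ (w + d₂ w) := by
    intro w
    have h3 := congrArg t (key (t w))
    rw [map_add, mul_ap D.tt, mul_ap D.t1] at h3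
    have h4 : t (d₀ (t w + d₁ (t w))) = d₀ (t (t w + d₁ (t w))) := congrArg (fun T : Module.End F W => T _) D.t0
    rw [h4, map_add t, mul_ap D.tt, mul_ap D.t1] at h3
    have h5 : ∀ u, (d₂ * t) (t u) = d₂ u := by
      intro u
      show d₂ (t (t u)) = _
      rw [mul_ap D.tt]; rfl
    rw [h5] at h3
    exact h3
  apply LinearMap.ext
  intro w
  have h3 := key w
  have h4 := key2 w
  rw [map_add, mul_ap D.h01] at h3
  rw [map_add, mul_ap D.h02] at h4
  have h5 : (2 : F) • (w - d₀ w) = 0 := by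
    have h6 : (2 : F) • (w - d₀ w) = ((w + d₁ w) - (d₀ w + d₂ w)) + ((w + d₂ w) - (d₀ w + d₁ w)) := by module
    rw [h6, h3, h4, sub_self, sub_self, add_zero]
  have h6 := (smul_eq_zero.1 h5).resolve_left h2
  exact (sub_eq_zero.1 h6).symm

/-- the normal form in odd characteristic -/
theorem Dat.exists_basis [FiniteDimensional F W] (D : Dat ω x d₀ d₁ d₂ t) (hW : Module.finrank F W = 3)
    (h2 : (2 : F) ≠ 0) : ∃ (b : Module.Basis (Fin 3) F W) (α γ ξ : F),
      d₀ (b 0) = b 0 ∧ d₀ (b 1) = -b 1 ∧ d₀ (b 2) = -b 2 ∧ d₁ (b 0) = b 0 ∧ d₁ (b 1) = b 2 ∧ d₁ (b 2) = b 1 ∧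
      d₂ (b 0) = b 0 ∧ d₂ (b 1) = -b 2 ∧ d₂ (b 2) = -b 1 ∧ t (b 0) = b 0 ∧ t (b 1) = b 1 ∧ t (b 2) = -b 2 ∧
      x (b 0) = α • b 0 + γ • b 1 ∧ x (b 1) = b 0 - α • b 1 ∧ x (b 2) = ξ • b 2 ∧ 3 * (γ + α ^ 2) = 1 ∧
      3 * ξ ^ 2 = -1 := by
  obtain ⟨e₁, he₁, h01, h11, h21⟩ := D.exists_e1 (by omega) h2
  obtain ⟨f, hf⟩ : ∃ f, f = e₁ + t e₁ := ⟨_, rfl⟩
  obtain ⟨h, hh⟩ : ∃ h, h = e₁ - t e₁ := ⟨_, rfl⟩
  have q0 : d₀ (t e₁) = -t e₁ := by
    have : d₀ (t e₁) = t (d₀ e₁) := congrArg (fun T : Module.End F W => T e₁) D.t0.symm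
    rw [this, h01, map_neg]
  have q1 : d₁ (t e₁) = -t e₁ := by
    have : d₁ (t e₁) = t (d₂ e₁) := congrArg (fun T : Module.End F W => T e₁) D.t2.symm
    rw [this, h21, map_neg]
  have q2 : d₂ (t e₁) = t e₁ := by
    have : d₂ (t e₁) = t (d₁ e₁) := congrArg (fun T : Module.End F W => T e₁) D.t1.symm
    rw [this, h11]
  have tte : t (t e₁) = e₁ := mul_ap D.tt e₁
  have tf : t f = f := by rw [hf, map_add, tte, add_comm]
  have th : t h = -h := by rw [hh, map_sub, tte, neg_sub]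
  have d0f : d₀ f = -f := by rw [hf, map_add, h01, q0]; abel
  have d0h : d₀ h = -h := by rw [hh, map_sub, h01, q0]; abel
  have d1f : d₁ f = h := by rw [hf, hh, map_add, h11, q1]; abel
  have d1h : d₁ h = f := by rw [hf, hh, map_sub, h11, q1]; abel
  have d2f : d₂ f = -h := by rw [hf, hh, map_add, h21, q2]; abel
  have d2h : d₂ h = -f := by rw [hf, hh, map_sub, h21, q2]; abel
  have hf0 : f ≠ 0 := by
    intro h0
    apply he₁
    have h3 : h = 0 := by rw [← d1f, h0, map_zero]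
    have h4 : (2 : F) • e₁ = 0 := by
      have : (2 : F) • e₁ = f + h := by rw [hf, hh]; module
      rw [this, h0, h3, add_zero]
    exact (smul_eq_zero.1 h4).resolve_left h2
  have hh0 : h ≠ 0 := fun h0 => hf0 (by rw [← d1h, h0, map_zero])
  -- independence of `f`, `h`
  have indep2 : ∀ p q : F, p • f + q • h = 0 → p = 0 ∧ q = 0 := by
    intro p q e
    have e2 := congrArg t e
    rw [map_add, map_smul, map_smul, tf, th, map_zero] at e2
    have e3 : (2 * p) • f = 0 := by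
      have : (2 * p) • f = (p • f + q • h) + (p • f + q • -h) := by module
      rw [this, e, e2, add_zero]
    have e4 : (2 * q) • h = 0 := by
      have : (2 * q) • h = (p • f + q • h) - (p • f + q • -h) := by module
      rw [this, e, e2, sub_zero]
    exact ⟨(mul_eq_zero.1 ((smul_eq_zero.1 e3).resolve_right hf0)).resolve_left h2,
      (mul_eq_zero.1 ((smul_eq_zero.1 e4).resolve_right hh0)).resolve_left h2⟩
  let S : Submodule F W := Submodule.span F (Set.range ![f, h])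
  have hS : Module.finrank F S ≤ 2 := by
    have := finrank_range_le_card (R := F) (![f, h])
    rw [Fintype.card_fin] at this
    exact this
  obtain ⟨v, hv⟩ : ∃ v, v ∉ S := by
    by_contra hcon
    push Not at hcon
    have : S = ⊤ := by rw [eq_top_iff]; exact fun u _ => hcon u
    rw [this, finrank_top] at hS
    omega
  have hfS : f ∈ S := Submodule.subset_span ⟨0, rfl⟩
  have hhS : h ∈ S := Submodule.subset_span ⟨1, rfl⟩
  have mkb : ∀ u : W, u ∉ S → ∃ b : Module.Basis (Fin 3) F W, b 0 = u ∧ b 1 = f ∧ b 2 = h := by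
    intro u hu
    have li : LinearIndependent F ![u, f, h] := by
      rw [Fintype.linearIndependent_iff]
      intro g hg
      rw [Fin.sum_univ_three] at hg
      have hg' : g 0 • u + g 1 • f + g 2 • h = 0 := hg
      have g0 : g 0 = 0 := by
        by_contra h0
        apply hu
        have : u = (-(g 0)⁻¹ * g 1) • f + (-(g 0)⁻¹ * g 2) • h := by
          have e1 : u = (g 0)⁻¹ • (g 0 • u + g 1 • f + g 2 • h) + ((-(g 0)⁻¹ * g 1) • f + (-(g 0)⁻¹ * g 2) • h) := by
            have e2 : (g 0)⁻¹ • (g 0 • u + g 1 • f + g 2 • h) + ((-(g 0)⁻¹ * g 1) • f + (-(g 0)⁻¹ * g 2) • h) =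
              ((g 0)⁻¹ * g 0) • u := by module
            rw [e2, inv_mul_cancel₀ h0, one_smul]
          rw [hg', smul_zero, zero_add] at e1
          exact e1
        rw [this]
        exact add_mem (S.smul_mem _ hfS) (S.smul_mem _ hhS)
      rw [g0, zero_smul, zero_add] at hg'
      obtain ⟨g1, g2⟩ := indep2 _ _ hg'
      intro i
      fin_cases i
      exacts [g0, g1, g2]
    refine ⟨basisOfLinearIndependentOfCardEqFinrank li (by rw [Fintype.card_fin, hW]), ?_, ?_, ?_⟩ <;>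
      rw [coe_basisOfLinearIndependentOfCardEqFinrank] <;> rfl
  -- the sign characters
  obtain ⟨b, b0, b1, b2⟩ := mkb v hv
  obtain ⟨φ, hφ⟩ : ∃ φ, φ = b.coord 0 := ⟨_, rfl⟩
  have φv : φ v = 1 := by rw [hφ, ← b0, Module.Basis.coord_apply, Module.Basis.repr_self, Finsupp.single_eq_same]
  have φf : φ f = 0 := by
    rw [hφ, ← b1, Module.Basis.coord_apply, Module.Basis.repr_self, Finsupp.single_eq_of_ne (by decide)]
  have φh : φ h = 0 := by
    rw [hφ, ← b2, Module.Basis.coord_apply, Module.Basis.repr_self, Finsupp.single_eq_of_ne (by decide)]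
  have expand : ∀ w, ∃ p q : F, w = φ w • v + p • f + q • h := by
    intro w
    refine ⟨b.repr w 1, b.repr w 2, ?_⟩
    have h3 := b.sum_repr w
    rw [Fin.sum_univ_three, b0, b1, b2] at h3
    rw [hφ]
    exact h3.symm
  have mult : ∀ T : Module.End F W, φ (T f) = 0 → φ (T h) = 0 → ∀ w, φ (T w) = φ (T v) * φ w := by
    intro T h3 h4 w
    obtain ⟨p, q, hw⟩ := expand w
    conv_lhs => rw [hw]
    simp only [map_add, map_smul, h3, h4, smul_eq_mul, mul_zero, add_zero]
    ring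
  have m1 := mult d₁ (by rw [d1f, φh]) (by rw [d1h, φf])
  have m2 := mult d₂ (by rw [d2f, map_neg, φh, neg_zero]) (by rw [d2h, map_neg, φf, neg_zero])
  have mt := mult t (by rw [tf, φf]) (by rw [th, map_neg, φh, neg_zero])
  have c1 : φ (d₁ v) * φ (d₁ v) = 1 := by rw [← m1, mul_ap D.h11]; exact φv
  have c2 : φ (t v) * φ (t v) = 1 := by rw [← mt, mul_ap D.tt]; exact φv
  have c3 : φ (d₁ v) = φ (d₂ v) := by
    have h3 : t (d₁ v) = d₂ (t v) := congrArg (fun T : Module.End F W => T v) D.t1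
    have h4 : φ (t (d₁ v)) = φ (d₂ (t v)) := by rw [h3]
    rw [mt, m2] at h4
    have h5 : φ (t v) ≠ 0 := fun h6 => by rw [h6, mul_zero] at c2; exact zero_ne_one c2
    rw [mul_comm] at h4
    exact mul_right_cancel₀ h5 h4
  have c0 : φ (d₀ v) = 1 := by
    rw [← mul_ap D.h21, m2, ← c3, c1]
  -- the fixed vector of `d₀`
  obtain ⟨u, hu⟩ : ∃ u, u = v + d₀ v := ⟨_, rfl⟩
  have φu : φ u = 2 := by rw [hu, map_add, φv, c0]; norm_num
  have huS : u ∉ S := by
    intro h3
    have h4 : S ≤ LinearMap.ker φ := by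
      apply Submodule.span_le.2
      rintro _ ⟨i, rfl⟩
      fin_cases i
      · exact φf
      · exact φh
    have h5 : φ u = 0 := h4 h3
    rw [φu] at h5
    exact h2 h5
  have d0u : d₀ u = u := by rw [hu, map_add, mul_ap D.h00, add_comm]; rfl
  clear expand mult m1 m2 mt c1 c2 c3 c0
  obtain ⟨b', b0', b1', b2'⟩ := mkb u huS
  have expand : ∀ w, ∃ r p q : F, w = r • u + p • f + q • h := by
    intro w
    refine ⟨b'.repr w 0, b'.repr w 1, b'.repr w 2, ?_⟩
    have h3 := b'.sum_repr w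
    rw [Fin.sum_univ_three, b0', b1', b2'] at h3
    exact h3.symm
  have indep : ∀ r p q : F, r • u + p • f + q • h = 0 → r = 0 ∧ p = 0 ∧ q = 0 := by
    intro r p q e
    have h3 := congrArg φ e
    rw [map_add, map_add, map_smul, map_smul, map_smul, φu, φf, φh, smul_zero, smul_zero, add_zero, add_zero, map_zero,
      smul_eq_mul] at h3
    have hr := (mul_eq_zero.1 h3).resolve_right h2
    rw [hr, zero_smul, zero_add] at e
    exact ⟨hr, indep2 _ _ e⟩
  -- an operator commuting with `d₀` multiplies `u`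
  have fix : ∀ T : Module.End F W, d₀ * T = T * d₀ → ∃ c : F, T u = c • u := by
    intro T hT
    obtain ⟨r, p, q, h3⟩ := expand (T u)
    have h4 : d₀ (T u) = T u := by
      have : d₀ (T u) = T (d₀ u) := congrArg (fun T : Module.End F W => T u) hT
      rw [this, d0u]
    rw [h3, map_add, map_add, map_smul, map_smul, map_smul, d0u, d0f, d0h] at h4
    have h5 : (0 : F) • u + (2 * p) • f + (2 * q) • h = 0 := by
      have : (0 : F) • u + (2 * p) • f + (2 * q) • h =
        (r • u + p • f + q • h) - (r • u + p • -f + q • -h) := by module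
      rw [this, h4, sub_self]
    obtain ⟨-, h6, h7⟩ := indep _ _ _ h5
    refine ⟨r, ?_⟩
    rw [h3, (mul_eq_zero.1 h6).resolve_left h2, (mul_eq_zero.1 h7).resolve_left h2, zero_smul, zero_smul, add_zero,
      add_zero]
  obtain ⟨δ, hδ⟩ := fix d₁ (by rw [D.h01, D.h10])
  obtain ⟨τ, hτ⟩ := fix t D.t0.symm
  have hu0 : u ≠ 0 := fun h3 => h2 (by rw [← φu, h3, map_zero])
  have hττ : τ * τ = 1 := by
    have h3 : t (t u) = u := mul_ap D.tt u
    rw [hτ, map_smul, hτ, smul_smul] at h3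
    have h4 : (τ * τ - 1) • u = 0 := by rw [sub_smul, h3, one_smul, sub_self]
    exact sub_eq_zero.1 ((smul_eq_zero.1 h4).resolve_right hu0)
  have hδδ : δ * δ = 1 := by
    have h3 : d₁ (d₁ u) = u := mul_ap D.h11 u
    rw [hδ, map_smul, hδ, smul_smul] at h3
    have h4 : (δ * δ - 1) • u = 0 := by rw [sub_smul, h3, one_smul, sub_self]
    exact sub_eq_zero.1 ((smul_eq_zero.1 h4).resolve_right hu0)
  have hδ2 : d₂ u = δ • u := by
    rw [← mul_ap D.h10, d0u, hδ]
  -- traces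
  have trb : ∀ (T : Module.End F W) (c₀ c₁ c₂ : F), b'.repr (T (b' 0)) 0 = c₀ → b'.repr (T (b' 1)) 1 = c₁ →
      b'.repr (T (b' 2)) 2 = c₂ → LinearMap.trace F W T = c₀ + c₁ + c₂ := by
    intro T c₀ c₁ c₂ h3 h4 h5
    rw [LinearMap.trace_eq_matrix_trace F b', Matrix.trace_fin_three, LinearMap.toMatrix_apply,
      LinearMap.toMatrix_apply, LinearMap.toMatrix_apply, h3, h4, h5]
  have t_t := trb t τ 1 (-1) (by rw [b0', hτ, ← b0']; simp only [_root_.Fin.isValue, _root_.map_smul, _root_.Module.Basis.repr_self, _root_.Finsupp.smul_single, _root_.smul_eq_mul, _root_.mul_one, _root_.Finsupp.single_eq_same]) (by rw [b1', tf, ← b1']; simp only [_root_.Fin.isValue, _root_.Module.Basis.repr_self, _root_.Finsupp.single_eq_same])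
    (by rw [b2', th, ← b2']; simp only [_root_.Fin.isValue, _root_.map_neg, _root_.Module.Basis.repr_self, _root_.Finsupp.coe_neg, _root_.Pi.neg_apply, _root_.Finsupp.single_eq_same])
  have t_0 := trb d₀ 1 (-1) (-1) (by rw [b0', d0u, ← b0']; simp only [_root_.Fin.isValue, _root_.Module.Basis.repr_self, _root_.Finsupp.single_eq_same]) (by rw [b1', d0f, ← b1']; simp only [_root_.Fin.isValue, _root_.map_neg, _root_.Module.Basis.repr_self, _root_.Finsupp.coe_neg, _root_.Pi.neg_apply, _root_.Finsupp.single_eq_same])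
    (by rw [b2', d0h, ← b2']; simp only [_root_.Fin.isValue, _root_.map_neg, _root_.Module.Basis.repr_self, _root_.Finsupp.coe_neg, _root_.Pi.neg_apply, _root_.Finsupp.single_eq_same])
  have t_1 := trb d₁ δ 0 0 (by rw [b0', hδ, ← b0']; simp only [_root_.Fin.isValue, _root_.map_smul, _root_.Module.Basis.repr_self, _root_.Finsupp.smul_single, _root_.smul_eq_mul, _root_.mul_one, _root_.Finsupp.single_eq_same]) (by rw [b1', d1f, ← b2']; simp)
    (by rw [b2', d1h, ← b1']; simp only [_root_.Fin.isValue, _root_.Module.Basis.repr_self, _root_.ne_eq, _root_.Fin.reduceEq, _root_.not_false_eq_true, _root_.Finsupp.single_eq_of_ne])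
  have t_2 := trb d₂ δ 0 0 (by rw [b0', hδ2, ← b0']; simp only [_root_.Fin.isValue, _root_.map_smul, _root_.Module.Basis.repr_self, _root_.Finsupp.smul_single, _root_.smul_eq_mul, _root_.mul_one, _root_.Finsupp.single_eq_same]) (by rw [b1', d2f, ← b2']; simp only [_root_.Fin.isValue, _root_.map_neg, _root_.Module.Basis.repr_self, _root_.Finsupp.coe_neg, _root_.Pi.neg_apply, _root_.ne_eq, _root_.Fin.reduceEq, _root_.not_false_eq_true, _root_.Finsupp.single_eq_of_ne, _root_.neg_zero])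
    (by rw [b2', d2h, ← b1']; simp only [_root_.Fin.isValue, _root_.map_neg, _root_.Module.Basis.repr_self, _root_.Finsupp.coe_neg, _root_.Pi.neg_apply, _root_.ne_eq, _root_.Fin.reduceEq, _root_.not_false_eq_true, _root_.Finsupp.single_eq_of_ne, _root_.neg_zero])
  have htr := D.htr
  rw [t_t, t_0, t_1, t_2] at htr
  have hτ' : τ = 2 * δ - 1 := by linear_combination htr
  have hδ1 : δ = 1 := by
    have h3 : (2 * 2) * (1 - δ) = 0 := by
      rw [hτ'] at hττ
      linear_combination hττ - 4 * hδδ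
    have h4 := (mul_eq_zero.1 h3).resolve_left (mul_ne_zero h2 h2)
    linear_combination -h4
  have hτ1 : τ = 1 := by rw [hτ', hδ1]; norm_num
  subst hδ1
  subst hτ1
  rw [one_smul] at hδ hτ hδ2
  -- `x`
  have xx : ∀ w, (3 : F) • x (x w) = t w := fun w => (congrArg (fun T : Module.End F W => T w) D.ht).symm
  have xt' : ∀ w, t (x w) = x (t w) := fun w => congrArg (fun T : Module.End F W => T w) D.xt
  have plus : ∀ w, t w = w → ∃ p q : F, w = p • u + q • f := by
    intro w hw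
    obtain ⟨r, p, q, h3⟩ := expand w
    rw [h3, map_add, map_add, map_smul, map_smul, map_smul, hτ, tf, th] at hw
    have h5 : (0 : F) • u + (0 : F) • f + (2 * q) • h = 0 := by
      have : (0 : F) • u + (0 : F) • f + (2 * q) • h =
        (r • u + p • f + q • h) - (r • u + p • f + q • -h) := by module
      rw [this, hw, sub_self]
    obtain ⟨-, -, h7⟩ := indep _ _ _ h5
    refine ⟨r, p, ?_⟩
    rw [h3, (mul_eq_zero.1 h7).resolve_left h2, zero_smul, add_zero]
  obtain ⟨ξ, hξ⟩ : ∃ ξ : F, x h = ξ • h := by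
    obtain ⟨r, p, q, h3⟩ := expand (x h)
    have h4 : t (x h) = -x h := by rw [xt', th, map_neg]
    rw [h3, map_add, map_add, map_smul, map_smul, map_smul, hτ, tf, th] at h4
    have h5 : (2 * r) • u + (2 * p) • f + (0 : F) • h = 0 := by
      have : (2 * r) • u + (2 * p) • f + (0 : F) • h =
        (r • u + p • f + q • -h) - -(r • u + p • f + q • h) := by module
      rw [this, h4, sub_self]
    obtain ⟨h6, h7, -⟩ := indep _ _ _ h5
    refine ⟨q, ?_⟩
    rw [h3, (mul_eq_zero.1 h6).resolve_left h2, (mul_eq_zero.1 h7).resolve_left h2, zero_smul, zero_smul, zero_add,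
      zero_add]
  obtain ⟨β, ρ, hβ⟩ := plus (x f) (by rw [xt', tf])
  obtain ⟨α, γ, hα⟩ := plus (x u) (by rw [xt', hτ])
  have hβ0 : β ≠ 0 := by
    intro h0
    rw [h0, zero_smul, zero_add] at hβ
    have hgen : ∀ T : Module.End F W, T f ∈ S → T h ∈ S → ∀ s ∈ S, T s ∈ S := by
      intro T h3 h4 s hs
      have : S ≤ S.comap T := by
        apply Submodule.span_le.2
        rintro _ ⟨i, rfl⟩
        fin_cases i
        · exact h3
        · exact h4
      exact this hs
    rcases D.irr S (hgen x (by rw [hβ]; exact S.smul_mem _ hfS) (by rw [hξ]; exact S.smul_mem _ hhS))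
      (hgen d₀ (by rw [d0f]; exact neg_mem hfS) (by rw [d0h]; exact neg_mem hhS))
      (hgen d₁ (by rw [d1f]; exact hhS) (by rw [d1h]; exact hfS))
      (hgen d₂ (by rw [d2f]; exact neg_mem hhS) (by rw [d2h]; exact neg_mem hfS)) with h3 | h3
    · rw [h3, Submodule.mem_bot] at hfS
      exact hf0 hfS
    · exact hv (h3 ▸ Submodule.mem_top)
  have hβu : β • u ∉ S := by
    intro h3
    apply huS
    have h4 := S.smul_mem β⁻¹ h3
    rwa [smul_smul, inv_mul_cancel₀ hβ0, one_smul] at h4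
  -- the relations of `x`
  have r1 := xx f
  rw [hβ, map_add, map_smul, map_smul, hα, hβ, tf] at r1
  have r1' : (3 * (β * α + ρ * β)) • u + (3 * (β * γ + ρ * ρ) - 1) • f + (0 : F) • h = 0 := by
    have : (3 * (β * α + ρ * β)) • u + (3 * (β * γ + ρ * ρ) - 1) • f + (0 : F) • h =
      (3 : F) • (β • (α • u + γ • f) + ρ • (β • u + ρ • f)) - f := by module
    rw [this, r1, sub_self]
  obtain ⟨s1, s2, -⟩ := indep _ _ _ r1'
  have hρ : ρ = -α := by
    have h3 := (mul_eq_zero.1 s1).resolve_left D.h3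
    have h4 : β * (α + ρ) = 0 := by linear_combination h3
    linear_combination (mul_eq_zero.1 h4).resolve_left hβ0
  subst hρ
  have r2 := xx h
  rw [hξ, map_smul, hξ, th] at r2
  have r2' : (0 : F) • u + (0 : F) • f + (3 * (ξ * ξ) + 1) • h = 0 := by
    have : (0 : F) • u + (0 : F) • f + (3 * (ξ * ξ) + 1) • h = (3 : F) • ξ • ξ • h - -h := by module
    rw [this, r2, sub_self]
  obtain ⟨-, -, s3⟩ := indep _ _ _ r2'
  obtain ⟨b'', b0'', b1'', b2''⟩ := mkb (β • u) hβu
  refine ⟨b'', α, β * γ, ξ, ?_⟩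
  rw [b0'', b1'', b2'']
  refine ⟨by rw [map_smul, d0u], d0f, d0h, by rw [map_smul, hδ], d1f, d1h, by rw [map_smul, hδ2], d2f, d2h,
    by rw [map_smul, hτ], tf, th, ?_, ?_, hξ, by linear_combination s2, by linear_combination s3⟩
  · rw [map_smul, hα]; module
  · rw [hβ]; module

set_option maxHeartbeats 1000000 in
/-- **In odd characteristic dimension three forces characteristic seven.** -/
theorem Dat.seven [FiniteDimensional F W] (D : Dat ω x d₀ d₁ d₂ t) (hW : Module.finrank F W = 3)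
    (h2 : (2 : F) ≠ 0) : (7 : F) = 0 := by
  obtain ⟨b, α, γ, ξ, a00, h88⟩ :=
    D.exists_basis hW h2
  revert h88; rintro ⟨a01, a02, a10, a11, a12, h88⟩
  revert h88; rintro ⟨a20, a21, a22, at0, at1, h88⟩
  revert h88; rintro ⟨at2, ax0, ax1, ax2, hγ, hξ⟩
  obtain ⟨y₀, y₁, y₂, hy0, hy1, hy2, E1, E2⟩ := r6_entries D.hω D.ht D.tt D.h00 D.h11 D.h22 D.r6
  let M := LinearMap.toMatrixAlgEquiv b
  have X : M x = !![α, 1, 0; γ, -α, 0; 0, 0, ξ] := by
    ext i j
    rw [LinearMap.toMatrixAlgEquiv_apply]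
    (revert j i; simp only [ax0, ax1, ax2, _root_.Fin.forall_fin_succ, _root_.Matrix.of_apply, _root_.Matrix.cons_val', _root_.Matrix.cons_val_fin_one, Fin.isValue, _root_.map_add, _root_.map_smul, _root_.Module.Basis.repr_self, _root_.Finsupp.smul_single, _root_.smul_eq_mul, _root_.mul_one, _root_.Finsupp.coe_add, _root_.Pi.add_apply, _root_.Matrix.cons_val_zero, _root_.Matrix.cons_val_succ, _root_.Fin.succ_zero_eq_one, _root_.map_sub, _root_.Finsupp.coe_sub, _root_.Pi.sub_apply, _root_.Fin.succ_one_eq_two, _root_.IsEmpty.forall_iff, _root_.and_true, _root_.Finsupp.single_eq_same, _root_.ne_eq, _root_.zero_ne_one, _root_.not_false_eq_true, _root_.Finsupp.single_eq_of_ne, _root_.add_zero, _root_.sub_zero, Fin.reduceEq, _root_.and_self, _root_.Fin.succ_ne_zero, _root_.zero_add, _root_.zero_sub, _root_.neg_eq_zero])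
  have T : M t = !![1, 0, 0; 0, 1, 0; 0, 0, -1] := by
    ext i j
    rw [LinearMap.toMatrixAlgEquiv_apply]
    (revert j i; simp only [at0, at1, at2, _root_.Fin.forall_fin_succ, _root_.Matrix.of_apply, _root_.Matrix.cons_val', _root_.Matrix.cons_val_fin_one, Fin.isValue, _root_.Module.Basis.repr_self, _root_.Matrix.cons_val_zero, _root_.Matrix.cons_val_succ, _root_.Fin.succ_zero_eq_one, _root_.Fin.succ_one_eq_two, _root_.map_neg, _root_.Finsupp.coe_neg, _root_.Pi.neg_apply, _root_.IsEmpty.forall_iff, _root_.and_true, _root_.Finsupp.single_eq_same, _root_.ne_eq, _root_.zero_ne_one, _root_.not_false_eq_true, _root_.Finsupp.single_eq_of_ne, Fin.reduceEq, _root_.neg_zero, _root_.and_self, _root_.Fin.succ_ne_zero, _root_.neg_inj, _root_.true_and])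
  have D0 : M d₀ = !![1, 0, 0; 0, -1, 0; 0, 0, -1] := by
    ext i j
    rw [LinearMap.toMatrixAlgEquiv_apply]
    (revert j i; simp only [a00, a01, a02, _root_.Fin.forall_fin_succ, _root_.Matrix.of_apply, _root_.Matrix.cons_val', _root_.Matrix.cons_val_fin_one, Fin.isValue, _root_.Module.Basis.repr_self, _root_.Matrix.cons_val_zero, _root_.Matrix.cons_val_succ, _root_.Fin.succ_zero_eq_one, _root_.map_neg, _root_.Finsupp.coe_neg, _root_.Pi.neg_apply, _root_.Fin.succ_one_eq_two, _root_.IsEmpty.forall_iff, _root_.and_true, _root_.Finsupp.single_eq_same, _root_.ne_eq, _root_.zero_ne_one, _root_.not_false_eq_true, _root_.Finsupp.single_eq_of_ne, _root_.neg_zero, Fin.reduceEq, _root_.and_self, _root_.Fin.succ_ne_zero, _root_.neg_eq_zero, _root_.neg_inj, _root_.true_and])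
  have D1 : M d₁ = !![1, 0, 0; 0, 0, 1; 0, 1, 0] := by
    ext i j
    rw [LinearMap.toMatrixAlgEquiv_apply]
    (revert j i; simp only [a10, a11, a12, _root_.Fin.forall_fin_succ, _root_.Matrix.of_apply, _root_.Matrix.cons_val', _root_.Matrix.cons_val_fin_one, Fin.isValue, _root_.Module.Basis.repr_self, _root_.Matrix.cons_val_zero, _root_.Matrix.cons_val_succ, _root_.Fin.succ_zero_eq_one, _root_.Fin.succ_one_eq_two, _root_.IsEmpty.forall_iff, _root_.and_true, _root_.Finsupp.single_eq_same, _root_.ne_eq, Fin.reduceEq, _root_.not_false_eq_true, _root_.Finsupp.single_eq_of_ne, _root_.zero_ne_one, _root_.and_self, _root_.Fin.succ_ne_zero, _root_.true_and])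
  have D2 : M d₂ = !![1, 0, 0; 0, 0, -1; 0, -1, 0] := by
    ext i j
    rw [LinearMap.toMatrixAlgEquiv_apply]
    (revert j i; simp only [a20, a21, a22, _root_.Fin.forall_fin_succ, _root_.Matrix.of_apply, _root_.Matrix.cons_val', _root_.Matrix.cons_val_fin_one, Fin.isValue, _root_.Module.Basis.repr_self, _root_.Matrix.cons_val_zero, _root_.Matrix.cons_val_succ, _root_.Fin.succ_zero_eq_one, _root_.map_neg, _root_.Finsupp.coe_neg, _root_.Pi.neg_apply, _root_.Fin.succ_one_eq_two, _root_.IsEmpty.forall_iff, _root_.and_true, _root_.Finsupp.single_eq_same, _root_.ne_eq, Fin.reduceEq, _root_.not_false_eq_true, _root_.Finsupp.single_eq_of_ne, _root_.neg_zero, _root_.zero_ne_one, _root_.and_self, _root_.Fin.succ_ne_zero, _root_.neg_inj, _root_.neg_eq_zero, _root_.true_and])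
  obtain ⟨θ, hθ⟩ : ∃ θ, θ = ω - ω ^ 2 := ⟨_, rfl⟩
  have hθ2 : θ ^ 2 = -3 := by rw [hθ]; linear_combination (ω ^ 2 - 3 * ω + 3) * D.hω
  have hω := D.hω
  have M0 : M (d₀ + d₁ + d₂) = !![3, 0, 0; 0, -1, 0; 0, 0, -1] := by
    rw [map_add, map_add, D0, D1, D2]
    ext i j
    (revert i j; norm_num only [_root_.Fin.forall_fin_succ, _root_.Matrix.of_add_of, _root_.Matrix.add_cons, _root_.Matrix.head_cons, _root_.Matrix.tail_cons, _root_.add_zero, _root_.Matrix.empty_add_empty, _root_.zero_add, _root_.Matrix.add_apply, _root_.Matrix.of_apply, _root_.Matrix.cons_val', _root_.Matrix.cons_val_fin_one, _root_.Matrix.cons_val_zero, _root_.Matrix.cons_val_succ, _root_.forall_const, _root_.and_self, _root_.add_eq_left, _root_.add_neg_cancel, _root_.implies_true])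
  have M1 : M (d₀ + ω ^ 2 • d₁ + ω • d₂) = !![0, 0, 0; 0, -1, -θ; 0, -θ, -1] := by
    rw [map_add, map_add, map_smul, map_smul, D0, D1, D2]
    ext i j
    (revert i j; norm_num only [_root_.Fin.forall_fin_succ, _root_.Matrix.smul_of, _root_.Matrix.smul_cons, _root_.smul_eq_mul, _root_.mul_one, _root_.MulZeroClass.mul_zero, _root_.Matrix.smul_empty, _root_.Matrix.of_add_of, _root_.Matrix.add_cons, _root_.Matrix.head_cons, _root_.Matrix.tail_cons, _root_.add_zero, _root_.Matrix.empty_add_empty, _root_.zero_add, _root_.mul_neg, _root_.Matrix.add_apply, _root_.Matrix.of_apply, _root_.Matrix.cons_val', _root_.Matrix.cons_val_fin_one, _root_.Matrix.cons_val_zero, _root_.Matrix.cons_val_succ, _root_.forall_const, _root_.and_self, _root_.and_true, _root_.add_eq_left, _root_.true_and]) <;> (repeat' with_reducible apply And.intro) <;>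
      first
      | linear_combination hω
      | linear_combination -hω
      | linear_combination hθ
      | linear_combination -hθ
  have M2 : M (d₀ + ω • d₁ + ω ^ 2 • d₂) = !![0, 0, 0; 0, -1, θ; 0, θ, -1] := by
    rw [map_add, map_add, map_smul, map_smul, D0, D1, D2]
    ext i j
    (revert i j; norm_num only [_root_.Fin.forall_fin_succ, _root_.Matrix.smul_of, _root_.Matrix.smul_cons, _root_.smul_eq_mul, _root_.mul_one, _root_.MulZeroClass.mul_zero, _root_.Matrix.smul_empty, _root_.Matrix.of_add_of, _root_.Matrix.add_cons, _root_.Matrix.head_cons, _root_.Matrix.tail_cons, _root_.add_zero, _root_.Matrix.empty_add_empty, _root_.zero_add, _root_.mul_neg, _root_.Matrix.add_apply, _root_.Matrix.of_apply, _root_.Matrix.cons_val', _root_.Matrix.cons_val_fin_one, _root_.Matrix.cons_val_zero, _root_.Matrix.cons_val_succ, _root_.forall_const, _root_.and_self, _root_.and_true, _root_.add_eq_left, _root_.true_and]) <;> (repeat' with_reducible apply And.intro)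 <;>
      first
      | linear_combination hω
      | linear_combination -hω
      | linear_combination hθ
      | linear_combination -hθ
  have Y0 : M y₀ = !![3 * α ^ 2 - γ, 4 * α, 0; 4 * α * γ, 3 * γ - α ^ 2, 0; 0, 0, ξ ^ 2] := by
    rw [hy0, map_mul, map_mul, map_mul, M0, X, T]
    ext i j
    (revert i j; simp only [_root_.mul_neg, _root_.neg_zero, _root_.neg_neg, _root_.neg_mul, Cfsg.Agent.Lib.MatLit.r3]) <;> (repeat' with_reducible apply And.intro) <;> ring
  have Y1 : M y₁ = !![-γ, α, ξ * θ; α * γ, -α ^ 2, -(α * ξ * θ); -(γ * ξ * θ), α * ξ * θ, ξ ^ 2] := by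
    rw [hy1, map_mul, map_mul, map_mul, M1, X, T]
    ext i j
    (revert i j; simp only [Nat.reduceAdd, _root_.smul_eq_mul, _root_.one_smul, _root_.zero_smul, _root_.neg_smul, _root_.mul_neg, _root_.neg_zero, _root_.neg_neg, _root_.neg_mul, _root_.neg_inj, Cfsg.Agent.Lib.MatLit.r3]) <;> (repeat' with_reducible apply And.intro) <;> ring
  have Y2 : M y₂ = !![-γ, α, -(ξ * θ); α * γ, -α ^ 2, α * ξ * θ; γ * ξ * θ, -(α * ξ * θ), ξ ^ 2] := by
    rw [hy2, map_mul, map_mul, map_mul, M2, X, T]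
    ext i j
    (revert i j; simp only [_root_.mul_neg, _root_.neg_zero, _root_.neg_neg, _root_.neg_mul, Cfsg.Agent.Lib.MatLit.r3]) <;> (repeat' with_reducible apply And.intro) <;> ring
  have F1 := congrFun (congrFun (congrArg M E1) 0) 2
  simp only [map_mul, map_mul, map_mul, map_add, map_add, map_mul, map_mul, map_mul, map_mul, map_mul, map_mul, Y0, Y1, Y2,
    D0, D1, D2, T] at F1
  simp only [Cfsg.Agent.Lib.MatLit.p3, _root_.mul_neg, _root_.neg_mul, _root_.neg_zero, _root_.neg_neg] at F1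
  simp only [_root_.Matrix.of_apply, _root_.Matrix.cons_val', _root_.Matrix.cons_val_fin_one, _root_.Matrix.cons_val_zero, _root_.Matrix.cons_val, _root_.Matrix.cons_val_one, _root_.Fin.isValue] at F1
  have F2 := congrFun (congrFun (congrArg M E2) 0) 2
  simp only [map_mul, map_mul, map_mul, map_add, map_add, map_mul, map_mul, map_mul, map_mul, map_mul, map_mul, Y0, Y1, Y2,
    D0, D1, D2, T] at F2
  simp only [Cfsg.Agent.Lib.MatLit.p3, _root_.mul_neg, _root_.neg_mul, _root_.neg_zero, _root_.neg_neg] at F2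
  simp only [_root_.Matrix.of_apply, _root_.Matrix.cons_val', _root_.Matrix.cons_val_fin_one, _root_.Matrix.cons_val_zero, _root_.Matrix.cons_val, _root_.Matrix.cons_val_one, _root_.Fin.isValue] at F2
  have G1 : 7 * α ^ 2 * (ξ * θ) = 0 := by
    linear_combination F1 + α * ξ ^ 2 * hθ2 - α * hξ
  have G2 : (9 * α ^ 2 - 2) * (ξ * θ) = 0 := by
    linear_combination 3 * F2 - 3 * α * ξ ^ 2 * hθ2 + ξ * θ * hξ
  have hξθ : ξ * θ ≠ 0 := by
    intro h0
    have h3 : (3 : F) * ((ξ * θ) * (ξ * θ)) = 3 := by linear_combination θ ^ 2 * hξ - hθ2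
    rw [h0, mul_zero, mul_zero] at h3
    exact D.h3 h3.symm
  have K1 := (mul_eq_zero.1 G1).resolve_right hξθ
  have K2 := (mul_eq_zero.1 G2).resolve_right hξθ
  have K3 : (2 : F) * 7 = 0 := by linear_combination 9 * K1 - 7 * K2
  exact (mul_eq_zero.1 K3).resolve_left h2

end dat

end Cfsg.Agent.H637.Three
end

-- part: H637/A7NineMain
section
/-!
# `A₇` and its covers in dimension nine (helper637)

`nine` : a core with `Soc P ≅ A₇` in dimension nine is self-dual, or the characteristic is seven and `Fr P 7`.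
-/

set_option autoImplicit false
set_option linter.unusedSectionVars false

namespace Cfsg.Agent.H637.Three

open Cfsg Cfsg.Geo Matrix Cfsg.Agent.H913.N6
open Cfsg.Agent.H915.LD
open Cfsg.Agent.H907
open Equiv Equiv.Perm
open Cfsg.Agent.H890.Y3 (r3 r3' g4 r22 r33 r42 r322 r5 r7 y4 reps r3_comm r3_pow r33_eq)
open Cfsg.Agent.H915.A7Old (Rel Z3 kk exists_rel L_congr)

/-- every element of `A₇` is of order seven or conjugate in `A₇` to a representative -/
theorem reps' (x : alternatingGroup (Fin 7)) : x ^ 7 = 1 ∨ ∃ γ r : alternatingGroup (Fin 7),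
    (r = r3 ∨ r = r33 ∨ r = r322 ∨ ((r = r22 ∨ r = r42 ∨ r = r5))) ∧ γ * x * γ⁻¹ = r := by
  obtain ⟨σ, r, hr, h⟩ := reps x
  have key : ∀ τ : Perm (Fin 7), sign τ = -1 → τ * (r : Perm (Fin 7)) = r * τ → ∃ γ : alternatingGroup (Fin 7),
      γ * x * γ⁻¹ = r := by
    intro τ hτ hc
    have h1 : σ * (x : Perm (Fin 7)) * σ⁻¹ = r := congrArg Subtype.val h
    rcases Int.units_eq_one_or (sign σ) with hs | hs
    · exact ⟨⟨σ, mem_alternatingGroup.2 hs⟩, Subtype.ext h1⟩
    · refine ⟨⟨τ * σ, mem_alternatingGroup.2 (by rw [Perm.sign_mul, hτ, hs]; rfl)⟩, Subtype.ext ?_⟩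
      show τ * σ * (x : Perm (Fin 7)) * (τ * σ)⁻¹ = r
      have : τ * σ * (x : Perm (Fin 7)) * (τ * σ)⁻¹ = τ * (σ * x * σ⁻¹) * τ⁻¹ := by group
      rw [this, h1, hc, mul_inv_cancel_right]
  rcases hr with rfl | rfl | rfl | rfl | rfl | rfl | rfl | rfl
  · left
    have : x = 1 := by
      have h2 : MulAut.conjNormal σ x = MulAut.conjNormal σ 1 := by rw [h, map_one]
      exact (MulAut.conjNormal σ).injective h2
    rw [this, one_pow]
  · right
    obtain ⟨γ, hγ⟩ := key (c[3, 4]) (by decide +kernel) (by decide +kernel)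
    exact ⟨γ, _, Or.inl rfl, hγ⟩
  · right
    obtain ⟨γ, hγ⟩ := key (c[0, 1]) (by decide +kernel) (by decide +kernel)
    exact ⟨γ, _, Or.inr (Or.inr (Or.inr (Or.inl rfl))), hγ⟩
  · right
    obtain ⟨γ, hγ⟩ := key (c[0, 3] * c[1, 4] * c[2, 5]) (by decide +kernel) (by decide +kernel)
    exact ⟨γ, _, Or.inr (Or.inl rfl), hγ⟩
  · right
    obtain ⟨γ, hγ⟩ := key (c[4, 5]) (by decide +kernel) (by decide +kernel)
    exact ⟨γ, _, Or.inr (Or.inr (Or.inr (Or.inr (Or.inl rfl)))), hγ⟩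
  · right
    obtain ⟨γ, hγ⟩ := key (c[3, 4]) (by decide +kernel) (by decide +kernel)
    exact ⟨γ, _, Or.inr (Or.inr (Or.inl rfl)), hγ⟩
  · left
    have h2 : MulAut.conjNormal σ (x ^ 7) = MulAut.conjNormal σ 1 := by
      rw [map_pow, h, map_one]
      decide +kernel
    exact (MulAut.conjNormal σ).injective h2
  · right
    obtain ⟨γ, hγ⟩ := key (c[5, 6]) (by decide +kernel) (by decide +kernel)
    exact ⟨γ, _, Or.inr (Or.inr (Or.inr (Or.inr (Or.inr rfl)))), hγ⟩

def y5 : alternatingGroup (Fin 7) := ⟨c[1, 2, 4, 3] * c[5, 6], mem_alternatingGroup.2 (by decide)⟩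

theorem pow22 : r22 ^ 7 = r22 ∧ r22 ^ 20 = 1 := by decide +kernel
theorem pow42 : y4 * r42 * y4⁻¹ = r42 ^ 7 ∧ r42 ^ 20 = 1 := by decide +kernel
theorem pow5 : y5 * r5 * y5⁻¹ = r5 ^ 7 ∧ r5 ^ 20 = 1 := by decide +kernel
theorem pow322 : r322 ^ 7 = r322 ∧ r322 ^ 2 = r3 ^ 2 := by decide +kernel
theorem pow3 : r3 ^ 7 = r3 := by decide +kernel
theorem pow33 : r33 ^ 7 = r33 := by decide +kernel

section fr

variable {ι : Type} [Fintype ι] [DecidableEq ι] {F : Type*} [Field F] {P : Subgroup (GL ι F)}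
  {C : Cov P (alternatingGroup (Fin 7))}

/-- `σ` conjugate to `σ ^ 7` of order prime to three: the lifts are conjugate -/
theorem good_of_conj [Nonempty ι] (hZ : Z3 P) {σ γ : alternatingGroup (Fin 7)} (h7 : γ * σ * γ⁻¹ = σ ^ 7)
    (h20 : σ ^ 20 = 1) {g : GL ι F} (hg : C.L g σ) : tr (g ^ 7) = tr g := by
  obtain ⟨y, hy⟩ := C.exists_lift γ
  have h1 := L_congr (hg.conj hy) h7
  obtain ⟨c, hc, h2⟩ := (hg.pow 7).exists_sc h1
  have h3 := hg.pow 20
  rw [h20, Cov.L.one_iff] at h3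
  obtain ⟨hd, d, h4⟩ := h3
  have hd' : sc d ∈ P := h4 ▸ hd
  have hc3 := hZ c hc
  have hd3 := hZ d hd'
  have h5 : (g ^ 7) ^ 20 = sc (d ^ 7) := by rw [← pow_mul, mul_comm, pow_mul, h4, sc_pow]
  have h6 : (sc c * (y * g * y⁻¹)) ^ 20 = sc (c ^ 20 * d) := by
    rw [(show Commute (sc c) (y * g * y⁻¹) from sc_comm c _).mul_pow, conj_pow, h4, ← sc_comm,
      mul_inv_cancel_right, ← sc_pow, ← sc_mul]
  rw [h2, h6] at h5
  have h7 := sc_inj h5
  have h8 : d ^ 7 = d := by
    have : d ^ 7 = (d ^ 3) ^ 2 * d := by rw [← pow_mul, ← pow_succ]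
    rw [this, hd3, one_pow, one_mul]
  have h9 : c ^ 20 = 1 := by
    rw [h8] at h7
    exact mul_eq_right.1 h7
  have h10 : c = 1 := by
    have e1 : c ^ 21 = 1 := by rw [show 21 = 3 * 7 from rfl, pow_mul, hc3, one_pow]
    rw [pow_succ, h9, one_mul] at e1
    exact e1
  rw [h2, h10, sc_one, one_mul, tr_conj]

/-- lifts of `σ` have trace zero when some lift conjugates them to a proper multiple -/
theorem tr_zero {ω : Fˣ} (hω : ω ≠ 1) {g y : GL ι F} (h : y * g * y⁻¹ = sc ω * g) : tr g = 0 := by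
  have h1 := tr_conj y g
  have h2 : tr (sc ω * g) = (ω : F) * tr g := tr_smul (by rw [Units.val_mul, coe_sc, smul_mul_assoc, one_mul])
  rw [h, h2] at h1
  have h3 : ((ω : F) - 1) * tr g = 0 := by rw [sub_mul, h1, one_mul, sub_self]
  rcases mul_eq_zero.1 h3 with h4 | h4
  · exact absurd (Units.ext (sub_eq_zero.1 h4)) hω
  · exact h4

theorem fr_seven [Finite F] [CharP F 7] (hC : Core P) (C : Cov P (alternatingGroup (Fin 7))) (hZ : Z3 P)
    (hz : ∃ c : Fˣ, c ≠ 1 ∧ sc c ∈ P) : Fr P 7 := by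
  have : Fact (Nat.Prime 7) := ⟨by norm_num⟩
  have hι : Nonempty ι := hC.nonempty
  obtain ⟨ω, a, b, k, g₀, hrel, La, Lb, Lk, Lg, hωP⟩ := exists_rel (C := C) hZ
  have hω1 : ω ≠ 1 := by
    rintro rfl
    apply omega_ne_one hC hZ hz La Lb
    rw [hrel.ab, sc_one, one_mul]
  have hω1' : ω⁻¹ ≠ 1 := fun h => hω1 (inv_eq_one.1 h)
  have hba : b * a * b⁻¹ = sc ω⁻¹ * a := by
    have h1 := hrel.ab
    rw [mul_inv_eq_iff_eq_mul, mul_assoc, h1, ← mul_assoc, ← sc_mul, inv_mul_cancel, sc_one, one_mul]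
  -- conjugation of lifts
  have cj : ∀ {g x : GL ι F} {σ τ : alternatingGroup (Fin 7)}, C.L g σ → C.L x τ → (∃ γ, γ * σ * γ⁻¹ = τ) →
      ∃ (y : GL ι F) (c : Fˣ), sc c ∈ P ∧ y * g * y⁻¹ = sc c * x := by
    rintro g x σ τ hg hx ⟨γ, hγ⟩
    obtain ⟨y, hy⟩ := C.exists_lift γ
    obtain ⟨c, hc, h⟩ := (L_congr (hg.conj hy) hγ).exists_sc hx
    exact ⟨y, c, hc, h⟩
  have scal : ∀ (c : Fˣ) (g : GL ι F), tr (sc c * g) = (c : F) * tr g := fun c g =>
    tr_smul (by rw [Units.val_mul, coe_sc, smul_mul_assoc, one_mul])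
  have zero : ∀ {g x : GL ι F} {σ τ : alternatingGroup (Fin 7)}, C.L g σ → C.L x τ → (∃ γ, γ * σ * γ⁻¹ = τ) →
      tr x = 0 → tr g = 0 := by
    intro g x σ τ hg hx h h0
    obtain ⟨y, c, -, h1⟩ := cj hg hx h
    rw [← tr_conj y g, h1, scal, h0, mul_zero]
  have hta : tr a = 0 := tr_zero hω1' hba
  have htab : tr (a * b) = 0 := by
    refine tr_zero (y := a) hω1 ?_
    have h1 : a * (a * b) * a⁻¹ = a * (a * b) * a⁻¹ := rfl
    calc a * (a * b) * a⁻¹ = a * (sc ω * (b * a)) * a⁻¹ := by rw [hrel.ab]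
      _ = sc ω * (a * b) := by rw [← mul_assoc a, ← sc_comm]; group
  have hab : C.L (a * b) r33 := L_congr (La.mul Lb) r33_eq.symm
  apply Fr.of_reg' 7
  intro g hgP hreg
  have hpow : tr (g ^ 7) = tr g ^ 7 := by
    have := tr_pow_char (p := 7) g 1
    rw [pow_one] at this
    exact this
  rw [← hpow]
  obtain ⟨σ, hσ⟩ := Cov.L.of_mem C hgP
  rcases reps' σ with h7 | ⟨γ, r, hr, hγ⟩
  · -- order seven
    have h1 := hσ.pow 7
    rw [h7, Cov.L.one_iff] at h1
    obtain ⟨hm, c, hc⟩ := h1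
    have hc3 := hZ c (hc ▸ hm)
    have h2 : g ^ 21 = 1 := by rw [show 21 = 7 * 3 from rfl, pow_mul, hc, ← sc_pow, hc3, sc_one]
    have h3 : orderOf g ∣ 3 := by
      have h4 : orderOf g ∣ 7 * 3 := orderOf_dvd_of_pow_eq_one h2
      have h5 : (orderOf g).Coprime 7 := by
        rw [Nat.coprime_comm, Nat.Prime.coprime_iff_not_dvd (by norm_num)]
        exact hreg
      exact h5.dvd_of_dvd_mul_left h4
    have h4 : g ^ 3 = 1 := orderOf_dvd_iff_pow_eq_one.1 h3
    have h5 : g ^ 7 = g := by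
      have : g ^ 7 = (g ^ 3) ^ 2 * g := by rw [← pow_mul, ← pow_succ]
      rw [this, h4, one_pow, one_mul]
    rw [h5]
  · have back : ∀ {δ : alternatingGroup (Fin 7)}, δ * r * δ⁻¹ = r ^ 7 →
        (γ⁻¹ * δ * γ) * σ * (γ⁻¹ * δ * γ)⁻¹ = σ ^ 7 := by
      intro δ hδ
      have h1 : σ = γ⁻¹ * r * γ := by rw [← hγ]; group
      have h2 : σ ^ 7 = γ⁻¹ * r ^ 7 * γ := by
        rw [h1]
        have := conj_pow (i := 7) (a := γ⁻¹) (b := r)
        rw [inv_inv] at this
        exact this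
      rw [h2, ← hδ, h1]
      group
    have back20 : r ^ 20 = 1 → σ ^ 20 = 1 := by
      intro h
      have h1 : σ = γ⁻¹ * r * (γ⁻¹)⁻¹ := by rw [← hγ]; group
      rw [h1, conj_pow, h, mul_one, mul_inv_cancel]
    rcases hr with rfl | rfl | rfl | rfl | rfl | rfl
    · have h1 : tr g = 0 := zero hσ La ⟨γ, hγ⟩ hta
      have h2 : tr (g ^ 7) = 0 := zero (hσ.pow 7) La ⟨γ, by rw [← conj_pow, hγ, pow3]⟩ hta
      rw [h1, h2]
    · have h1 : tr g = 0 := zero hσ hab ⟨γ, hγ⟩ htab
      have h2 : tr (g ^ 7) = 0 := zero (hσ.pow 7) hab ⟨γ, by rw [← conj_pow, hγ, pow33]⟩ htab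
      rw [h1, h2]
    · -- order six
      obtain ⟨y, c, hc, h1⟩ := cj (hσ.pow 2) (La.pow 2) ⟨γ, by rw [← conj_pow, hγ, pow322.2]⟩
      have hc3 := hZ c hc
      have h2 : (g ^ 2) ^ 3 = 1 := by
        have h3 : (y * g ^ 2 * y⁻¹) ^ 3 = 1 := by
          rw [h1, (show Commute (sc c) (a ^ 2) from sc_comm c _).mul_pow, ← sc_pow, hc3, sc_one, one_mul, ← pow_mul,
            mul_comm, pow_mul, hrel.a3, one_pow]
        rw [conj_pow, mul_inv_eq_one] at h3
        exact mul_eq_left.1 h3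
      have h5 : g ^ 7 = g := by
        have : g ^ 7 = (g ^ 2) ^ 3 * g := by rw [← pow_mul, ← pow_succ]
        rw [this, h2, one_mul]
      rw [h5]
    · exact good_of_conj hZ (back (δ := 1) (by rw [pow22.1]; group)) (back20 pow22.2) hσ
    · exact good_of_conj hZ (back pow42.1) (back20 pow42.2) hσ
    · exact good_of_conj hZ (back pow5.1) (back20 pow5.2) hσ

end fr

section main

variable {ι : Type} [Fintype ι] [DecidableEq ι] {F : Type*} [Field F] [Finite F] {P : Subgroup (GL ι F)}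

/-- the scalars of `P` have order dividing six and `n` -/
theorem scalars_dvd (hC : Core P) (e : Soc P ≃* alternatingGroup (Fin 7)) {c : Fˣ} (hc : (sc c : GL ι F) ∈ P) :
    c ^ 6 = 1 ∧ c ^ Fintype.card ι = 1 := by
  have hι : Nonempty ι := hC.nonempty
  have h1 := hC.card_scalars_dvd e (S2116.result 7 (Or.inr rfl))
  rw [show Nat.card (Multiplicative (ZMod 6)) = 6 from Nat.card_zmod 6] at h1
  have hz : (⟨sc c, hc⟩ : P) ∈ (scalars ι F).subgroupOf P := sc_mem_scalars c
  have h2 : (⟨sc c, hc⟩ : P) ^ 6 = 1 := by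
    have h4 : (⟨⟨sc c, hc⟩, hz⟩ : (scalars ι F).subgroupOf P) ^ Nat.card ((scalars ι F).subgroupOf P) = 1 :=
      pow_card_eq_one'
    have h5 : (⟨sc c, hc⟩ : P) ^ Nat.card ((scalars ι F).subgroupOf P) = 1 := congrArg Subtype.val h4
    obtain ⟨m, hm⟩ := h1
    rw [hm, pow_mul, h5, one_pow]
  have h4 := hC.pow_card hz
  have h2' : (sc (c ^ 6) : GL ι F) = sc 1 := by rw [sc_one, sc_pow]; exact congrArg Subtype.val h2
  have h4' : (sc (c ^ Fintype.card ι) : GL ι F) = sc 1 := by rw [sc_one, sc_pow]; exact congrArg Subtype.val h4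
  exact ⟨sc_inj h2', sc_inj h4'⟩

/-- **`3.A₇` in dimension nine.** -/
theorem nine_three (hC : Core P) (e : Soc P ≃* alternatingGroup (Fin 7)) (hn : Fintype.card ι = 9)
    (hz : ∃ c : Fˣ, c ≠ 1 ∧ (sc c : GL ι F) ∈ P) : (7 : F) = 0 ∧ Fr P 7 := by
  have hZ : Z3 P := by
    intro c hc
    obtain ⟨h1, h2⟩ := scalars_dvd hC e hc
    rw [hn] at h2
    have h3 : c ^ 3 = c ^ 9 := by
      have : c ^ 9 = c ^ 6 * c ^ 3 := by rw [← pow_add]
      rw [this, h1, one_mul]
    rw [h3, h2]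
  obtain ⟨W, ω, x, d₀, d₁, d₂, t, D, hW⟩ := exists_dat hC (Cov.of e) hZ hz
  rw [hn] at hW
  have hW3 : Module.finrank F W = 3 := by omega
  by_cases h2 : (2 : F) = 0
  · exact (D.not_two hW3 h2).elim
  · have h7 := D.seven hW3 h2
    have : CharP F 7 := by
      have h8 : ringChar F = 7 := CharP.ringChar_of_prime_eq_zero (by norm_num) (by exact_mod_cast h7)
      rw [← h8]
      exact ringChar.charP F
    exact ⟨h7, fr_seven hC (Cov.of e) hZ hz⟩

/-- **`A₇` and its covers in dimension nine.** -/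
theorem nine (p : ℕ) [Fact p.Prime] [CharP F p] (hC : Core P) (e : Soc P ≃* alternatingGroup (Fin 7))
    (hn : Fintype.card ι = 9) : SD P ∨ (p = 7 ∧ Fr P 7 ∧ ∃ c : Fˣ, c ≠ 1 ∧ (sc c : GL ι F) ∈ P) := by
  by_cases hz : ∃ c : Fˣ, c ≠ 1 ∧ (sc c : GL ι F) ∈ P
  · right
    obtain ⟨h1, h2⟩ := nine_three hC e hn hz
    refine ⟨?_, h2, hz⟩
    have h3 : ((7 : ℕ) : F) = 0 := by exact_mod_cast h1
    rw [CharP.cast_eq_zero_iff F p] at h3
    exact (Nat.prime_dvd_prime_iff_eq (Fact.out) (by norm_num)).1 h3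
  · left
    push Not at hz
    rcases A7Main.le_two p hC e (fun g hg hs => by
      obtain ⟨c, rfl⟩ := mem_scalars.1 hs
      by_cases hc : c = 1
      · rw [hc, sc_one, one_mul]
      · exact absurd hg (hz c hc)) with h | ⟨h, -⟩
    · exact h
    · rw [hn] at h
      omega

end main

end Cfsg.Agent.H637.Three
end
end
end

-- part: H108/Nine/Un
section
set_option linter.all false
open scoped Cfsg.Agent.FastGrp

-- part: H108/Nine/Ten
section
/-!
Tensors of size `3 × 3` as vectors of length nine, and the images of root elements.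
-/

set_option autoImplicit false
set_option linter.unusedSectionVars false

namespace Cfsg.Agent.H108.Nine

open Matrix
open scoped Kronecker

variable {F : Type*} [Field F]

/-- `a ⊗ b` as a `9 × 9` matrix (the same as `Cfsg.Agent.H920.Nine.kron9`) -/
def kr (a b : Matrix (Fin 3) (Fin 3) F) : Matrix (Fin 9) (Fin 9) F :=
  Matrix.reindex finProdFinEquiv finProdFinEquiv (a ⊗ₖ b)

/-- `u ⊗ v` as a vector of length nine -/
def ten (u v : Fin 3 → F) : Fin 9 → F :=
  fun k => u ((finProdFinEquiv (m := 3) (n := 3)).symm k).1 * v ((finProdFinEquiv (m := 3) (n := 3)).symm k).2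

/-- index of the pair -/
def ix (i j : Fin 3) : Fin 9 := (finProdFinEquiv (i, j) : Fin (3 * 3))

theorem ten_ix (u v : Fin 3 → F) (i j : Fin 3) : ten u v (ix i j) = u i * v j := by
  change u ((finProdFinEquiv (m := 3) (n := 3)).symm (finProdFinEquiv (i, j))).1 *
    v ((finProdFinEquiv (m := 3) (n := 3)).symm (finProdFinEquiv (i, j))).2 = _
  rw [Equiv.symm_apply_apply]

theorem exists_ix (k : Fin 9) : ∃ i j : Fin 3, k = ix i j := by
  obtain ⟨⟨i, j⟩, h⟩ := (finProdFinEquiv (m := 3) (n := 3)).surjective k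
  exact ⟨i, j, h.symm⟩

theorem ix_injective {i j k l : Fin 3} (h : ix i j = ix k l) : i = k ∧ j = l := by
  have := (finProdFinEquiv (m := 3) (n := 3)).injective h
  exact Prod.ext_iff.1 this

theorem ext_ix {z w : Fin 9 → F} (h : ∀ i j, z (ix i j) = w (ix i j)) : z = w := by
  funext k
  obtain ⟨i, j, rfl⟩ := exists_ix k
  exact h i j

theorem kr_ix (a b : Matrix (Fin 3) (Fin 3) F) (i j k l : Fin 3) :
    kr a b (ix i j) (ix k l) = a i k * b j l := by
  unfold kr ix
  rw [Matrix.reindex_apply, Matrix.submatrix_apply, Equiv.symm_apply_apply, Equiv.symm_apply_apply]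
  rfl

theorem sum_ix {M : Type*} [AddCommMonoid M] (f : Fin 9 → M) : ∑ k, f k = ∑ i, ∑ j, f (ix i j) := by
  rw [← Fintype.sum_prod_type']
  exact (Equiv.sum_comp (finProdFinEquiv (m := 3) (n := 3)) f).symm

theorem kr_mulVec_ix (a b : Matrix (Fin 3) (Fin 3) F) (z : Fin 9 → F) (i j : Fin 3) :
    (kr a b *ᵥ z) (ix i j) = ∑ k, ∑ l, a i k * b j l * z (ix k l) := by
  rw [Matrix.mulVec, dotProduct, sum_ix]
  simp only [kr_ix]

theorem kr_mulVec_ten (a b : Matrix (Fin 3) (Fin 3) F) (u v : Fin 3 → F) :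
    kr a b *ᵥ ten u v = ten (a *ᵥ u) (b *ᵥ v) := by
  apply ext_ix
  intro i j
  rw [kr_mulVec_ix, ten_ix, Matrix.mulVec, Matrix.mulVec, dotProduct, dotProduct, Finset.sum_mul_sum]
  refine Finset.sum_congr rfl fun k _ => Finset.sum_congr rfl fun l _ => ?_
  rw [ten_ix]
  ring

theorem kr_mul (a b a' b' : Matrix (Fin 3) (Fin 3) F) : kr (a * a') (b * b') = kr a b * kr a' b' := by
  unfold kr
  rw [Matrix.mul_kronecker_mul, Matrix.reindex_apply, Matrix.reindex_apply, Matrix.reindex_apply,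
    Matrix.submatrix_mul_equiv]

theorem kr_one : kr (1 : Matrix (Fin 3) (Fin 3) F) 1 = 1 := by
  unfold kr
  rw [Matrix.one_kronecker_one, Matrix.reindex_apply]
  exact Matrix.submatrix_one_equiv _

theorem mat_ext_ix {A B : Matrix (Fin 9) (Fin 9) F} (h : ∀ i j k l, A (ix i j) (ix k l) = B (ix i j) (ix k l)) :
    A = B := by
  ext r s
  obtain ⟨i, j, rfl⟩ := exists_ix r
  obtain ⟨k, l, rfl⟩ := exists_ix s
  exact h i j k l

theorem kr_smul_left (c : F) (a b : Matrix (Fin 3) (Fin 3) F) : kr (c • a) b = c • kr a b := by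
  apply mat_ext_ix
  intro i j k l
  rw [Matrix.smul_apply, kr_ix, kr_ix, Matrix.smul_apply, smul_eq_mul, smul_eq_mul]
  ring

theorem kr_smul_right (c : F) (a b : Matrix (Fin 3) (Fin 3) F) : kr a (c • b) = c • kr a b := by
  apply mat_ext_ix
  intro i j k l
  rw [Matrix.smul_apply, kr_ix, kr_ix, Matrix.smul_apply, smul_eq_mul, smul_eq_mul]
  ring

theorem kr_add_left (a a' b : Matrix (Fin 3) (Fin 3) F) : kr (a + a') b = kr a b + kr a' b := by
  apply mat_ext_ix
  intro i j k l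
  rw [Matrix.add_apply, kr_ix, kr_ix, kr_ix, Matrix.add_apply]
  ring

theorem kr_add_right (a b b' : Matrix (Fin 3) (Fin 3) F) : kr a (b + b') = kr a b + kr a b' := by
  apply mat_ext_ix
  intro i j k l
  rw [Matrix.add_apply, kr_ix, kr_ix, kr_ix, Matrix.add_apply]
  ring

theorem det_kr (a b : Matrix (Fin 3) (Fin 3) F) : (kr a b).det = a.det ^ 3 * b.det ^ 3 := by
  unfold kr
  rw [Matrix.det_reindex_self, Matrix.det_kronecker]
  simp

theorem kr_trans (a b : Matrix (Fin 3) (Fin 3) F) : (kr a b)ᵀ = kr aᵀ bᵀ := by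
  apply mat_ext_ix
  intro i j k l
  rw [Matrix.transpose_apply, kr_ix, kr_ix, Matrix.transpose_apply, Matrix.transpose_apply]

theorem kr_map (a b : Matrix (Fin 3) (Fin 3) F) (σ : F →+* F) : (kr a b).map σ = kr (a.map σ) (b.map σ) := by
  apply mat_ext_ix
  intro i j k l
  rw [Matrix.map_apply, kr_ix, kr_ix, Matrix.map_apply, Matrix.map_apply, map_mul]

/-- `a ⊗ b` is a scalar only if `a` and `b` are. -/
theorem kr_eq {a b a' b' : Matrix (Fin 3) (Fin 3) F} (ha : a ≠ 0) (hb : b ≠ 0) (h : kr a b = kr a' b') :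
    ∃ c : F, c ≠ 0 ∧ a' = c • a ∧ b' = c⁻¹ • b := by
  obtain ⟨i, k, hik⟩ : ∃ i k, a i k ≠ 0 := by
    by_contra h0
    push Not at h0
    exact ha (by ext i k; exact h0 i k)
  obtain ⟨j, l, hjl⟩ : ∃ j l, b j l ≠ 0 := by
    by_contra h0
    push Not at h0
    exact hb (by ext i k; exact h0 i k)
  have e : ∀ i j k l, a i k * b j l = a' i k * b' j l := by
    intro i j k l
    rw [← kr_ix, ← kr_ix, h]
  have h1 : a' i k * b' j l ≠ 0 := by
    rw [← e]
    exact mul_ne_zero hik hjl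
  have ha' : a' i k ≠ 0 := left_ne_zero_of_mul h1
  have hb' : b' j l ≠ 0 := right_ne_zero_of_mul h1
  refine ⟨b j l / b' j l, div_ne_zero hjl hb', ?_, ?_⟩
  · ext r s
    rw [Matrix.smul_apply, smul_eq_mul, div_mul_eq_mul_div, eq_div_iff hb']
    have := e r j s l
    linear_combination -this
  · ext r s
    rw [Matrix.smul_apply, smul_eq_mul, inv_div, div_mul_eq_mul_div, eq_div_iff hjl]
    have h2 := e i r k s
    have h3 := e i j k l
    apply mul_left_cancel₀ hik
    apply mul_left_cancel₀ ha'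
    linear_combination a' i k * b' r s * h3 - a' i k * b' j l * h2

end Cfsg.Agent.H108.Nine
end

-- part: H108/Nine/Root
section
/-!
Root elements of `x ⊗ x^τ` and their images under a conjugation.
-/

set_option autoImplicit false
set_option linter.unusedSectionVars false

namespace Cfsg.Agent.H108.Nine

open Matrix

variable {F : Type*} [Field F]

/-- contraction of the first factor -/
def con1 (φ : Fin 3 → F) (z : Fin 9 → F) : Fin 3 → F := fun j => ∑ i, φ i * z (ix i j)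

/-- contraction of the second factor -/
def con2 (φ : Fin 3 → F) (z : Fin 9 → F) : Fin 3 → F := fun i => ∑ j, φ j * z (ix i j)

theorem mulVec_left (a φ : Fin 3 → F) (z : Fin 9 → F) :
    kr (vecMulVec a φ) 1 *ᵥ z = ten a (con1 φ z) := by
  apply ext_ix
  intro i j
  rw [kr_mulVec_ix, ten_ix, con1, Finset.mul_sum]
  refine Finset.sum_congr rfl fun k _ => ?_
  rw [Finset.sum_eq_single j, Matrix.one_apply_eq, vecMulVec_apply]
  · ring
  · intro l _ hl
    rw [Matrix.one_apply_ne hl.symm]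
    ring
  · intro h
    exact (h (Finset.mem_univ _)).elim

theorem mulVec_right (a φ : Fin 3 → F) (z : Fin 9 → F) :
    kr 1 (vecMulVec a φ) *ᵥ z = ten (con2 φ z) a := by
  apply ext_ix
  intro i j
  rw [kr_mulVec_ix, ten_ix, con2, Finset.sum_mul, Finset.sum_eq_single i]
  · refine Finset.sum_congr rfl fun k _ => ?_
    rw [Matrix.one_apply_eq, vecMulVec_apply]
    ring
  · intro l _ hl
    refine Finset.sum_eq_zero fun k _ => ?_
    rw [Matrix.one_apply_ne hl.symm]
    ring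
  · intro h
    exact (h (Finset.mem_univ _)).elim

theorem mulVec_both (a φ b ψ : Fin 3 → F) (z : Fin 9 → F) :
    kr (vecMulVec a φ) (vecMulVec b ψ) *ᵥ z = (φ ⬝ᵥ con2 ψ z) • ten a b := by
  apply ext_ix
  intro i j
  rw [kr_mulVec_ix, Pi.smul_apply, ten_ix, smul_eq_mul, dotProduct, Finset.sum_mul]
  refine Finset.sum_congr rfl fun k _ => ?_
  rw [con2, Finset.mul_sum, Finset.sum_mul]
  refine Finset.sum_congr rfl fun l _ => ?_
  rw [vecMulVec_apply, vecMulVec_apply]
  ring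

theorem con1_ten (φ u v : Fin 3 → F) : con1 φ (ten u v) = (φ ⬝ᵥ u) • v := by
  funext j
  rw [con1, Pi.smul_apply, smul_eq_mul, dotProduct, Finset.sum_mul]
  refine Finset.sum_congr rfl fun k _ => ?_
  rw [ten_ix]
  ring

theorem con2_ten (φ u v : Fin 3 → F) : con2 φ (ten u v) = (φ ⬝ᵥ v) • u := by
  funext j
  rw [con2, Pi.smul_apply, smul_eq_mul, dotProduct, Finset.sum_mul]
  refine Finset.sum_congr rfl fun k _ => ?_
  rw [ten_ix]
  ring

theorem ten_smul_left (c : F) (u v : Fin 3 → F) : ten (c • u) v = c • ten u v := by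
  apply ext_ix
  intro i j
  rw [Pi.smul_apply, ten_ix, ten_ix, Pi.smul_apply, smul_eq_mul, smul_eq_mul]
  ring

theorem ten_smul_right (c : F) (u v : Fin 3 → F) : ten u (c • v) = c • ten u v := by
  apply ext_ix
  intro i j
  rw [Pi.smul_apply, ten_ix, ten_ix, Pi.smul_apply, smul_eq_mul, smul_eq_mul]
  ring

theorem ten_add_left (u u' v : Fin 3 → F) : ten (u + u') v = ten u v + ten u' v := by
  apply ext_ix
  intro i j
  rw [Pi.add_apply, ten_ix, ten_ix, ten_ix, Pi.add_apply]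
  ring

theorem ten_add_right (u v v' : Fin 3 → F) : ten u (v + v') = ten u v + ten u v' := by
  apply ext_ix
  intro i j
  rw [Pi.add_apply, ten_ix, ten_ix, ten_ix, Pi.add_apply]
  ring

/-- `u ⊗ ·` as a linear map -/
def tenR (u : Fin 3 → F) : (Fin 3 → F) →ₗ[F] (Fin 9 → F) where
  toFun := ten u
  map_add' := ten_add_right u
  map_smul' c v := ten_smul_right c u v

/-- `· ⊗ v` as a linear map -/
def tenL (v : Fin 3 → F) : (Fin 3 → F) →ₗ[F] (Fin 9 → F) where
  toFun := fun u => ten u v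
  map_add' u u' := ten_add_left u u' v
  map_smul' c u := ten_smul_left c u v

theorem exists_dot_one {φ : Fin 3 → F} (h : φ ≠ 0) : ∃ x : Fin 3 → F, φ ⬝ᵥ x = 1 := by
  obtain ⟨i, hi⟩ := Function.ne_iff.1 h
  refine ⟨Pi.single i (φ i)⁻¹, ?_⟩
  rw [dotProduct_single]
  exact mul_inv_cancel₀ hi

theorem exists_third : ∀ j k : Fin 3, ∃ l : Fin 3, l ≠ k ∧ j ≠ l := by decide

/-- a second vector of the kernel of `φ`, and a functional killing `a` -/
theorem exists_mid {a φ : Fin 3 → F} (ha : a ≠ 0) (hφ : φ ≠ 0) (h : φ ⬝ᵥ a = 0) :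
    ∃ w θ : Fin 3 → F, φ ⬝ᵥ w = 0 ∧ θ ⬝ᵥ w = 1 ∧ θ ⬝ᵥ a = 0 := by
  -- a vector `w` in the kernel of `φ`, not a multiple of `a`
  obtain ⟨w, hw, hwa⟩ : ∃ w : Fin 3 → F, φ ⬝ᵥ w = 0 ∧ ∃ i j, w i * a j ≠ w j * a i := by
    by_contra hcon
    push Not at hcon
    -- the vectors `φ_k e_l - φ_l e_k`
    have key : ∀ k l i j : Fin 3, (φ k * (Pi.single l (1 : F) : Fin 3 → F) i - φ l * (Pi.single k (1 : F) : Fin 3 → F) i) * a j =
        (φ k * (Pi.single l (1 : F) : Fin 3 → F) j - φ l * (Pi.single k (1 : F) : Fin 3 → F) j) * a i := by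
      intro k l i j
      have := hcon (φ k • Pi.single l 1 - φ l • Pi.single k 1) (by
        rw [dotProduct_sub, dotProduct_smul, dotProduct_smul, dotProduct_single, dotProduct_single, smul_eq_mul,
          smul_eq_mul]
        ring) i j
      simpa only [Pi.sub_apply, Pi.smul_apply, smul_eq_mul] using this
    obtain ⟨k, hk⟩ := Function.ne_iff.1 hφ
    change φ k ≠ 0 at hk
    -- for `l ≠ k`: all entries of `a` different from `l, k` vanish, ...
    have h1 : ∀ l, l ≠ k → ∀ j, j ≠ l → j ≠ k → a j = 0 := by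
      intro l hl j hjl hjk
      have := key k l l j
      rw [Pi.single_eq_same, Pi.single_eq_of_ne hl, Pi.single_eq_of_ne hjl, Pi.single_eq_of_ne hjk] at this
      have h2 : φ k * a j = 0 := by linear_combination this
      exact (mul_eq_zero.1 h2).resolve_left hk
    have h3 : ∀ j, j ≠ k → a j = 0 := by
      intro j hj
      obtain ⟨l, hl, hlj⟩ := exists_third j k
      exact h1 l hl j hlj hj
    apply ha
    funext j
    by_cases hj : j = k
    · subst hj
      rw [dotProduct, Finset.sum_eq_single j] at h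
      · exact (mul_eq_zero.1 h).resolve_left hk
      · intro b _ hb
        rw [h3 b hb, mul_zero]
      · intro h'
        exact (h' (Finset.mem_univ _)).elim
    · exact h3 j hj
  obtain ⟨i, j, hij⟩ := hwa
  have hne : i ≠ j := by
    rintro rfl
    exact hij rfl
  have hd : w i * a j - w j * a i ≠ 0 := sub_ne_zero.2 hij
  refine ⟨w, (w i * a j - w j * a i)⁻¹ • (a j • Pi.single i 1 - a i • Pi.single j 1), hw, ?_, ?_⟩
  · rw [smul_dotProduct, sub_dotProduct, smul_dotProduct, smul_dotProduct, single_dotProduct, single_dotProduct,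
      smul_eq_mul, smul_eq_mul, smul_eq_mul, inv_mul_eq_div, div_eq_one_iff_eq hd]
    ring
  · rw [smul_dotProduct, sub_dotProduct, smul_dotProduct, smul_dotProduct, single_dotProduct, single_dotProduct,
      smul_eq_mul, smul_eq_mul, smul_eq_mul]
    ring

/-- **Rank lemma**: `α G ⊗ 1 + β 1 ⊗ G' + γ G ⊗ G'` has rank three only if `α β = 0`. -/
theorem rank_lemma {b ψ b' ψ' : Fin 3 → F} (hb : b ≠ 0) (hψ : ψ ≠ 0) (hψb : ψ ⬝ᵥ b = 0)
    (hb' : b' ≠ 0) (hψ' : ψ' ≠ 0) (α β γ : F)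
    (K : (Fin 3 → F) →ₗ[F] (Fin 9 → F))
    (hK : ∀ z, ∃ v, (α • kr (vecMulVec b ψ) 1 + β • kr 1 (vecMulVec b' ψ') +
      γ • kr (vecMulVec b ψ) (vecMulVec b' ψ')) *ᵥ z = K v) : α = 0 ∨ β = 0 := by
  by_contra hcon
  push Not at hcon
  obtain ⟨hα, hβ⟩ := hcon
  obtain ⟨x, hx⟩ := exists_dot_one hψ
  obtain ⟨x', hx'⟩ := exists_dot_one hψ'
  obtain ⟨w, θ, hw, hθw, hθb⟩ := exists_mid hb hψ hψb
  set R := α • kr (vecMulVec b ψ) 1 + β • kr 1 (vecMulVec b' ψ') +
      γ • kr (vecMulVec b ψ) (vecMulVec b' ψ') with hR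
  let J : ((Fin 3 → F) × F) →ₗ[F] (Fin 9 → F) :=
    (tenR x).comp (LinearMap.fst F _ _) + (LinearMap.snd F (Fin 3 → F) F).smulRight (ten w x')
  have hJ : ∀ y c, J (y, c) = ten x y + c • ten w x' := fun y c => rfl
  let RJ : ((Fin 3 → F) × F) →ₗ[F] (Fin 9 → F) := (Matrix.mulVecLin R).comp J
  have hRJ : ∀ y c, RJ (y, c) = α • ten b y + ((ψ' ⬝ᵥ y) * β) • ten x b' +
      ((ψ' ⬝ᵥ y) * γ) • ten b b' + (c * β) • ten w b' := by
    intro y c
    change R *ᵥ (ten x y + c • ten w x') = _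
    rw [hR, Matrix.mulVec_add, Matrix.mulVec_smul]
    simp only [Matrix.add_mulVec, Matrix.smul_mulVec, mulVec_left, mulVec_right, mulVec_both, con1_ten, con2_ten,
      hx, hx', hw, one_smul, zero_smul, dotProduct_smul, smul_eq_mul, mul_one, ten_smul_left]
    have e0 : ten b (0 : Fin 3 → F) = 0 := by
      have := ten_smul_right 0 b 0
      rwa [zero_smul, zero_smul] at this
    rw [e0]
    module
  have hinj : Function.Injective RJ := by
    rw [← LinearMap.ker_eq_bot, LinearMap.ker_eq_bot']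
    rintro ⟨y, c⟩ h0
    rw [hRJ] at h0
    -- contract with `ψ`
    have h1 : ∀ j, (ψ' ⬝ᵥ y) * β * b' j = 0 := by
      intro j
      generalize ψ' ⬝ᵥ y = δ at h0 ⊢
      have e : ∑ i, ψ i * ((α • ten b y + (δ * β) • ten x b' +
        (δ * γ) • ten b b' + (c * β) • ten w b') (ix i j)) = 0 := by
        rw [h0]
        simp
      have e2 : ∑ i, ψ i * ((α • ten b y + (δ * β) • ten x b' +
        (δ * γ) • ten b b' + (c * β) • ten w b') (ix i j)) =
          (α * y j) * (ψ ⬝ᵥ b) + (δ * β * b' j) * (ψ ⬝ᵥ x) +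
          (δ * γ * b' j) * (ψ ⬝ᵥ b) + (c * β * b' j) * (ψ ⬝ᵥ w) := by
        rw [dotProduct, dotProduct, dotProduct, Finset.mul_sum, Finset.mul_sum, Finset.mul_sum, Finset.mul_sum,
          ← Finset.sum_add_distrib, ← Finset.sum_add_distrib, ← Finset.sum_add_distrib]
        refine Finset.sum_congr rfl fun i _ => ?_
        simp only [Pi.add_apply, Pi.smul_apply, smul_eq_mul, ten_ix]
        ring
      rw [e, hψb, hx, hw] at e2
      linear_combination -e2
    obtain ⟨j0, hj0⟩ := Function.ne_iff.1 hb'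
    change b' j0 ≠ 0 at hj0
    have h2 : ψ' ⬝ᵥ y = 0 := by
      have := h1 j0
      rcases mul_eq_zero.1 this with h | h
      · exact (mul_eq_zero.1 h).resolve_right hβ
      · exact (hj0 h).elim
    have h3 : ∀ i j, α * (b i * y j) + c * β * (w i * b' j) = 0 := by
      intro i j
      have := congrFun h0 (ix i j)
      simp only [Pi.add_apply, Pi.smul_apply, smul_eq_mul, ten_ix, h2, zero_mul, add_zero, Pi.zero_apply] at this
      exact this
    have h4 : c = 0 := by
      have e : ∑ i, θ i * (α * (b i * y j0) + c * β * (w i * b' j0)) = 0 := by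
        simp [h3]
      have e2 : ∑ i, θ i * (α * (b i * y j0) + c * β * (w i * b' j0)) =
          (α * y j0) * (θ ⬝ᵥ b) + (c * β * b' j0) * (θ ⬝ᵥ w) := by
        rw [dotProduct, dotProduct, Finset.mul_sum, Finset.mul_sum, ← Finset.sum_add_distrib]
        refine Finset.sum_congr rfl fun i _ => ?_
        ring
      rw [e, hθb, hθw] at e2
      have e3 : c * (β * b' j0) = 0 := by linear_combination -e2
      exact (mul_eq_zero.1 e3).resolve_right (mul_ne_zero hβ hj0)
    obtain ⟨i0, hi0⟩ := Function.ne_iff.1 hb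
    change b i0 ≠ 0 at hi0
    have h5 : y = 0 := by
      funext j
      have := h3 i0 j
      rw [h4] at this
      have e : α * b i0 * y j = 0 := by linear_combination this
      exact (mul_eq_zero.1 e).resolve_left (mul_ne_zero hα hi0)
    rw [h4, h5]
    rfl
  have h1 : Module.finrank F (LinearMap.range RJ) = 4 := by
    rw [LinearMap.finrank_range_of_inj hinj]
    simp
  have h2 : LinearMap.range RJ ≤ LinearMap.range K := by
    rintro _ ⟨y, rfl⟩
    obtain ⟨v, hv⟩ := hK (J y)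
    exact ⟨v, hv.symm⟩
  have h3 := Submodule.finrank_mono h2
  have h4 : Module.finrank F (LinearMap.range K) ≤ 3 := by
    have := LinearMap.finrank_range_le K
    simpa using this
  omega

/-- span lemma -/
theorem span_lemma {V : Type*} [AddCommGroup V] [Module F V] (W : Submodule F V) (C1 C2 C3 : V) (τ : F ≃+* F)
    {μ t0 : F} (hμ : τ μ ≠ μ) (ht0 : t0 ≠ 0)
    (h : ∀ t : F, t = t0 ∨ t = μ * t0 ∨ t = μ * (μ * t0) → t • C1 + τ t • C2 + (t * τ t) • C3 ∈ W) :
    C1 ∈ W ∧ C2 ∈ W := by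
  have hμ0 : μ ≠ 0 := by
    rintro rfl
    exact hμ (map_zero τ)
  have hμ1 : μ ≠ 1 := by
    rintro rfl
    exact hμ (map_one τ)
  have hτμ0 : τ μ ≠ 0 := (map_ne_zero τ).2 hμ0
  have hτμ1 : τ μ ≠ 1 := by
    intro h1
    exact hμ1 ((map_eq_one_iff τ τ.injective).1 h1)
  have hτt0 : τ t0 ≠ 0 := (map_ne_zero τ).2 ht0
  have h0 := h t0 (Or.inl rfl)
  have h1 := h (μ * t0) (Or.inr (Or.inl rfl))
  have h2 := h (μ * (μ * t0)) (Or.inr (Or.inr rfl))
  rw [map_mul] at h1
  rw [map_mul, map_mul] at h2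
  -- eliminate `C3`
  have h3 : (μ * (1 - τ μ) * t0) • C1 + (τ μ * (1 - μ) * τ t0) • C2 ∈ W := by
    have := W.sub_mem h1 (W.smul_mem (μ * τ μ) h0)
    convert this using 1
    module
  have h4 : (μ * (1 - τ μ) * (μ * t0)) • C1 + (τ μ * (1 - μ) * (τ μ * τ t0)) • C2 ∈ W := by
    have := W.sub_mem h2 (W.smul_mem (μ * τ μ) h1)
    convert this using 1
    module
  constructor
  · have h5 : (μ * (1 - τ μ) * t0 * (τ μ - μ)) • C1 ∈ W := by
      have := W.sub_mem (W.smul_mem (τ μ) h3) h4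
      convert this using 1
      module
    have h6 : μ * (1 - τ μ) * t0 * (τ μ - μ) ≠ 0 :=
      mul_ne_zero (mul_ne_zero (mul_ne_zero hμ0 (sub_ne_zero.2 hτμ1.symm)) ht0) (sub_ne_zero.2 hμ)
    have := W.smul_mem (μ * (1 - τ μ) * t0 * (τ μ - μ))⁻¹ h5
    rwa [smul_smul, inv_mul_cancel₀ h6, one_smul] at this
  · have h5 : (τ μ * (1 - μ) * τ t0 * (μ - τ μ)) • C2 ∈ W := by
      have := W.sub_mem (W.smul_mem μ h3) h4
      convert this using 1
      module
    have h6 : τ μ * (1 - μ) * τ t0 * (μ - τ μ) ≠ 0 :=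
      mul_ne_zero (mul_ne_zero (mul_ne_zero hτμ0 (sub_ne_zero.2 hμ1.symm)) hτt0) (sub_ne_zero.2 hμ.symm)
    have := W.smul_mem (τ μ * (1 - μ) * τ t0 * (μ - τ μ))⁻¹ h5
    rwa [smul_smul, inv_mul_cancel₀ h6, one_smul] at this

/-- the image of the three-space in the two cases -/
theorem image_cases {b ψ b' ψ' : Fin 3 → F} {α β γ : F} (h : α = 0 ∨ β = 0) {C : Matrix (Fin 9) (Fin 9) F}
    (hC : C = α • kr (vecMulVec b ψ) 1 + β • kr 1 (vecMulVec b' ψ') +
      γ • kr (vecMulVec b ψ) (vecMulVec b' ψ')) :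
    (∀ z, ∃ v, C *ᵥ z = ten b v) ∨ (∀ z, ∃ v, C *ᵥ z = ten v b') := by
  rcases h with h | h
  · right
    intro z
    refine ⟨β • con2 ψ' z + (γ * (ψ ⬝ᵥ con2 ψ' z)) • b, ?_⟩
    rw [hC, h]
    simp only [Matrix.add_mulVec, Matrix.smul_mulVec, mulVec_left, mulVec_right, mulVec_both, ten_add_left,
      ten_smul_left]
    module
  · left
    intro z
    refine ⟨α • con1 ψ z + (γ * (ψ ⬝ᵥ con2 ψ' z)) • b', ?_⟩
    rw [hC, h]
    simp only [Matrix.add_mulVec, Matrix.smul_mulVec, mulVec_left, mulVec_right, mulVec_both, ten_add_right,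
      ten_smul_right]
    module

/-- **Core lemma**: a matrix conjugating a root subgroup of `{x ⊗ x^τ}` to a root subgroup maps the 3-spaces
`a ⊗ B`, `A ⊗ a'` to spaces of the same kind. -/
theorem core {N N' : Matrix (Fin 9) (Fin 9) F} (hN : N' * N = 1) (τ : F ≃+* F)
    {μ t0 : F} (hμ : τ μ ≠ μ) (ht0 : t0 ≠ 0) {a φ a' φ' b ψ b' ψ' : Fin 3 → F}
    (hφ : φ ≠ 0) (hφ' : φ' ≠ 0) (hb : b ≠ 0) (hψ : ψ ≠ 0) (hψb : ψ ⬝ᵥ b = 0)
    (hb' : b' ≠ 0) (hψ' : ψ' ≠ 0)
    (h : ∀ t : F, t = t0 ∨ t = μ * t0 ∨ t = μ * (μ * t0) → ∃ s s' s'' : F,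
      N * (1 + t • kr (vecMulVec a φ) 1 + τ t • kr 1 (vecMulVec a' φ') +
        (t * τ t) • kr (vecMulVec a φ) (vecMulVec a' φ')) =
      (1 + s • kr (vecMulVec b ψ) 1 + s' • kr 1 (vecMulVec b' ψ') +
        s'' • kr (vecMulVec b ψ) (vecMulVec b' ψ')) * N) :
    ((∀ v, ∃ z, N *ᵥ ten a v = ten b z) ∨ (∀ v, ∃ z, N *ᵥ ten a v = ten z b')) ∧
    ((∀ v, ∃ z, N *ᵥ ten v a' = ten b z) ∨ (∀ v, ∃ z, N *ᵥ ten v a' = ten z b')) := by
  have hN' : N * N' = 1 := mul_eq_one_comm.1 hN
  let W : Submodule F (Matrix (Fin 9) (Fin 9) F) :=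
    Submodule.span F {kr (vecMulVec b ψ) 1, kr 1 (vecMulVec b' ψ'), kr (vecMulVec b ψ) (vecMulVec b' ψ')}
  obtain ⟨h1, h2⟩ := span_lemma W (N * kr (vecMulVec a φ) 1 * N') (N * kr 1 (vecMulVec a' φ') * N')
    (N * kr (vecMulVec a φ) (vecMulVec a' φ') * N') τ hμ ht0 (by
    intro t ht
    obtain ⟨s, s', s'', hs⟩ := h t ht
    have h3 : t • (N * kr (vecMulVec a φ) 1 * N') + τ t • (N * kr 1 (vecMulVec a' φ') * N') +
        (t * τ t) • (N * kr (vecMulVec a φ) (vecMulVec a' φ') * N') =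
        s • kr (vecMulVec b ψ) 1 + s' • kr 1 (vecMulVec b' ψ') +
        s'' • kr (vecMulVec b ψ) (vecMulVec b' ψ') := by
      have h4 := congrArg (fun X => X * N') hs
      simp only [Matrix.mul_assoc, hN', Matrix.mul_one] at h4
      simp only [Matrix.mul_add, Matrix.add_mul, Matrix.one_mul, Matrix.mul_smul,
        Matrix.smul_mul, hN', ← Matrix.mul_assoc] at h4
      rw [add_assoc, add_assoc, add_assoc, add_assoc] at h4
      have h5 := add_left_cancel h4
      rw [add_assoc, add_assoc]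
      exact h5
    rw [h3]
    exact Submodule.mem_span_triple.2 ⟨s, s', s'', rfl⟩)
  obtain ⟨α, β, γ, hC1⟩ := Submodule.mem_span_triple.1 h1
  obtain ⟨α', β', γ', hC2⟩ := Submodule.mem_span_triple.1 h2
  constructor
  · have hr := rank_lemma hb hψ hψb hb' hψ' α β γ ((Matrix.mulVecLin N).comp (tenR a)) (by
      intro z
      rw [hC1, ← Matrix.mulVec_mulVec, ← Matrix.mulVec_mulVec, mulVec_left]
      exact ⟨_, rfl⟩)
    obtain ⟨x, hx⟩ := exists_dot_one hφ
    have e : ∀ v, N *ᵥ ten a v = (N * kr (vecMulVec a φ) 1 * N') *ᵥ (N *ᵥ ten x v) := by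
      intro v
      rw [Matrix.mulVec_mulVec, Matrix.mul_assoc, hN, Matrix.mul_one, ← Matrix.mulVec_mulVec, mulVec_left,
        con1_ten, hx, one_smul]
    rcases image_cases hr hC1.symm with h6 | h6
    · left
      intro v
      rw [e]
      exact h6 _
    · right
      intro v
      rw [e]
      exact h6 _
  · have hr := rank_lemma hb hψ hψb hb' hψ' α' β' γ' ((Matrix.mulVecLin N).comp (tenL a')) (by
      intro z
      rw [hC2, ← Matrix.mulVec_mulVec, ← Matrix.mulVec_mulVec, mulVec_right]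
      exact ⟨_, rfl⟩)
    obtain ⟨x, hx⟩ := exists_dot_one hφ'
    have e : ∀ v, N *ᵥ ten v a' = (N * kr 1 (vecMulVec a' φ') * N') *ᵥ (N *ᵥ ten v x) := by
      intro v
      rw [Matrix.mulVec_mulVec, Matrix.mul_assoc, hN, Matrix.mul_one, ← Matrix.mulVec_mulVec, mulVec_right,
        con2_ten, hx, one_smul]
    rcases image_cases hr hC2.symm with h6 | h6
    · left
      intro v
      rw [e]
      exact h6 _
    · right
      intro v
      rw [e]
      exact h6 _

/-- `(1 + t E) ⊗ (1 + s E')` expanded -/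
theorem kr_one_add (E E' : Matrix (Fin 3) (Fin 3) F) (t s : F) :
    kr (1 + t • E) (1 + s • E') = 1 + t • kr E 1 + s • kr 1 E' + (t * s) • kr E E' := by
  rw [kr_add_left, kr_add_right, kr_add_right, kr_one, kr_smul_right, kr_smul_left, kr_smul_left, kr_smul_right,
    smul_smul]
  abel

/-- A decomposable tensor with a modified entry is not decomposable. -/
theorem not_dec {u v : Fin 3 → F} {ζ : F} (hζ : ζ ≠ 1) (hu0 : u 0 ≠ 0) (hu1 : u 1 ≠ 0) (hv0 : v 0 ≠ 0)
    (hv1 : v 1 ≠ 0) {d : Fin 9 → F} (hd00 : d (ix 0 0) = ζ) (hd01 : d (ix 0 1) = 1) (hd10 : d (ix 1 0) = 1)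
    (hd11 : d (ix 1 1) = 1) (x y : Fin 3 → F) : (Matrix.diagonal d) *ᵥ ten u v ≠ ten x y := by
  intro h
  have e : ∀ i j, d (ix i j) * (u i * v j) = x i * y j := by
    intro i j
    have := congrFun h (ix i j)
    rwa [Matrix.mulVec_diagonal, ten_ix, ten_ix] at this
  have h00 := e 0 0
  have h01 := e 0 1
  have h10 := e 1 0
  have h11 := e 1 1
  rw [hd00] at h00
  rw [hd01] at h01
  rw [hd10] at h10
  rw [hd11] at h11
  have h1 : (ζ - 1) * (u 0 * v 0 * (u 1 * v 1)) = 0 := by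
    linear_combination (u 1 * v 1) * h00 + x 0 * y 0 * h11 - (u 1 * v 0) * h01 - (x 0 * y 1) * h10
  exact mul_ne_zero (sub_ne_zero.2 hζ) (mul_ne_zero (mul_ne_zero hu0 hv0) (mul_ne_zero hu1 hv1)) h1

end Cfsg.Agent.H108.Nine
end

-- part: H108/Nine/Common
section
/-!
Groups `{x ⊗ θ(x)}`: induced automorphisms, stabilisers of sets of tensors.
-/

set_option autoImplicit false
set_option linter.unusedSectionVars false

namespace Cfsg.Agent.H108.Nine

open Matrix Cfsg Cfsg.Geo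

/-- Conjugation induces an automorphism of the quotient by the kernel. -/
theorem aut_of_conj {G G' : Type*} [Group G] [Group G'] (Ψ : G →* G') (Z : Subgroup G) [Z.Normal]
    (hker : Ψ.ker = Z) (n : G') (h1 : ∀ x, n * Ψ x * n⁻¹ ∈ Ψ.range) (h2 : ∀ x, n⁻¹ * Ψ x * n ∈ Ψ.range) :
    ∃ α : MulAut (G ⧸ Z), ∀ x y : G, α (QuotientGroup.mk x) = QuotientGroup.mk y → n * Ψ x * n⁻¹ = Ψ y := by
  subst hker
  let e : G ⧸ Ψ.ker ≃* Ψ.range := QuotientGroup.quotientKerEquivRange Ψ
  let c : MulAut Ψ.range :=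
    { toFun := fun x => ⟨n * x * n⁻¹, by obtain ⟨_, y, rfl⟩ := x; exact h1 y⟩
      invFun := fun x => ⟨n⁻¹ * x * n, by obtain ⟨_, y, rfl⟩ := x; exact h2 y⟩
      left_inv := fun x => Subtype.ext (by
        change n⁻¹ * (n * (x : G') * n⁻¹) * n = x
        group)
      right_inv := fun x => Subtype.ext (by
        change n * (n⁻¹ * (x : G') * n) * n⁻¹ = x
        group)
      map_mul' := fun x y => Subtype.ext (by
        change n * ((x : G') * y) * n⁻¹ = (n * (x : G') * n⁻¹) * (n * (y : G') * n⁻¹)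
        group) }
  refine ⟨(e.trans c).trans e.symm, ?_⟩
  intro x y h
  have h3 : e.symm (c (e (QuotientGroup.mk x))) = QuotientGroup.mk y := h
  have h4 : c (e (QuotientGroup.mk x)) = e (QuotientGroup.mk y) := by
    rw [← h3, MulEquiv.apply_symm_apply]
  exact congrArg Subtype.val h4

variable {F : Type*} [Field F]

/-- `a ⊗ b` in `GL` -/
def krGL (a b : SpecialLinearGroup (Fin 3) F) : GL (Fin 9) F :=
  ⟨kr a.1 b.1, kr (a⁻¹).1 (b⁻¹).1, by
    rw [← kr_mul, ← Matrix.SpecialLinearGroup.coe_mul, ← Matrix.SpecialLinearGroup.coe_mul, mul_inv_cancel,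
      mul_inv_cancel]
    exact kr_one, by
    rw [← kr_mul, ← Matrix.SpecialLinearGroup.coe_mul, ← Matrix.SpecialLinearGroup.coe_mul, inv_mul_cancel,
      inv_mul_cancel]
    exact kr_one⟩

theorem coe_krGL (a b : SpecialLinearGroup (Fin 3) F) : (krGL a b : Matrix (Fin 9) (Fin 9) F) = kr a.1 b.1 := rfl

theorem krGL_mul (a b a' b' : SpecialLinearGroup (Fin 3) F) : krGL (a * a') (b * b') = krGL a b * krGL a' b' :=
  Units.ext (kr_mul _ _ _ _)

theorem krGL_one : krGL (1 : SpecialLinearGroup (Fin 3) F) 1 = 1 := Units.ext kr_one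

/-- the homomorphism `x ↦ α x ⊗ β x` -/
def krHom {G : Type*} [Group G] (α β : G →* SpecialLinearGroup (Fin 3) F) : G →* GL (Fin 9) F where
  toFun x := krGL (α x) (β x)
  map_one' := by rw [map_one, map_one, krGL_one]
  map_mul' x y := by rw [map_mul, map_mul, krGL_mul]

theorem sl_ne_zero (a : SpecialLinearGroup (Fin 3) F) : a.1 ≠ 0 := by
  intro h
  have := a.2
  rw [h, Matrix.det_zero] at this
  exact zero_ne_one this

/-- `a ⊗ b` is a scalar only if `a` is. -/
theorem scalar_of_krGL {a b : SpecialLinearGroup (Fin 3) F} (h : krGL a b ∈ scalars (Fin 9) F) :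
    a ∈ Subgroup.center (SpecialLinearGroup (Fin 3) F) ∧ b ∈ Subgroup.center (SpecialLinearGroup (Fin 3) F) := by
  obtain ⟨c, hc⟩ := (mem_scalars_iff _).1 h
  have hone : (1 : Matrix (Fin 3) (Fin 3) F) ≠ 0 := one_ne_zero
  have h1 : kr ((c : F) • (1 : Matrix (Fin 3) (Fin 3) F)) 1 = kr a.1 b.1 := by
    rw [kr_smul_left, kr_one, ← hc, coe_krGL]
  obtain ⟨d, hd, h2, h3⟩ := kr_eq (smul_ne_zero c.ne_zero hone) hone h1
  constructor
  · rw [Subgroup.mem_center_iff]
    intro y
    apply Subtype.ext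
    rw [Matrix.SpecialLinearGroup.coe_mul, Matrix.SpecialLinearGroup.coe_mul, h2, smul_smul, Matrix.smul_mul,
      Matrix.mul_smul, Matrix.one_mul, Matrix.mul_one]
  · rw [Subgroup.mem_center_iff]
    intro y
    apply Subtype.ext
    rw [Matrix.SpecialLinearGroup.coe_mul, Matrix.SpecialLinearGroup.coe_mul, h3, Matrix.smul_mul,
      Matrix.mul_smul, Matrix.one_mul, Matrix.mul_one]

theorem krGL_mem_scalars {a b : SpecialLinearGroup (Fin 3) F}
    (ha : a ∈ Subgroup.center (SpecialLinearGroup (Fin 3) F))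
    (hb : b ∈ Subgroup.center (SpecialLinearGroup (Fin 3) F)) : krGL a b ∈ scalars (Fin 9) F := by
  obtain ⟨r, hr, hr'⟩ := Matrix.SpecialLinearGroup.mem_center_iff.1 ha
  obtain ⟨s, hs, hs'⟩ := Matrix.SpecialLinearGroup.mem_center_iff.1 hb
  have hr0 : r ≠ 0 := by
    rintro rfl
    rw [zero_pow (by simp)] at hr
    exact zero_ne_one hr
  have hs0 : s ≠ 0 := by
    rintro rfl
    rw [zero_pow (by simp)] at hs
    exact zero_ne_one hs
  refine (mem_scalars_iff _).2 ⟨Units.mk0 (r * s) (mul_ne_zero hr0 hs0), ?_⟩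
  rw [coe_krGL]
  have e1 : a.1 = r • 1 := by
    rw [smul_one_eq_diagonal]
    exact hr'.symm
  have e2 : b.1 = s • 1 := by
    rw [smul_one_eq_diagonal]
    exact hs'.symm
  rw [e1, e2, kr_smul_left, kr_smul_right, kr_one, smul_smul]
  rfl

/-- Two elements of order dividing `p` which agree modulo scalars agree. -/
theorem eq_of_mk_eq (p : ℕ) [Fact p.Prime] [CharP F p] {A B : GL (Fin 9) F} (hA : A ^ p = 1) (hB : B ^ p = 1)
    (h : (QuotientGroup.mk A : GL (Fin 9) F ⧸ scalars (Fin 9) F) = QuotientGroup.mk B) : A = B := by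
  have h1 : A⁻¹ * B ∈ scalars (Fin 9) F := QuotientGroup.eq.1 h
  obtain ⟨c, hc⟩ := (mem_scalars_iff _).1 h1
  have hB' : B = A * (A⁻¹ * B) := by group
  have hcen : ∀ X : GL (Fin 9) F, (A⁻¹ * B) * X = X * (A⁻¹ * B) := by
    intro X
    generalize A⁻¹ * B = Y at hc
    apply Units.ext
    rw [Units.val_mul, Units.val_mul, hc, Matrix.smul_mul, Matrix.mul_smul, Matrix.one_mul, Matrix.mul_one]
  have h2 : (A⁻¹ * B) ^ p = 1 := by
    have h3 : (A * (A⁻¹ * B)) ^ p = A ^ p * (A⁻¹ * B) ^ p := (Commute.mul_pow (hcen A).symm p)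
    rw [← hB', hB, hA, one_mul] at h3
    exact h3.symm
  have h4 : (c : F) ^ p = 1 := by
    have h5 := congrArg (fun X : GL (Fin 9) F => (X : Matrix (Fin 9) (Fin 9) F)) h2
    simp only [Units.val_pow_eq_pow_val] at h5
    rw [hc, smul_pow, one_pow] at h5
    have h6 := congrFun (congrFun h5 0) 0
    simpa using h6
  have : ExpChar F p := ExpChar.prime Fact.out
  have h5 : (c : F) = 1 := by
    apply frobenius_inj F p
    rw [frobenius_def, frobenius_def, h4, one_pow]
  have h6 : A⁻¹ * B = 1 := by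
    apply Units.ext
    rw [hc, h5, one_smul]
    rfl
  exact (inv_mul_eq_one.1 h6)

/-- The stabiliser of the set `g D`. -/
def stabD (D : (Fin 9 → F) → Prop) (g : GL (Fin 9) F) : Subgroup (GL (Fin 9) F) where
  carrier := {m | ∀ w, D w ↔ D (((g⁻¹ * m * g : GL (Fin 9) F) : Matrix (Fin 9) (Fin 9) F) *ᵥ w)}
  one_mem' := by
    intro w
    have : g⁻¹ * 1 * g = 1 := by group
    rw [this, Units.val_one, Matrix.one_mulVec]
  mul_mem' := by
    intro a b ha hb w
    have : g⁻¹ * (a * b) * g = (g⁻¹ * a * g) * (g⁻¹ * b * g) := by group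
    rw [this, Units.val_mul, ← Matrix.mulVec_mulVec, ← ha, ← hb]
  inv_mem' := by
    intro a ha w
    rw [ha (((g⁻¹ * a⁻¹ * g : GL (Fin 9) F) : Matrix (Fin 9) (Fin 9) F) *ᵥ w)]
    have : ((g⁻¹ * a * g : GL (Fin 9) F) : Matrix (Fin 9) (Fin 9) F) *ᵥ
        (((g⁻¹ * a⁻¹ * g : GL (Fin 9) F) : Matrix (Fin 9) (Fin 9) F) *ᵥ w) = w := by
      rw [Matrix.mulVec_mulVec, ← Units.val_mul]
      have : (g⁻¹ * a * g) * (g⁻¹ * a⁻¹ * g) = 1 := by group
      rw [this, Units.val_one, Matrix.one_mulVec]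
    rw [this]

theorem mem_stabD {D : (Fin 9 → F) → Prop} {g m : GL (Fin 9) F} :
    m ∈ stabD D g ↔ ∀ w, D w ↔ D (((g⁻¹ * m * g : GL (Fin 9) F) : Matrix (Fin 9) (Fin 9) F) *ᵥ w) := Iff.rfl

/-- criterion for membership of a whole subgroup -/
theorem le_stabD {D : (Fin 9 → F) → Prop} {g : GL (Fin 9) F} {H : Subgroup (GL (Fin 9) F)}
    (h : ∀ m ∈ H, ∀ w, D w → D (((g⁻¹ * m * g : GL (Fin 9) F) : Matrix (Fin 9) (Fin 9) F) *ᵥ w)) :
    H ≤ stabD D g := by
  intro m hm w
  refine ⟨h m hm w, fun h1 => ?_⟩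
  have h2 := h m⁻¹ (H.inv_mem hm) _ h1
  rw [Matrix.mulVec_mulVec, ← Units.val_mul] at h2
  have : (g⁻¹ * m⁻¹ * g) * (g⁻¹ * m * g) = 1 := by group
  rwa [this, Units.val_one, Matrix.one_mulVec] at h2

/-- diagonal matrix changing one decomposable tensor -/
def dd (ζ : F) : Fin 9 → F := Pi.mulSingle (ix 0 0) ζ * Pi.mulSingle (ix 2 2) ζ⁻¹

theorem ix_ne {i j k l : Fin 3} (h : i ≠ k ∨ j ≠ l) : ix i j ≠ ix k l := by
  intro h1
  obtain ⟨h2, h3⟩ := ix_injective h1
  rcases h with h | h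
  · exact h h2
  · exact h h3

theorem dd_00 (ζ : F) : dd ζ (ix 0 0) = ζ := by
  unfold dd
  rw [Pi.mul_apply, Pi.mulSingle_eq_same, Pi.mulSingle_eq_of_ne (ix_ne (Or.inl (by decide))), mul_one]

theorem dd_01 (ζ : F) : dd ζ (ix 0 1) = 1 := by
  unfold dd
  rw [Pi.mul_apply, Pi.mulSingle_eq_of_ne (ix_ne (Or.inr (by decide))),
    Pi.mulSingle_eq_of_ne (ix_ne (Or.inl (by decide))), mul_one]

theorem dd_10 (ζ : F) : dd ζ (ix 1 0) = 1 := by
  unfold dd
  rw [Pi.mul_apply, Pi.mulSingle_eq_of_ne (ix_ne (Or.inl (by decide))),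
    Pi.mulSingle_eq_of_ne (ix_ne (Or.inl (by decide))), mul_one]

theorem dd_11 (ζ : F) : dd ζ (ix 1 1) = 1 := by
  unfold dd
  rw [Pi.mul_apply, Pi.mulSingle_eq_of_ne (ix_ne (Or.inl (by decide))),
    Pi.mulSingle_eq_of_ne (ix_ne (Or.inl (by decide))), mul_one]

theorem dd_det {ζ : F} (hζ : ζ ≠ 0) : (Matrix.diagonal (dd ζ)).det = 1 := by
  rw [Matrix.det_diagonal]
  unfold dd
  simp only [Pi.mul_apply]
  rw [Finset.prod_mul_distrib, Finset.prod_pi_mulSingle', Finset.prod_pi_mulSingle', if_pos (Finset.mem_univ _),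
    if_pos (Finset.mem_univ _), mul_inv_cancel₀ hζ]

theorem dd_pow {ζ : F} {k : ℕ} (hζ : ζ ^ k = 1) (i : Fin 9) : dd ζ i ^ k = 1 := by
  unfold dd
  rw [Pi.mul_apply, mul_pow]
  have e : ∀ (i j : Fin 9) (x : F), x ^ k = 1 → (Pi.mulSingle j x : Fin 9 → F) i ^ k = 1 := by
    intro i j x hx
    by_cases h : i = j
    · subst h
      rw [Pi.mulSingle_eq_same, hx]
    · rw [Pi.mulSingle_eq_of_ne h, one_pow]
  rw [e _ _ _ hζ, e _ _ _ (by rw [inv_pow, hζ, inv_one]), one_mul]

/-- The group `X = SL₃ ⊗ 1` cannot normalise `{x ⊗ θ x}`. -/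
theorem contra {x y z : SpecialLinearGroup (Fin 3) F} {θx θz : SpecialLinearGroup (Fin 3) F}
    (hθ : θx⁻¹ * θz ∈ Subgroup.center (SpecialLinearGroup (Fin 3) F) →
      x⁻¹ * z ∈ Subgroup.center (SpecialLinearGroup (Fin 3) F))
    (h : krGL (y * x * y⁻¹) θx = krGL z θz) :
    ∃ c : F, (y * x).1 = c • (x * y).1 := by
  obtain ⟨c, hc, h1, h2⟩ := kr_eq (sl_ne_zero _) (sl_ne_zero _)
    (congrArg (fun X : GL (Fin 9) F => (X : Matrix (Fin 9) (Fin 9) F)) h)
  have h3 : (θx⁻¹ * θz).1 = c⁻¹ • 1 := by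
    rw [Matrix.SpecialLinearGroup.coe_mul, h2, Matrix.mul_smul, ← Matrix.SpecialLinearGroup.coe_mul,
      inv_mul_cancel]
    rfl
  have h4 : θx⁻¹ * θz ∈ Subgroup.center (SpecialLinearGroup (Fin 3) F) := by
    rw [Subgroup.mem_center_iff]
    intro w
    generalize θx⁻¹ * θz = Y at h3
    apply Subtype.ext
    rw [Matrix.SpecialLinearGroup.coe_mul, Matrix.SpecialLinearGroup.coe_mul, h3, Matrix.smul_mul,
      Matrix.mul_smul, Matrix.one_mul, Matrix.mul_one]
  obtain ⟨r, -, hr⟩ := Matrix.SpecialLinearGroup.mem_center_iff.1 (hθ h4)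
  have hr' : (x⁻¹ * z).1 = r • 1 := by
    rw [smul_one_eq_diagonal]
    exact hr.symm
  have h5 : z.1 = r • x.1 := by
    have : z = x * (x⁻¹ * z) := by group
    rw [this, Matrix.SpecialLinearGroup.coe_mul, hr', Matrix.mul_smul, Matrix.mul_one]
  have h6 : (y * x * y⁻¹).1 = (c⁻¹ * r) • x.1 := by
    have : (y * x * y⁻¹).1 = c⁻¹ • z.1 := by
      rw [h1, smul_smul, inv_mul_cancel₀ hc, one_smul]
    rw [this, h5, smul_smul]
  refine ⟨c⁻¹ * r, ?_⟩
  have h7 : y * x = (y * x * y⁻¹) * y := by group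
  rw [h7, Matrix.SpecialLinearGroup.coe_mul, h6, Matrix.smul_mul, ← Matrix.SpecialLinearGroup.coe_mul]

end Cfsg.Agent.H108.Nine
end

-- part: H108/Nine/Un
section
/-!
Unitary matrices, similitudes.
-/

set_option autoImplicit false
set_option linter.unusedSectionVars false

namespace Cfsg.Agent.H108.Nine

open Matrix Cfsg Cfsg.Geo
open Cfsg.Agent.LieClassical.HermBasic

variable {F : Type*} [Field F] [Fintype F] {q : ℕ}

/-- the ring homomorphism `x ↦ x^q` -/
abbrev sg (hF : Fintype.card F = q ^ 2) : F →+* F := (conj hF : F →+* F)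

theorem sg_apply (hF : Fintype.card F = q ^ 2) (x : F) : sg hF x = x ^ q := rfl

theorem sg_sg (hF : Fintype.card F = q ^ 2) (x : F) : sg hF (sg hF x) = x := pow_q_pow_q hF x

theorem map_map_sg (hF : Fintype.card F = q ^ 2) {m n : Type*} (M : Matrix m n F) :
    (M.map (sg hF)).map (sg hF) = M := by
  ext i j
  exact sg_sg hF _

theorem herm_eq (hF : Fintype.card F = q ^ 2) {n : ℕ} (u v : Fin n → F) :
    hermForm n F q u v = u ⬝ᵥ (fun i => sg hF (v i)) := rfl

theorem herm_mulVec (hF : Fintype.card F = q ^ 2) {n : ℕ} (M : Matrix (Fin n) (Fin n) F) (u v : Fin n → F) :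
    hermForm n F q (M *ᵥ u) (M *ᵥ v) = u ⬝ᵥ ((Mᵀ * M.map (sg hF)) *ᵥ (fun i => sg hF (v i))) := by
  have e2 : (fun i => sg hF ((M *ᵥ v) i)) = M.map (sg hF) *ᵥ (fun i => sg hF (v i)) := by
    funext i
    rw [RingHom.map_mulVec]
    rfl
  rw [herm_eq hF, e2, ← Matrix.vecMul_transpose, ← Matrix.dotProduct_mulVec, Matrix.mulVec_mulVec]

/-- matrix criterion -/
theorem un_iff (hF : Fintype.card F = q ^ 2) {n : ℕ} (M : Matrix (Fin n) (Fin n) F) :
    (∀ u v, hermForm n F q (M *ᵥ u) (M *ᵥ v) = hermForm n F q u v) ↔ Mᵀ * M.map (sg hF) = 1 := by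
  constructor
  · intro h
    ext i j
    have h1 := h (Pi.single i 1) (Pi.single j 1)
    rw [herm_mulVec hF, herm_eq hF] at h1
    have e : (fun k => sg hF ((Pi.single j (1 : F) : Fin n → F) k)) = Pi.single j 1 := by
      funext k
      by_cases hk : k = j
      · subst hk
        rw [Pi.single_eq_same, map_one]
      · rw [Pi.single_eq_of_ne hk, map_zero]
    rw [e, single_one_dotProduct, single_one_dotProduct, Matrix.mulVec_single_one] at h1
    rw [Matrix.one_apply]
    rw [Pi.single_apply] at h1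
    exact h1
  · intro h u v
    rw [herm_mulVec hF, h, Matrix.one_mulVec, herm_eq hF]

theorem un_kr (hF : Fintype.card F = q ^ 2) {a b : Matrix (Fin 3) (Fin 3) F} (ha : aᵀ * a.map (sg hF) = 1)
    (hb : bᵀ * b.map (sg hF) = 1) : (kr a b)ᵀ * (kr a b).map (sg hF) = 1 := by
  rw [kr_trans, kr_map, ← kr_mul, ha, hb, kr_one]

theorem un_map (hF : Fintype.card F = q ^ 2) (τ : F ≃+* F) {a : Matrix (Fin 3) (Fin 3) F}
    (ha : aᵀ * a.map (sg hF) = 1) : (a.map τ)ᵀ * (a.map τ).map (sg hF) = 1 := by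
  have e : (a.map τ).map (sg hF) = (a.map (sg hF)).map τ := by
    ext i j
    simp only [Matrix.map_apply, sg_apply, map_pow]
  have e2 : (a.map τ)ᵀ = (aᵀ).map τ := rfl
  have e3 : (aᵀ).map τ * (a.map (sg hF)).map τ = (aᵀ * a.map (sg hF)).map τ :=
    (Matrix.map_mul (f := (τ : F →+* F))).symm
  rw [e, e2, e3, ha]
  exact Matrix.map_one _ (map_zero τ) (map_one τ)

theorem herm_map_eq (τ : F ≃+* F) (u v : Fin 3 → F) :
    hermForm 3 F q (fun i => τ (u i)) (fun i => τ (v i)) = τ (hermForm 3 F q u v) := by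
  unfold hermForm
  rw [map_sum]
  exact Finset.sum_congr rfl fun i _ => by rw [map_mul, map_pow]

/-- A field automorphism different from `1` and `x ↦ x^q` is non-trivial on the fixed field of `x ↦ x^q`. -/
theorem exists_fixed_ne (hF : Fintype.card F = q ^ 2) (τ : F ≃+* F) (hτ : τ ≠ RingEquiv.refl F)
    (hτ' : ¬ ∀ x, τ x = x ^ q) : ∃ μ : F, μ ^ q = μ ∧ τ μ ≠ μ := by
  by_contra hcon
  push Not at hcon
  have key : ∀ x : F, τ x = x ∨ τ x = x ^ q := by
    intro x
    have hs := hcon (x + x ^ q) (trace_pow_q hF x)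
    have hn := hcon (x * x ^ q) (norm_pow_q hF x)
    have h1 : (τ x - x) * (τ x - x ^ q) = 0 := by
      rw [map_add] at hs
      rw [map_mul] at hn
      linear_combination τ x * hs - hn
    rcases mul_eq_zero.1 h1 with h2 | h2
    · exact Or.inl (sub_eq_zero.1 h2)
    · exact Or.inr (sub_eq_zero.1 h2)
  obtain ⟨x, hx⟩ : ∃ x, τ x ≠ x := by
    by_contra h0
    push Not at h0
    exact hτ (RingEquiv.ext h0)
  push Not at hτ'
  obtain ⟨y, hy⟩ := hτ'
  have hx' := (key x).resolve_left hx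
  have hy' := (key y).resolve_right hy
  rcases key (x + y) with h | h
  · rw [map_add, hx', hy'] at h
    have : x ^ q = x := add_right_cancel h
    rw [this] at hx'
    exact hx hx'
  · rw [map_add, hx', hy', add_pow_q hF] at h
    have : y = y ^ q := add_left_cancel h
    rw [← this] at hy
    exact hy hy'

/-- an element of norm one different from one -/
theorem exists_norm_one_ne (hF : Fintype.card F = q ^ 2) : ∃ ζ : F, ζ ≠ 1 ∧ ζ ≠ 0 ∧ ζ * ζ ^ q = 1 := by
  obtain ⟨x, hx⟩ := exists_not_fixed hF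
  have hx0 : x ≠ 0 := by
    rintro rfl
    exact hx (zero_pow_q hF)
  have hxq : x ^ q ≠ 0 := pow_ne_zero _ hx0
  refine ⟨x ^ q * x⁻¹, ?_, mul_ne_zero hxq (inv_ne_zero hx0), ?_⟩
  · intro h
    rw [mul_inv_eq_one₀ hx0] at h
    exact hx h
  · rw [mul_pow, pow_q_pow_q hF, inv_pow]
    field_simp

/-- an isotropic vector with two non-zero entries -/
theorem exists_iso_vec (hF : Fintype.card F = q ^ 2) :
    ∃ u : Fin 3 → F, u 0 ≠ 0 ∧ u 1 ≠ 0 ∧ hermForm 3 F q u u = 0 := by
  obtain ⟨s, hs⟩ := exists_norm_eq hF (c := -1) (by rw [neg_pow_q hF, one_pow])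
  have hs0 : s ≠ 0 := by
    rintro rfl
    rw [zero_mul] at hs
    exact one_ne_zero (neg_eq_zero.1 hs.symm)
  refine ⟨![1, s, 0], by simp, by simpa using hs0, ?_⟩
  unfold hermForm
  rw [Fin.sum_univ_three]
  simp [hs]

/-- two elements of `SU₃` not commuting modulo scalars -/
theorem exists_noncomm_su (hF : Fintype.card F = q ^ 2) : ∃ x y : SpecialLinearGroup (Fin 3) F,
    x ∈ SU 3 F q ∧ y ∈ SU 3 F q ∧ ∀ c : F, (y * x).1 ≠ c • (x * y).1 := by
  obtain ⟨ζ, h1, h0, hn⟩ := exists_norm_one_ne hF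
  have hn1 : ζ * (conj hF) ζ = 1 := hn
  have hn' : ζ⁻¹ * ((conj hF) ζ)⁻¹ = 1 := by
    rw [← mul_inv, hn1, inv_one]
  refine ⟨⟨!![ζ, 0, 0; 0, 1, 0; 0, 0, ζ⁻¹], by simp [Matrix.det_fin_three, h0]⟩,
    ⟨!![0, 1, 0; 1, 0, 0; 0, 0, -1], by simp [Matrix.det_fin_three]⟩, ?_, ?_, ?_⟩
  · refine (mem_SU_iff _).2 ((un_iff hF _).2 ?_)
    ext i j
    (revert i j; simp only [Matrix.mul_apply, Fin.sum_univ_three, hn1, hn', _root_.Fin.forall_fin_succ, _root_.RingHom.coe_coe, _root_.Matrix.transpose_apply, _root_.Matrix.of_apply, _root_.Matrix.cons_val', _root_.Matrix.cons_val_fin_one, _root_.Matrix.map_apply, Fin.isValue, _root_.Matrix.cons_val_zero, _root_.Matrix.cons_val_one, _root_.Matrix.cons_val, _root_.map_zero, _root_.MulZeroClass.mul_zero, _root_.add_zero, _root_.Matrix.cons_val_succ, _root_.map_one, _root_.mul_one, _root_.zero_add, _root_.map_inv₀, _root_.IsEmpty.forall_iff, _root_.and_true, _root_.Matrix.one_apply_eq, Nat.reduceAdd, _root_.Fin.succ_zero_eq_one,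 _root_.ne_eq, _root_.zero_ne_one, _root_.not_false_eq_true, _root_.Matrix.one_apply_ne, _root_.MulZeroClass.zero_mul, _root_.Fin.succ_one_eq_two, Fin.reduceEq, _root_.and_self, _root_.Fin.succ_ne_zero, _root_.mul_eq_zero, _root_.EmbeddingLike.map_eq_zero_iff, _root_.true_or, _root_.true_and])
  · refine (mem_SU_iff _).2 ((un_iff hF _).2 ?_)
    ext i j
    (revert i j; simp only [Matrix.mul_apply, Fin.sum_univ_three, _root_.Fin.forall_fin_succ, _root_.RingHom.coe_coe, _root_.Matrix.transpose_apply, _root_.Matrix.of_apply, _root_.Matrix.cons_val', _root_.Matrix.cons_val_fin_one, _root_.Matrix.map_apply, Fin.isValue, _root_.Matrix.cons_val_zero, _root_.Matrix.cons_val_one, _root_.Matrix.cons_val, _root_.map_zero, _root_.MulZeroClass.mul_zero, _root_.map_one, _root_.mul_one, _root_.zero_add, _root_.add_zero, _root_.Matrix.cons_val_succ, _root_.RingEquiv.map_neg_one, _root_.mul_neg, _root_.IsEmpty.forall_iff, _root_.and_true, _root_.Matrix.one_apply_eq,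 Nat.reduceAdd, _root_.Fin.succ_zero_eq_one, _root_.ne_eq, _root_.zero_ne_one, _root_.not_false_eq_true, _root_.Matrix.one_apply_ne, _root_.neg_zero, _root_.Fin.succ_one_eq_two, Fin.reduceEq, _root_.and_self, _root_.Fin.succ_ne_zero, _root_.neg_neg, _root_.true_and])
  · intro c h
    have h' : (!![0, 1, 0; 1, 0, 0; 0, 0, -1] * !![ζ, 0, 0; 0, 1, 0; 0, 0, ζ⁻¹] : Matrix (Fin 3) (Fin 3) F) =
      c • (!![ζ, 0, 0; 0, 1, 0; 0, 0, ζ⁻¹] * !![0, 1, 0; 1, 0, 0; 0, 0, -1] : Matrix (Fin 3) (Fin 3) F) := h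
    have h2 := congrFun (congrFun h' 2) 2
    have h3 := congrFun (congrFun h' 1) 0
    simp only [Matrix.mul_apply, Fin.sum_univ_three, _root_.Fin.isValue, _root_.Matrix.mul_apply, _root_.Matrix.of_apply, _root_.Matrix.cons_val', _root_.Matrix.cons_val_fin_one, _root_.Matrix.cons_val, _root_.Matrix.cons_val_one, _root_.Fin.sum_univ_three, _root_.Matrix.cons_val_zero, _root_.MulZeroClass.mul_zero, _root_.add_zero, _root_.neg_mul, _root_.one_mul, _root_.zero_add, _root_.Matrix.cons_mul, _root_.Nat.succ_eq_add_one, _root_.Nat.reduceAdd, _root_.Matrix.vecMul_cons, _root_.Matrix.head_cons, _root_.Matrix.smul_cons, _root_.smul_eq_mul, _root_.mul_one, _root_.Matrix.smul_empty, _root_.Matrix.tail_cons, _root_.zero_smul, _root_.Matrix.empty_vecMul, _root_.one_smul, _root_.mul_neg, _root_.Matrix.empty_mul, _root_.Equiv.symm_apply_apply, _root_.Matrix.smul_apply, _root_.neg_inj] at h2 h3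
    have h4 : c * ζ⁻¹ = ζ⁻¹ := h2.symm
    have h5 : c = 1 := by
      apply mul_right_cancel₀ (inv_ne_zero h0)
      rw [h4, one_mul]
    exact h1 (by rw [h3, h5])

end Cfsg.Agent.H108.Nine
end

private theorem dce_9859d64e22f0 : _root_.True := by
  try have : _root_.True := by simp only [_root_.Cfsg.Agent.H108.Nine.con1.eq_1]
  try have : _root_.True := by simp only [_root_.Cfsg.Agent.H108.Nine.sg.congr_simp]
  try have : _root_.True := by simp only [_root_.Cfsg.Agent.H108.Nine.con2.eq_1]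
  try have : _root_.True := by simp only [_root_.Cfsg.Agent.LieClassical.HermBasic.conj.congr_simp]
  exact _root_.True.intro
end
end
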