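import Cfsg.Agent.H637.A7NineMain_m3
import Mathlib
import Cfsg.Agent.H906.Cover_m3
import Cfsg.Agent.H920.Basic
import Cfsg.Agent.Lib.FastPerm
import Cfsg.Agent.FastGrp
import Cfsg.Agent.Prune
set_option linter.all false

section
prune_inst 0x7ffca9fbebfca9dffffe7e7fa6d4cdfdfdb93fffe4dff9cbffe061ff2bdf6b82c9c563a58bea12fe1e97e21410e87b03fffffeffe86fdc7ffffd5ff41ffbffcfedf7b508519c88b40fbc0ffe83f0778e7f3fffffffffffffffffffffffffffbeffbfffffffff

-- part: H637/A7TwelveMain
section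
prune_inst 0x316041001522000010000000a2000024680000220000000028e00802014180628900a0000090001200821c002004000000000020020000000a000000000201000000000411400000020000000000000000000000000000000000000000000000000000000
set_option linter.all false
open scoped Cfsg.Agent.FastGrp

-- part: H637/A7Twelve
section
/-!
# `3.A₇` in dimension twelve (helper637)
-/

set_option autoImplicit false
set_option linter.unusedSectionVars false
set_option linter.unusedSimpArgs false

namespace Cfsg.Agent.H637.Three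

open Matrix
open Cfsg.Agent.H915.A7Old (a3 b3 dg gm rm fin3 ext3 omega_cube omega_ne mul3 gm_mul_gm gm_entries dg_entries rm_entries)

section m4

variable {K : Type*}

private theorem ext4 {a00 a01 a02 a03 a10 a11 a12 a13 a20 a21 a22 a23 a30 a31 a32 a33 b00 b01 b02 b03 b10 b11 b12 b13 b20 b21 b22 b23 b30 b31 b32 b33 : K}
    (h00 : a00 = b00) (h01 : a01 = b01) (h02 : a02 = b02) (h03 : a03 = b03) (h10 : a10 = b10) (h11 : a11 = b11) (h12 : a12 = b12) (h13 : a13 = b13) (h20 : a20 = b20) (h21 : a21 = b21) (h22 : a22 = b22) (h23 : a23 = b23) (h30 : a30 = b30) (h31 : a31 = b31) (h32 : a32 = b32) (h33 : a33 = b33) :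
    !![a00, a01, a02, a03;
      a10, a11, a12, a13;
      a20, a21, a22, a23;
      a30, a31, a32, a33] = !![b00, b01, b02, b03;
      b10, b11, b12, b13;
      b20, b21, b22, b23;
      b30, b31, b32, b33] := by
  rw [h00, h01, h02, h03, h10, h11, h12, h13, h20, h21, h22, h23, h30, h31, h32, h33]

private theorem ent4 {a00 a01 a02 a03 a10 a11 a12 a13 a20 a21 a22 a23 a30 a31 a32 a33 b00 b01 b02 b03 b10 b11 b12 b13 b20 b21 b22 b23 b30 b31 b32 b33 : K}
    (h : !![a00, a01, a02, a03;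
      a10, a11, a12, a13;
      a20, a21, a22, a23;
      a30, a31, a32, a33] = !![b00, b01, b02, b03;
      b10, b11, b12, b13;
      b20, b21, b22, b23;
      b30, b31, b32, b33]) :
    (a00 = b00 ∧ a01 = b01 ∧ a02 = b02 ∧ a03 = b03) ∧ (a10 = b10 ∧ a11 = b11 ∧ a12 = b12 ∧ a13 = b13) ∧ (a20 = b20 ∧ a21 = b21 ∧ a22 = b22 ∧ a23 = b23) ∧ (a30 = b30 ∧ a31 = b31 ∧ a32 = b32 ∧ a33 = b33) :=
  ⟨⟨congrFun (congrFun h 0) 0, congrFun (congrFun h 0) 1, congrFun (congrFun h 0) 2, congrFun (congrFun h 0) 3⟩, ⟨congrFun (congrFun h 1) 0, congrFun (congrFun h 1) 1, congrFun (congrFun h 1) 2, congrFun (congrFun h 1) 3⟩, ⟨congrFun (congrFun h 2) 0, congrFun (congrFun h 2) 1, congrFun (congrFun h 2) 2, congrFun (congrFun h 2) 3⟩, ⟨congrFun (congrFun h 3) 0, congrFun (congrFun h 3) 1, congrFun (congrFun h 3) 2, congrFun (congrFun h 3) 3⟩⟩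

private theorem mul4 [CommRing K] (a00 a01 a02 a03 a10 a11 a12 a13 a20 a21 a22 a23 a30 a31 a32 a33 b00 b01 b02 b03 b10 b11 b12 b13 b20 b21 b22 b23 b30 b31 b32 b33 : K) :
    !![a00, a01, a02, a03;
      a10, a11, a12, a13;
      a20, a21, a22, a23;
      a30, a31, a32, a33] * !![b00, b01, b02, b03;
      b10, b11, b12, b13;
      b20, b21, b22, b23;
      b30, b31, b32, b33] =
    !![a00 * b00 + a01 * b10 + a02 * b20 + a03 * b30, a00 * b01 + a01 * b11 + a02 * b21 + a03 * b31, a00 * b02 + a01 * b12 + a02 * b22 + a03 * b32, a00 * b03 + a01 * b13 + a02 * b23 + a03 * b33;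
      a10 * b00 + a11 * b10 + a12 * b20 + a13 * b30, a10 * b01 + a11 * b11 + a12 * b21 + a13 * b31, a10 * b02 + a11 * b12 + a12 * b22 + a13 * b32, a10 * b03 + a11 * b13 + a12 * b23 + a13 * b33;
      a20 * b00 + a21 * b10 + a22 * b20 + a23 * b30, a20 * b01 + a21 * b11 + a22 * b21 + a23 * b31, a20 * b02 + a21 * b12 + a22 * b22 + a23 * b32, a20 * b03 + a21 * b13 + a22 * b23 + a23 * b33;
      a30 * b00 + a31 * b10 + a32 * b20 + a33 * b30, a30 * b01 + a31 * b11 + a32 * b21 + a33 * b31, a30 * b02 + a31 * b12 + a32 * b22 + a33 * b32, a30 * b03 + a31 * b13 + a32 * b23 + a33 * b33] := by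
  ext i j
  rw [Matrix.mul_apply, Fin.sum_univ_four]
  fin_cases i <;> fin_cases j <;> rfl

private theorem add4 [CommRing K] (a00 a01 a02 a03 a10 a11 a12 a13 a20 a21 a22 a23 a30 a31 a32 a33 b00 b01 b02 b03 b10 b11 b12 b13 b20 b21 b22 b23 b30 b31 b32 b33 : K) :
    !![a00, a01, a02, a03;
      a10, a11, a12, a13;
      a20, a21, a22, a23;
      a30, a31, a32, a33] + !![b00, b01, b02, b03;
      b10, b11, b12, b13;
      b20, b21, b22, b23;
      b30, b31, b32, b33] =
    !![a00 + b00, a01 + b01, a02 + b02, a03 + b03;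
      a10 + b10, a11 + b11, a12 + b12, a13 + b13;
      a20 + b20, a21 + b21, a22 + b22, a23 + b23;
      a30 + b30, a31 + b31, a32 + b32, a33 + b33] := by
  ext i j
  fin_cases i <;> fin_cases j <;> rfl

private theorem smul4 [CommRing K] (c a00 a01 a02 a03 a10 a11 a12 a13 a20 a21 a22 a23 a30 a31 a32 a33 : K) :
    c • !![a00, a01, a02, a03;
      a10, a11, a12, a13;
      a20, a21, a22, a23;
      a30, a31, a32, a33] =
    !![c * a00, c * a01, c * a02, c * a03;
      c * a10, c * a11, c * a12, c * a13;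
      c * a20, c * a21, c * a22, c * a23;
      c * a30, c * a31, c * a32, c * a33] := by
  ext i j
  fin_cases i <;> fin_cases j <;> rfl

private theorem toMat4 [Field K] {W : Type*} [AddCommGroup W] [Module K W] (b : Module.Basis (Fin 4) K W)
    (T : Module.End K W) {a00 a01 a02 a03 a10 a11 a12 a13 a20 a21 a22 a23 a30 a31 a32 a33 : K}
    (h0 : T (b 0) = a00 • b 0 + a10 • b 1 + a20 • b 2 + a30 • b 3)
    (h1 : T (b 1) = a01 • b 0 + a11 • b 1 + a21 • b 2 + a31 • b 3)
    (h2 : T (b 2) = a02 • b 0 + a12 • b 1 + a22 • b 2 + a32 • b 3)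
    (h3 : T (b 3) = a03 • b 0 + a13 • b 1 + a23 • b 2 + a33 • b 3) :
    LinearMap.toMatrixAlgEquiv b T = !![a00, a01, a02, a03;
      a10, a11, a12, a13;
      a20, a21, a22, a23;
      a30, a31, a32, a33] := by
  have key : ∀ c0 c1 c2 c3 : K, ⇑(b.repr (c0 • b 0 + c1 • b 1 + c2 • b 2 + c3 • b 3)) = ![c0, c1, c2, c3] := by
    intro c0 c1 c2 c3
    have h := b.repr_sum_self ![c0, c1, c2, c3]
    rw [Fin.sum_univ_four] at h
    exact h
  ext i j
  rw [LinearMap.toMatrixAlgEquiv_apply]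
  fin_cases j
  · show b.repr (T (b 0)) i = _
    rw [h0, key]
    fin_cases i <;> rfl
  · show b.repr (T (b 1)) i = _
    rw [h1, key]
    fin_cases i <;> rfl
  · show b.repr (T (b 2)) i = _
    rw [h2, key]
    fin_cases i <;> rfl
  · show b.repr (T (b 3)) i = _
    rw [h3, key]
    fin_cases i <;> rfl

end m4

section gen

variable {F : Type*} [Field F] {R : Type*} [Ring R] [Algebra F R] {ω : F}

/-- three blocks of the relation of order six -/
theorem r6_entries' (hω : ω ^ (2:ℕ) + ω + 1 = 0) {x d₀ d₁ d₂ t : R} (ht : t = (3 : F) • (x * x)) (tt : t * t = 1)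
    (h00 : d₀ * d₀ = 1) (h11 : d₁ * d₁ = 1) (h22 : d₂ * d₂ = 1)
    (r6 : (dg d₀ d₁ d₂ * (gm ω x * dg d₀ d₁ d₂ * (gm ω x * (gm ω x * gm ω x)))) ^ (3:ℕ) = gm ω x * gm ω x) :
    ∃ y₀ y₁ y₂ : R, y₀ = x * (d₀ + d₁ + d₂) * (x * t) ∧ y₁ = x * (d₀ + ω ^ (2:ℕ) • d₁ + ω • d₂) * (x * t) ∧
      y₂ = x * (d₀ + ω • d₁ + ω ^ (2:ℕ) • d₂) * (x * t) ∧
      d₀ * y₀ * d₀ = t * (y₀ * d₀ * y₀ + y₂ * d₁ * y₁ + y₁ * d₂ * y₂) ∧
      d₀ * y₂ * d₁ = t * (y₀ * d₀ * y₂ + y₂ * d₁ * y₀ + y₁ * d₂ * y₁) ∧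
      d₁ * y₁ * d₀ = t * (y₂ * d₀ * y₀ + y₁ * d₁ * y₁ + y₀ * d₂ * y₂) := by
  obtain ⟨y₀, y₁, y₂, h0, h1, h2, h⟩ := r6_block hω ht tt h00 h11 h22 r6
  obtain ⟨r00, r01, r02, r10, r11, r12, r20, r21, r22⟩ := rm_entries t
  obtain ⟨k00, k01, k02, k10, k11, k12, k20, k21, k22⟩ := dg_entries d₀ d₁ d₂
  obtain ⟨p00, p01, p02, p10, p11, p12, p20, p21, p22⟩ := ci_entries y₀ y₁ y₂
  refine ⟨y₀, y₁, y₂, h0, h1, h2, ?_, ?_, ?_⟩
  · have e := congrFun (congrFun h 0) 0
    simp only [mul3, p00, p01, p02, p10, p11, p12, p20, p21, p22, r00, r01, r02, r10, r11, r12, r20, r21, r22,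
      k00, k01, k02, k10, k11, k12, k20, k21, k22, mul_zero, zero_mul, add_zero, zero_add] at e
    exact e
  · have e := congrFun (congrFun h 0) 1
    simp only [mul3, p00, p01, p02, p10, p11, p12, p20, p21, p22, r00, r01, r02, r10, r11, r12, r20, r21, r22,
      k00, k01, k02, k10, k11, k12, k20, k21, k22, mul_zero, zero_mul, add_zero, zero_add] at e
    exact e
  · have e := congrFun (congrFun h 1) 0
    simp only [mul3, p00, p01, p02, p10, p11, p12, p20, p21, p22, r00, r01, r02, r10, r11, r12, r20, r21, r22,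
      k00, k01, k02, k10, k11, k12, k20, k21, k22, mul_zero, zero_mul, add_zero, zero_add] at e
    exact e

end gen

section odd

variable {F W : Type*} [Field F] [AddCommGroup W] [Module F W] {ω : F} {x d₀ d₁ d₂ t : Module.End F W}

/-- the pair `f, h` -/
theorem Dat.exists_fh [FiniteDimensional F W] (D : Dat ω x d₀ d₁ d₂ t) (h2 : (2 : F) ≠ 0) {e₁ : W} (he₁ : e₁ ≠ 0)
    (h01 : d₀ e₁ = -e₁) (h11 : d₁ e₁ = e₁) : ∃ f h : W, e₁ + e₁ = f + h ∧ f ≠ 0 ∧ h ≠ 0 ∧ t f = f ∧ t h = -h ∧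
      d₀ f = -f ∧ d₀ h = -h ∧ d₁ f = h ∧ d₁ h = f ∧ d₂ f = -h ∧ d₂ h = -f := by
  have h21 : d₂ e₁ = -e₁ := by rw [← mul_ap D.h10, h01, map_neg, h11]
  obtain ⟨f, hf⟩ : ∃ f, f = e₁ + t e₁ := ⟨_, rfl⟩
  obtain ⟨h, hh⟩ : ∃ h, h = e₁ - t e₁ := ⟨_, rfl⟩
  have q0 : d₀ (t e₁) = -t e₁ := by
    have : d₀ (t e₁) = t (d₀ e₁) := congrArg (fun T : Module.End F W => T e₁) D.t0.symm
    rw [this, h01, map_neg]
  have q1 : d₁ (t e₁) = -t e₁ := by
    have : d₁ (t e₁) = t (d₂ e₁) := congrArg (fun T : Module.End F W => T e₁) D.t2.symm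
    rw [this, h21, map_neg]
  have q2 : d₂ (t e₁) = t e₁ := by
    have : d₂ (t e₁) = t (d₁ e₁) := congrArg (fun T : Module.End F W => T e₁) D.t1.symm
    rw [this, h11]
  have tte : t (t e₁) = e₁ := mul_ap D.tt e₁
  have d1f : d₁ f = h := by rw [hf, hh, map_add, h11, q1]; abel
  have d1h : d₁ h = f := by rw [hf, hh, map_sub, h11, q1]; abel
  have hf0 : f ≠ 0 := by
    intro h0
    apply he₁
    have h3 : h = 0 := by rw [← d1f, h0, map_zero]
    have h4 : (2 : F) • e₁ = 0 := by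
      have : (2 : F) • e₁ = f + h := by rw [hf, hh]; module
      rw [this, h0, h3, add_zero]
    exact (smul_eq_zero.1 h4).resolve_left h2
  have hh0 : h ≠ 0 := fun h0 => hf0 (by rw [← d1h, h0, map_zero])
  refine ⟨f, h, by rw [hf, hh]; abel, hf0, hh0, ?_, ?_, ?_, ?_, d1f, d1h, ?_, ?_⟩
  · rw [hf, map_add, tte, add_comm]
  · rw [hh, map_sub, tte, neg_sub]
  · rw [hf, map_add, h01, q0]; abel
  · rw [hh, map_sub, h01, q0]; abel
  · rw [hf, hh, map_add, h21, q2]; abel
  · rw [hf, hh, map_sub, h21, q2]; abel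

theorem mem_span2 {f h : W} {w : W} : w ∈ Submodule.span F (Set.range ![f, h]) ↔ ∃ p q : F, w = p • f + q • h := by
  rw [Submodule.mem_span_range_iff_exists_fun]
  constructor
  · rintro ⟨c, hc⟩
    rw [Fin.sum_univ_two] at hc
    exact ⟨c 0, c 1, hc.symm⟩
  · rintro ⟨p, q, hw⟩
    refine ⟨![p, q], ?_⟩
    rw [Fin.sum_univ_two]
    exact hw.symm

/-- invariance of a span -/
theorem span_inv {n : ℕ} {v : Fin n → W} (T : Module.End F W) (h : ∀ i, T (v i) ∈ Submodule.span F (Set.range v)) :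
    ∀ u ∈ Submodule.span F (Set.range v), T u ∈ Submodule.span F (Set.range v) := by
  intro u hu
  have : Submodule.span F (Set.range v) ≤ (Submodule.span F (Set.range v)).comap T := by
    apply Submodule.span_le.2
    rintro _ ⟨i, rfl⟩
    exact h i
  exact this hu

theorem li2 {T : Module.End F W} (h2 : (2 : F) ≠ 0) {f h : W} (hf : f ≠ 0) (hh : h ≠ 0) (tf : T f = f) (th : T h = -h) :
    LinearIndependent F ![f, h] := by
  rw [LinearIndependent.pair_iff]
  intro p q e
  have e2 := congrArg T e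
  rw [map_add, map_smul, map_smul, tf, th, map_zero] at e2
  have e3 : (2 * p) • f = 0 := by
    have : (2 * p) • f = (p • f + q • h) + (p • f + q • -h) := by module
    rw [this, e, e2, add_zero]
  have e4 : (2 * q) • h = 0 := by
    have : (2 * q) • h = (p • f + q • h) - (p • f + q • -h) := by module
    rw [this, e, e2, sub_zero]
  exact ⟨(mul_eq_zero.1 ((smul_eq_zero.1 e3).resolve_right hf)).resolve_left h2,
    (mul_eq_zero.1 ((smul_eq_zero.1 e4).resolve_right hh)).resolve_left h2⟩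

/-- a vector outside the span of few vectors -/
theorem exists_notMem [FiniteDimensional F W] {n : ℕ} (v : Fin n → W) (hn : n < Module.finrank F W) :
    ∃ w, w ∉ Submodule.span F (Set.range v) := by
  by_contra hcon
  push Not at hcon
  have h1 : Submodule.span F (Set.range v) = ⊤ := by rw [eq_top_iff]; exact fun u _ => hcon u
  have h2 := finrank_range_le_card (R := F) v
  rw [Fintype.card_fin, Set.finrank, h1, finrank_top] at h2
  omega

/-- joint eigenvectors for `d₁`, `t` in `ker (d₀ - 1)` -/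
theorem Dat.joint (D : Dat ω x d₀ d₁ d₂ t) (h2 : (2 : F) ≠ 0) {S : Submodule F W} {u : W} (hu : u ∉ S)
    (h0 : d₀ u = u) : ∃ v, v ∉ S ∧ d₀ v = v ∧ (∃ δ : F, (δ = 1 ∨ δ = -1) ∧ d₁ v = δ • v ∧ d₂ v = δ • v) ∧
      ∃ τ : F, (τ = 1 ∨ τ = -1) ∧ t v = τ • v := by
  -- first `d₁`
  obtain ⟨v, hv, hv0, δ, hδ, hδv⟩ : ∃ v, v ∉ S ∧ d₀ v = v ∧ ∃ δ : F, (δ = 1 ∨ δ = -1) ∧ d₁ v = δ • v := by
    have c01 : ∀ w, d₀ w = w → d₀ (d₁ w) = d₁ w := by
      intro w hw
      rw [mul_ap D.h01, ← mul_ap D.h10, hw]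
    by_cases h3 : u + d₁ u ∈ S
    · have h4 : u - d₁ u ∉ S := by
        intro h4
        apply hu
        have h5 := S.smul_mem (2 : F)⁻¹ (S.add_mem h3 h4)
        have h6 : (2 : F)⁻¹ • (u + d₁ u + (u - d₁ u)) = u := by
          have : u + d₁ u + (u - d₁ u) = (2 : F) • u := by module
          rw [this, smul_smul, inv_mul_cancel₀ h2, one_smul]
        rwa [h6] at h5
      refine ⟨_, h4, by rw [map_sub, h0, c01 u h0], -1, Or.inr rfl, ?_⟩
      rw [map_sub, mul_ap D.h11, Module.End.one_apply]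
      module
    · refine ⟨_, h3, by rw [map_add, h0, c01 u h0], 1, Or.inl rfl, ?_⟩
      rw [map_add, mul_ap D.h11, Module.End.one_apply]
      module
  have hd2 : ∀ w, d₀ w = w → d₂ w = d₁ w := fun w hw => by rw [← mul_ap D.h10, hw]
  have ct0 : ∀ w, d₀ w = w → d₀ (t w) = t w := by
    intro w hw
    have : d₀ (t w) = t (d₀ w) := congrArg (fun T : Module.End F W => T w) D.t0.symm
    rw [this, hw]
  have ct1 : ∀ w, d₀ w = w → d₁ (t w) = t (d₁ w) := by
    intro w hw
    have h5 : t (d₂ w) = d₁ (t w) := congrArg (fun T : Module.End F W => T w) D.t2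
    rw [← h5, hd2 w hw]
  by_cases h3 : v + t v ∈ S
  · have h4 : v - t v ∉ S := by
      intro h4
      apply hv
      have h5 := S.smul_mem (2 : F)⁻¹ (S.add_mem h3 h4)
      have h6 : (2 : F)⁻¹ • (v + t v + (v - t v)) = v := by
        have : v + t v + (v - t v) = (2 : F) • v := by module
        rw [this, smul_smul, inv_mul_cancel₀ h2, one_smul]
      rwa [h6] at h5
    have h7 : d₀ (v - t v) = v - t v := by rw [map_sub, hv0, ct0 v hv0]
    have h8 : d₁ (v - t v) = δ • (v - t v) := by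
      rw [map_sub, ct1 v hv0, hδv, map_smul, smul_sub]
    refine ⟨_, h4, h7, ⟨δ, hδ, h8, by rw [hd2 _ h7, h8]⟩, -1, Or.inr rfl, ?_⟩
    rw [map_sub, mul_ap D.tt, Module.End.one_apply]
    module
  · have h7 : d₀ (v + t v) = v + t v := by rw [map_add, hv0, ct0 v hv0]
    have h8 : d₁ (v + t v) = δ • (v + t v) := by
      rw [map_add, ct1 v hv0, hδv, map_smul, smul_add]
    refine ⟨_, h3, h7, ⟨δ, hδ, h8, by rw [hd2 _ h7, h8]⟩, 1, Or.inl rfl, ?_⟩
    rw [map_add, mul_ap D.tt, Module.End.one_apply]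
    module

theorem trace4 (b : Module.Basis (Fin 4) F W) (T : Module.End F W) (c₀ c₁ c₂ c₃ : F) (h0 : b.repr (T (b 0)) 0 = c₀)
    (h1 : b.repr (T (b 1)) 1 = c₁) (h2 : b.repr (T (b 2)) 2 = c₂) (h3 : b.repr (T (b 3)) 3 = c₃) :
    LinearMap.trace F W T = c₀ + c₁ + c₂ + c₃ := by
  rw [LinearMap.trace_eq_matrix_trace F b, Matrix.trace, Fin.sum_univ_four]
  simp only [Matrix.diag_apply, LinearMap.toMatrix_apply, h0, h1, h2, h3]

/-- `d₀` is not `-1` on more than the plane of `f, h` -/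
theorem Dat.no_more [FiniteDimensional F W] (D : Dat ω x d₀ d₁ d₂ t) (hW : Module.finrank F W = 4)
    (h2 : (2 : F) ≠ 0) {f h : W} (hf0 : f ≠ 0) (hh0 : h ≠ 0) (tf : t f = f) (th : t h = -h) (d0f : d₀ f = -f)
    (d0h : d₀ h = -h) (d1f : d₁ f = h) (d1h : d₁ h = f) (d2f : d₂ f = -h) (d2h : d₂ h = -f) {v : W}
    (hv : v ∉ Submodule.span F (Set.range ![f, h])) (hdv : d₀ v = -v) : False := by
  set S := Submodule.span F (Set.range ![f, h]) with hS
  have hfS : f ∈ S := Submodule.subset_span ⟨0, rfl⟩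
  have hhS : h ∈ S := Submodule.subset_span ⟨1, rfl⟩
  have hSt : ∀ u ∈ S, t u ∈ S := span_inv t fun i => by
    fin_cases i
    · show t f ∈ _; rw [tf]; exact hfS
    · show t h ∈ _; rw [th]; exact neg_mem hhS
  have hS1 : ∀ u ∈ S, d₁ u ∈ S := span_inv d₁ fun i => by
    fin_cases i
    · show d₁ f ∈ _; rw [d1f]; exact hhS
    · show d₁ h ∈ _; rw [d1h]; exact hfS
  have c01 : ∀ w, d₀ w = -w → d₀ (d₁ w) = -d₁ w := by
    intro w hw
    rw [mul_ap D.h01, ← mul_ap D.h10, hw, map_neg]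
  have c0t : ∀ w, d₀ w = -w → d₀ (t w) = -t w := by
    intro w hw
    have : d₀ (t w) = t (d₀ w) := congrArg (fun T : Module.End F W => T w) D.t0.symm
    rw [this, hw, map_neg]
  obtain ⟨e, he, he0, he1⟩ : ∃ e, e ∉ S ∧ d₀ e = -e ∧ d₁ e = e := by
    by_cases h3 : v + d₁ v ∈ S
    · have h4 : v - d₁ v ∉ S := by
        intro h4
        apply hv
        have h5 := S.smul_mem (2 : F)⁻¹ (S.add_mem h3 h4)
        have h6 : (2 : F)⁻¹ • (v + d₁ v + (v - d₁ v)) = v := by
          have : v + d₁ v + (v - d₁ v) = (2 : F) • v := by module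
          rw [this, smul_smul, inv_mul_cancel₀ h2, one_smul]
        rwa [h6] at h5
      obtain ⟨u, hu⟩ : ∃ u, u = v - d₁ v := ⟨_, rfl⟩
      have hu0 : d₀ u = -u := by rw [hu, map_sub, hdv, c01 v hdv]; abel
      have hu1 : d₁ u = -u := by
        rw [hu, map_sub, mul_ap D.h11, Module.End.one_apply]; abel
      rw [← hu] at h4
      refine ⟨t u, fun h5 => h4 ?_, c0t u hu0, ?_⟩
      · have := hSt _ h5
        rwa [mul_ap D.tt] at this
      · have h5 : t (d₂ u) = d₁ (t u) := congrArg (fun T : Module.End F W => T u) D.t2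
        rw [← h5, ← mul_ap D.h10, hu0, map_neg, hu1, neg_neg]
    · exact ⟨_, h3, by rw [map_add, hdv, c01 v hdv]; abel, by
        rw [map_add, mul_ap D.h11, Module.End.one_apply]; abel⟩
  obtain ⟨f', h', hee, hf0', hh0', tf', th', d0f', d0h', d1f', d1h', d2f', d2h'⟩ :=
    D.exists_fh h2 (fun h3 => he (by rw [h3]; exact zero_mem S)) he0 he1
  have hf'S : f' ∉ S := by
    intro h3
    have h4 := hS1 _ h3
    rw [d1f'] at h4
    apply he
    have h5 := S.smul_mem (2 : F)⁻¹ (S.add_mem h3 h4)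
    rw [← hee] at h5
    have h6 : (2 : F)⁻¹ • (e + e) = e := by
      have : e + e = (2 : F) • e := by module
      rw [this, smul_smul, inv_mul_cancel₀ h2, one_smul]
    rwa [h6] at h5
  have hh'S : h' ∉ S := by
    intro h3
    have h4 := hS1 _ h3
    rw [d1h'] at h4
    exact hf'S h4
  have li0 : LinearIndependent F ![f, h] := li2 h2 hf0 hh0 tf th
  have li1 : LinearIndependent F ![h', f, h] := linearIndependent_finCons.2 ⟨li0, hh'S⟩
  have li : LinearIndependent F ![f', h', f, h] := by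
    refine linearIndependent_finCons.2 ⟨li1, ?_⟩
    intro h3
    rw [Submodule.mem_span_range_iff_exists_fun] at h3
    obtain ⟨c, hc⟩ := h3
    rw [Fin.sum_univ_three] at hc
    have hc' : c 0 • h' + c 1 • f + c 2 • h = f' := hc
    have h4 := congrArg t hc'
    rw [map_add, map_add, map_smul, map_smul, map_smul, th', tf, th, tf'] at h4
    apply hf'S
    have h5 : f' = c 1 • f := by
      have h6 : (2 : F) • f' = (2 : F) • (c 1 • f) := by
        rw [two_smul]
        nth_rewrite 1 [← hc']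
        rw [← h4]
        module
      have h7 := congrArg (fun w => (2 : F)⁻¹ • w) h6
      simp only [smul_smul, inv_mul_cancel₀ h2, one_smul] at h7
      rw [h7, ← mul_assoc, inv_mul_cancel₀ h2, one_mul]
    rw [h5]
    exact S.smul_mem _ hfS
  obtain ⟨b, hb⟩ : ∃ b : Module.Basis (Fin 4) F W, ⇑b = ![f', h', f, h] :=
    ⟨basisOfLinearIndependentOfCardEqFinrank li (by rw [Fintype.card_fin, hW]),
      coe_basisOfLinearIndependentOfCardEqFinrank _ _⟩
  have b0 : b 0 = f' := by rw [hb]; rfl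
  have b1 : b 1 = h' := by rw [hb]; rfl
  have b2 : b 2 = f := by rw [hb]; rfl
  have b3 : b 3 = h := by rw [hb]; rfl
  have t_t := trace4 b t 1 (-1) 1 (-1) (by rw [b0, tf', ← b0]; simp only [_root_.Fin.isValue, _root_.Module.Basis.repr_self, _root_.Finsupp.single_eq_same]) (by rw [b1, th', ← b1]; simp only [_root_.Fin.isValue, _root_.map_neg, _root_.Module.Basis.repr_self, _root_.Finsupp.coe_neg, _root_.Pi.neg_apply, _root_.Finsupp.single_eq_same])
    (by rw [b2, tf, ← b2]; simp) (by rw [b3, th, ← b3]; simp only [_root_.Fin.isValue, _root_.map_neg, _root_.Module.Basis.repr_self, _root_.Finsupp.coe_neg, _root_.Pi.neg_apply, _root_.Finsupp.single_eq_same])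
  have t_0 := trace4 b d₀ (-1) (-1) (-1) (-1) (by rw [b0, d0f', ← b0]; simp only [_root_.Fin.isValue, _root_.map_neg, _root_.Module.Basis.repr_self, _root_.Finsupp.coe_neg, _root_.Pi.neg_apply, _root_.Finsupp.single_eq_same]) (by rw [b1, d0h', ← b1]; simp only [_root_.Fin.isValue, _root_.map_neg, _root_.Module.Basis.repr_self, _root_.Finsupp.coe_neg, _root_.Pi.neg_apply, _root_.Finsupp.single_eq_same])
    (by rw [b2, d0f, ← b2]; simp only [_root_.Fin.isValue, _root_.map_neg, _root_.Module.Basis.repr_self, _root_.Finsupp.coe_neg, _root_.Pi.neg_apply, _root_.Finsupp.single_eq_same]) (by rw [b3, d0h, ← b3]; simp only [_root_.Fin.isValue, _root_.map_neg, _root_.Module.Basis.repr_self, _root_.Finsupp.coe_neg, _root_.Pi.neg_apply, _root_.Finsupp.single_eq_same])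
  have t_1 := trace4 b d₁ 0 0 0 0 (by rw [b0, d1f', ← b1]; simp) (by rw [b1, d1h', ← b0]; simp only [_root_.Fin.isValue, _root_.Module.Basis.repr_self, _root_.ne_eq, _root_.one_ne_zero, _root_.not_false_eq_true, _root_.Finsupp.single_eq_of_ne])
    (by rw [b2, d1f, ← b3]; simp) (by rw [b3, d1h, ← b2]; simp)
  have t_2 := trace4 b d₂ 0 0 0 0 (by rw [b0, d2f', ← b1]; simp only [_root_.Fin.isValue, _root_.map_neg, _root_.Module.Basis.repr_self, _root_.Finsupp.coe_neg, _root_.Pi.neg_apply, _root_.ne_eq, _root_.zero_ne_one, _root_.not_false_eq_true, _root_.Finsupp.single_eq_of_ne, _root_.neg_zero]) (by rw [b1, d2h', ← b0]; simp only [_root_.Fin.isValue, _root_.map_neg, _root_.Module.Basis.repr_self, _root_.Finsupp.coe_neg, _root_.Pi.neg_apply, _root_.ne_eq, _root_.one_ne_zero, _root_.not_false_eq_true, _root_.Finsupp.single_eq_of_ne, _root_.neg_zero])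
    (by rw [b2, d2f, ← b3]; simp only [_root_.Fin.isValue, _root_.map_neg, _root_.Module.Basis.repr_self, _root_.Finsupp.coe_neg, _root_.Pi.neg_apply, _root_.ne_eq, _root_.Fin.reduceEq, _root_.not_false_eq_true, _root_.Finsupp.single_eq_of_ne, _root_.neg_zero]) (by rw [b3, d2h, ← b2]; simp only [_root_.Fin.isValue, _root_.map_neg, _root_.Module.Basis.repr_self, _root_.Finsupp.coe_neg, _root_.Pi.neg_apply, _root_.ne_eq, _root_.Fin.reduceEq, _root_.not_false_eq_true, _root_.Finsupp.single_eq_of_ne, _root_.neg_zero])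
  have htr := D.htr
  rw [t_t, t_0, t_1, t_2] at htr
  have h4 : (2 : F) * 2 = 0 := by linear_combination htr
  rcases mul_eq_zero.1 h4 with h5 | h5 <;> exact h2 h5

/-- signs -/
theorem signs (h2 : (2 : F) ≠ 0) (h3 : (3 : F) ≠ 0) {δ₁ δ₂ τ₁ τ₂ : F} (hδ₁ : δ₁ = 1 ∨ δ₁ = -1) (hδ₂ : δ₂ = 1 ∨ δ₂ = -1)
    (hτ₁ : τ₁ = 1 ∨ τ₁ = -1) (hτ₂ : τ₂ = 1 ∨ τ₂ = -1) (h : τ₁ + τ₂ = 2 * (δ₁ + δ₂)) : δ₂ = -δ₁ ∧ τ₂ = -τ₁ := by
  have h4 : (4 : F) ≠ 0 := by rw [show (4 : F) = 2 * 2 by norm_num]; exact mul_ne_zero h2 h2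
  have h6 : (6 : F) ≠ 0 := by rw [show (6 : F) = 2 * 3 by norm_num]; exact mul_ne_zero h2 h3
  rcases hδ₁ with rfl | rfl <;> rcases hδ₂ with rfl | rfl <;> rcases hτ₁ with rfl | rfl <;> rcases hτ₂ with rfl | rfl <;>
    [((exfalso; apply h2; linear_combination -h)); ((exfalso; apply h4; linear_combination -h)); ((exfalso; apply h4; linear_combination -h));
     ((exfalso; apply h6; linear_combination -h)); ((exfalso; apply h2; linear_combination h)); (exact ⟨by ring1, by ring1⟩); (exact ⟨by ring1, by ring1⟩);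
     ((exfalso; apply h2; linear_combination -h)); ((exfalso; apply h2; linear_combination h)); (exact ⟨by ring1, by ring1⟩); (exact ⟨by ring1, by ring1⟩);
     ((exfalso; apply h2; linear_combination -h)); ((exfalso; apply h6; linear_combination h)); ((exfalso; apply h4; linear_combination h));
     ((exfalso; apply h4; linear_combination h)); ((exfalso; apply h2; linear_combination h))]

/-- the normal form in dimension four, odd characteristic -/
theorem Dat.exists_basis4 [FiniteDimensional F W] (D : Dat ω x d₀ d₁ d₂ t) (hW : Module.finrank F W = 4)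
    (h2 : (2 : F) ≠ 0) : ∃ (b : Module.Basis (Fin 4) F W) (δ a c g k : F), (δ = 1 ∨ δ = -1) ∧
      (d₀ (b 0) = b 0 ∧ d₀ (b 1) = b 1 ∧ d₀ (b 2) = -b 2 ∧ d₀ (b 3) = -b 3) ∧
      (d₁ (b 0) = δ • b 0 ∧ d₁ (b 1) = -δ • b 1 ∧ d₁ (b 2) = b 3 ∧ d₁ (b 3) = b 2) ∧
      (d₂ (b 0) = δ • b 0 ∧ d₂ (b 1) = -δ • b 1 ∧ d₂ (b 2) = -b 3 ∧ d₂ (b 3) = -b 2) ∧
      (t (b 0) = b 0 ∧ t (b 1) = -b 1 ∧ t (b 2) = b 2 ∧ t (b 3) = -b 3) ∧
      (x (b 0) = a • b 0 + g • b 2 ∧ x (b 1) = c • b 1 + k • b 3 ∧ x (b 2) = b 0 - a • b 2 ∧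
        x (b 3) = b 1 - c • b 3) ∧ 3 * (g + a ^ (2:ℕ)) = 1 ∧ 3 * (k + c ^ (2:ℕ)) = -1 := by
  obtain ⟨e₁, he₁, h01, h11, -⟩ := D.exists_e1 (by omega) h2
  obtain ⟨f, h, -, hf0, hh0, tf, th, d0f, d0h, d1f, d1h, d2f, d2h⟩ := D.exists_fh h2 he₁ h01 h11
  have li0 : LinearIndependent F ![f, h] := li2 h2 hf0 hh0 tf th
  have key : ∀ v, d₀ v = -v → v ∈ Submodule.span F (Set.range ![f, h]) := by
    intro v hv
    by_contra h3
    exact D.no_more hW h2 hf0 hh0 tf th d0f d0h d1f d1h d2f d2h h3 hv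
  have outside : ∀ S' : Submodule F W, Submodule.span F (Set.range ![f, h]) ≤ S' → ∀ v, v ∉ S' →
      ∃ u, u ∉ S' ∧ d₀ u = u := by
    intro S' hS' v hv
    refine ⟨v + d₀ v, fun h3 => hv ?_, by rw [map_add, mul_ap D.h00, Module.End.one_apply]; abel⟩
    have h4 : v - d₀ v ∈ S' := by
      apply hS'
      apply key
      rw [map_sub, mul_ap D.h00, Module.End.one_apply]; abel
    have h5 := S'.smul_mem (2 : F)⁻¹ (S'.add_mem h3 h4)
    have h6 : (2 : F)⁻¹ • (v + d₀ v + (v - d₀ v)) = v := by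
      have : v + d₀ v + (v - d₀ v) = (2 : F) • v := by module
      rw [this, smul_smul, inv_mul_cancel₀ h2, one_smul]
    rwa [h6] at h5
  obtain ⟨v₁, hv₁⟩ := exists_notMem (F := F) ![f, h] (by rw [hW]; norm_num)
  obtain ⟨v₁', hv₁', hv₁0⟩ := outside _ le_rfl _ hv₁
  obtain ⟨u₁, hu₁, u₁0, ⟨δ₁, hδ₁, u₁1, u₁2⟩, τ₁, hτ₁, u₁t⟩ := D.joint h2 hv₁' hv₁0
  have li1 : LinearIndependent F ![u₁, f, h] := linearIndependent_finCons.2 ⟨li0, hu₁⟩
  obtain ⟨v₂, hv₂⟩ := exists_notMem (F := F) ![u₁, f, h] (by rw [hW]; norm_num)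
  have hle : Submodule.span F (Set.range ![f, h]) ≤ Submodule.span F (Set.range ![u₁, f, h]) := by
    apply Submodule.span_le.2
    rintro _ ⟨i, rfl⟩
    fin_cases i
    · exact Submodule.subset_span ⟨1, rfl⟩
    · exact Submodule.subset_span ⟨2, rfl⟩
  obtain ⟨v₂', hv₂', hv₂0⟩ := outside _ hle _ hv₂
  obtain ⟨u₂, hu₂, u₂0, ⟨δ₂, hδ₂, u₂1, u₂2⟩, τ₂, hτ₂, u₂t⟩ := D.joint h2 hv₂' hv₂0
  have li : LinearIndependent F ![u₂, u₁, f, h] := linearIndependent_finCons.2 ⟨li1, hu₂⟩
  -- traces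
  have hsg : δ₂ = -δ₁ ∧ τ₂ = -τ₁ := by
    obtain ⟨b, hb⟩ : ∃ b : Module.Basis (Fin 4) F W, ⇑b = ![u₂, u₁, f, h] :=
      ⟨basisOfLinearIndependentOfCardEqFinrank li (by rw [Fintype.card_fin, hW]),
        coe_basisOfLinearIndependentOfCardEqFinrank _ _⟩
    have b0 : b 0 = u₂ := by rw [hb]; rfl
    have b1 : b 1 = u₁ := by rw [hb]; rfl
    have b2 : b 2 = f := by rw [hb]; rfl
    have b3 : b 3 = h := by rw [hb]; rfl
    have t_t := trace4 b t τ₂ τ₁ 1 (-1) (by rw [b0, u₂t, ← b0]; simp only [_root_.Fin.isValue, _root_.map_smul, _root_.Module.Basis.repr_self, _root_.Finsupp.smul_single, _root_.smul_eq_mul, _root_.mul_one, _root_.Finsupp.single_eq_same]) (by rw [b1, u₁t, ← b1]; simp only [_root_.Fin.isValue, _root_.map_smul, _root_.Module.Basis.repr_self, _root_.Finsupp.smul_single, _root_.smul_eq_mul, _root_.mul_one, _root_.Finsupp.single_eq_same])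
      (by rw [b2, tf, ← b2]; simp) (by rw [b3, th, ← b3]; simp only [_root_.Fin.isValue, _root_.map_neg, _root_.Module.Basis.repr_self, _root_.Finsupp.coe_neg, _root_.Pi.neg_apply, _root_.Finsupp.single_eq_same])
    have t_0 := trace4 b d₀ 1 1 (-1) (-1) (by rw [b0, u₂0, ← b0]; simp only [_root_.Fin.isValue, _root_.Module.Basis.repr_self, _root_.Finsupp.single_eq_same]) (by rw [b1, u₁0, ← b1]; simp only [_root_.Fin.isValue, _root_.Module.Basis.repr_self, _root_.Finsupp.single_eq_same])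
      (by rw [b2, d0f, ← b2]; simp only [_root_.Fin.isValue, _root_.map_neg, _root_.Module.Basis.repr_self, _root_.Finsupp.coe_neg, _root_.Pi.neg_apply, _root_.Finsupp.single_eq_same]) (by rw [b3, d0h, ← b3]; simp only [_root_.Fin.isValue, _root_.map_neg, _root_.Module.Basis.repr_self, _root_.Finsupp.coe_neg, _root_.Pi.neg_apply, _root_.Finsupp.single_eq_same])
    have t_1 := trace4 b d₁ δ₂ δ₁ 0 0 (by rw [b0, u₂1, ← b0]; simp only [_root_.Fin.isValue, _root_.map_smul, _root_.Module.Basis.repr_self, _root_.Finsupp.smul_single, _root_.smul_eq_mul, _root_.mul_one, _root_.Finsupp.single_eq_same]) (by rw [b1, u₁1, ← b1]; simp)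
      (by rw [b2, d1f, ← b3]; simp) (by rw [b3, d1h, ← b2]; simp)
    have t_2 := trace4 b d₂ δ₂ δ₁ 0 0 (by rw [b0, u₂2, ← b0]; simp only [_root_.Fin.isValue, _root_.map_smul, _root_.Module.Basis.repr_self, _root_.Finsupp.smul_single, _root_.smul_eq_mul, _root_.mul_one, _root_.Finsupp.single_eq_same]) (by rw [b1, u₁2, ← b1]; simp only [_root_.Fin.isValue, _root_.map_smul, _root_.Module.Basis.repr_self, _root_.Finsupp.smul_single, _root_.smul_eq_mul, _root_.mul_one, _root_.Finsupp.single_eq_same])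
      (by rw [b2, d2f, ← b3]; simp only [_root_.Fin.isValue, _root_.map_neg, _root_.Module.Basis.repr_self, _root_.Finsupp.coe_neg, _root_.Pi.neg_apply, _root_.ne_eq, _root_.Fin.reduceEq, _root_.not_false_eq_true, _root_.Finsupp.single_eq_of_ne, _root_.neg_zero]) (by rw [b3, d2h, ← b2]; simp only [_root_.Fin.isValue, _root_.map_neg, _root_.Module.Basis.repr_self, _root_.Finsupp.coe_neg, _root_.Pi.neg_apply, _root_.ne_eq, _root_.Fin.reduceEq, _root_.not_false_eq_true, _root_.Finsupp.single_eq_of_ne, _root_.neg_zero])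
    have htr := D.htr
    rw [t_t, t_0, t_1, t_2] at htr
    exact signs h2 D.h3 hδ₁ hδ₂ hτ₁ hτ₂ (by linear_combination htr)
  obtain ⟨hδ, hτ⟩ := hsg
  -- arrange `t p = p`, `t q = -q`
  obtain ⟨p, q, δ, hδ', p0, q0, p1, q1, p2, q2, pt, qt, lpq⟩ : ∃ (p q : W) (δ : F), (δ = 1 ∨ δ = -1) ∧ d₀ p = p ∧
      d₀ q = q ∧ d₁ p = δ • p ∧ d₁ q = -δ • q ∧ d₂ p = δ • p ∧ d₂ q = -δ • q ∧ t p = p ∧ t q = -q ∧
      LinearIndependent F ![p, q, f, h] := by
    rcases hτ₁ with h3 | h3
    · rw [h3] at u₁t hτ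
      refine ⟨u₁, u₂, δ₁, hδ₁, u₁0, u₂0, u₁1, by rw [u₂1, hδ], u₁2, by rw [u₂2, hδ], by rw [u₁t, one_smul],
        by rw [u₂t, hτ, neg_smul, one_smul], ?_⟩
      have := li.comp ![1, 0, 2, 3] (by decide)
      convert this using 1
      funext i
      fin_cases i <;> rfl
    · rw [h3, neg_neg] at hτ
      rw [h3] at u₁t
      refine ⟨u₂, u₁, δ₂, hδ₂, u₂0, u₁0, u₂1, by rw [u₁1, hδ, neg_neg], u₂2, by rw [u₁2, hδ, neg_neg],
        by rw [u₂t, hτ, one_smul], by rw [u₁t, neg_smul, one_smul], li⟩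
  clear u₁0 u₂0 u₁1 u₂1 u₁2 u₂2 u₁t u₂t hδ hτ li hu₂ li1 hu₁
  have expand : ∀ w, ∃ r₀ r₁ r₂ r₃ : F, w = r₀ • p + r₁ • q + r₂ • f + r₃ • h := by
    intro w
    obtain ⟨b, hb⟩ : ∃ b : Module.Basis (Fin 4) F W, ⇑b = ![p, q, f, h] :=
      ⟨basisOfLinearIndependentOfCardEqFinrank lpq (by rw [Fintype.card_fin, hW]),
        coe_basisOfLinearIndependentOfCardEqFinrank _ _⟩
    have h3 := b.sum_repr w
    rw [Fin.sum_univ_four, hb] at h3
    exact ⟨_, _, _, _, h3.symm⟩
  have indep : ∀ r₀ r₁ r₂ r₃ : F, r₀ • p + r₁ • q + r₂ • f + r₃ • h = 0 → r₀ = 0 ∧ r₁ = 0 ∧ r₂ = 0 ∧ r₃ = 0 := by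
    intro r₀ r₁ r₂ r₃ e
    have h3 := Fintype.linearIndependent_iff.1 lpq ![r₀, r₁, r₂, r₃] (by rw [Fin.sum_univ_four]; exact e)
    exact ⟨h3 0, h3 1, h3 2, h3 3⟩
  have xx : ∀ w, (3 : F) • x (x w) = t w := fun w => (congrArg (fun T : Module.End F W => T w) D.ht).symm
  have xt' : ∀ w, t (x w) = x (t w) := fun w => congrArg (fun T : Module.End F W => T w) D.xt
  have plus : ∀ w, t w = w → ∃ r s : F, w = r • p + s • f := by
    intro w hw
    obtain ⟨r₀, r₁, r₂, r₃, h3⟩ := expand w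
    rw [h3] at hw
    simp only [map_add, map_smul, pt, qt, tf, th] at hw
    have h5 : (0 : F) • p + (2 * r₁) • q + (0 : F) • f + (2 * r₃) • h = 0 := by
      have : (0 : F) • p + (2 * r₁) • q + (0 : F) • f + (2 * r₃) • h =
        (r₀ • p + r₁ • q + r₂ • f + r₃ • h) - (r₀ • p + r₁ • -q + r₂ • f + r₃ • -h) := by module
      rw [this, hw, sub_self]
    obtain ⟨-, h6, -, h7⟩ := indep _ _ _ _ h5
    refine ⟨r₀, r₂, ?_⟩
    rw [h3, (mul_eq_zero.1 h6).resolve_left h2, (mul_eq_zero.1 h7).resolve_left h2]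
    module
  have minus : ∀ w, t w = -w → ∃ r s : F, w = r • q + s • h := by
    intro w hw
    obtain ⟨r₀, r₁, r₂, r₃, h3⟩ := expand w
    rw [h3] at hw
    simp only [map_add, map_smul, pt, qt, tf, th] at hw
    have h5 : (2 * r₀) • p + (0 : F) • q + (2 * r₂) • f + (0 : F) • h = 0 := by
      have : (2 * r₀) • p + (0 : F) • q + (2 * r₂) • f + (0 : F) • h =
        (r₀ • p + r₁ • -q + r₂ • f + r₃ • -h) - -(r₀ • p + r₁ • q + r₂ • f + r₃ • h) := by module
      rw [this, hw, sub_self]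
    obtain ⟨h6, -, h7, -⟩ := indep _ _ _ _ h5
    refine ⟨r₁, r₃, ?_⟩
    rw [h3, (mul_eq_zero.1 h6).resolve_left h2, (mul_eq_zero.1 h7).resolve_left h2]
    module
  obtain ⟨β, ρ, hβ⟩ := plus (x f) (by rw [xt', tf])
  obtain ⟨a, g, ha⟩ := plus (x p) (by rw [xt', pt])
  obtain ⟨β', ρ', hβ'⟩ := minus (x h) (by rw [xt', th, map_neg])
  obtain ⟨c, k, hc⟩ := minus (x q) (by rw [xt', qt, map_neg])
  have small : ∀ u : W, Submodule.span F (Set.range ![u, f, h]) ≠ ⊤ := by
    intro u h3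
    have h4 := finrank_range_le_card (R := F) ![u, f, h]
    rw [Fintype.card_fin, Set.finrank, h3, finrank_top] at h4
    omega
  have big : ∀ u : W, Submodule.span F (Set.range ![u, f, h]) ≠ ⊥ := by
    intro u h3
    have h4 : f ∈ Submodule.span F (Set.range ![u, f, h]) := Submodule.subset_span ⟨1, rfl⟩
    rw [h3, Submodule.mem_bot] at h4
    exact hf0 h4
  have hβ0 : β ≠ 0 := by
    intro h0
    rw [h0, zero_smul, zero_add] at hβ
    have m0 : q ∈ Submodule.span F (Set.range ![q, f, h]) := Submodule.subset_span ⟨0, rfl⟩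
    have m1 : f ∈ Submodule.span F (Set.range ![q, f, h]) := Submodule.subset_span ⟨1, rfl⟩
    have m2 : h ∈ Submodule.span F (Set.range ![q, f, h]) := Submodule.subset_span ⟨2, rfl⟩
    rcases D.irr _ (span_inv (v := ![q, f, h]) x fun i => by
        fin_cases i
        · show x q ∈ _
          rw [hc]; exact add_mem (Submodule.smul_mem _ _ m0) (Submodule.smul_mem _ _ m2)
        · show x f ∈ _
          rw [hβ]; exact Submodule.smul_mem _ _ m1
        · show x h ∈ _
          rw [hβ']; exact add_mem (Submodule.smul_mem _ _ m0) (Submodule.smul_mem _ _ m2))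
      (span_inv (v := ![q, f, h]) d₀ fun i => by
        fin_cases i
        · show d₀ q ∈ _
          rw [q0]; exact m0
        · show d₀ f ∈ _
          rw [d0f]; exact neg_mem m1
        · show d₀ h ∈ _
          rw [d0h]; exact neg_mem m2)
      (span_inv (v := ![q, f, h]) d₁ fun i => by
        fin_cases i
        · show d₁ q ∈ _
          rw [q1]; exact Submodule.smul_mem _ _ m0
        · show d₁ f ∈ _
          rw [d1f]; exact m2
        · show d₁ h ∈ _
          rw [d1h]; exact m1)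
      (span_inv (v := ![q, f, h]) d₂ fun i => by
        fin_cases i
        · show d₂ q ∈ _
          rw [q2]; exact Submodule.smul_mem _ _ m0
        · show d₂ f ∈ _
          rw [d2f]; exact neg_mem m2
        · show d₂ h ∈ _
          rw [d2h]; exact neg_mem m1) with h3 | h3
    · exact big _ h3
    · exact small _ h3
  have hβ0' : β' ≠ 0 := by
    intro h0
    rw [h0, zero_smul, zero_add] at hβ'
    have m0 : p ∈ Submodule.span F (Set.range ![p, f, h]) := Submodule.subset_span ⟨0, rfl⟩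
    have m1 : f ∈ Submodule.span F (Set.range ![p, f, h]) := Submodule.subset_span ⟨1, rfl⟩
    have m2 : h ∈ Submodule.span F (Set.range ![p, f, h]) := Submodule.subset_span ⟨2, rfl⟩
    rcases D.irr _ (span_inv (v := ![p, f, h]) x fun i => by
        fin_cases i
        · show x p ∈ _
          rw [ha]; exact add_mem (Submodule.smul_mem _ _ m0) (Submodule.smul_mem _ _ m1)
        · show x f ∈ _
          rw [hβ]; exact add_mem (Submodule.smul_mem _ _ m0) (Submodule.smul_mem _ _ m1)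
        · show x h ∈ _
          rw [hβ']; exact Submodule.smul_mem _ _ m2)
      (span_inv (v := ![p, f, h]) d₀ fun i => by
        fin_cases i
        · show d₀ p ∈ _
          rw [p0]; exact m0
        · show d₀ f ∈ _
          rw [d0f]; exact neg_mem m1
        · show d₀ h ∈ _
          rw [d0h]; exact neg_mem m2)
      (span_inv (v := ![p, f, h]) d₁ fun i => by
        fin_cases i
        · show d₁ p ∈ _
          rw [p1]; exact Submodule.smul_mem _ _ m0
        · show d₁ f ∈ _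
          rw [d1f]; exact m2
        · show d₁ h ∈ _
          rw [d1h]; exact m1)
      (span_inv (v := ![p, f, h]) d₂ fun i => by
        fin_cases i
        · show d₂ p ∈ _
          rw [p2]; exact Submodule.smul_mem _ _ m0
        · show d₂ f ∈ _
          rw [d2f]; exact neg_mem m2
        · show d₂ h ∈ _
          rw [d2h]; exact neg_mem m1) with h3 | h3
    · exact big _ h3
    · exact small _ h3
  -- the relations of `x`
  have r1 := xx f
  rw [hβ, map_add, map_smul, map_smul, ha, hβ, tf] at r1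
  have r1' : (3 * (β * a + ρ * β)) • p + (0 : F) • q + (3 * (β * g + ρ * ρ) - 1) • f + (0 : F) • h = 0 := by
    have : (3 * (β * a + ρ * β)) • p + (0 : F) • q + (3 * (β * g + ρ * ρ) - 1) • f + (0 : F) • h =
      (3 : F) • (β • (a • p + g • f) + ρ • (β • p + ρ • f)) - f := by module
    rw [this, r1, sub_self]
  obtain ⟨s1, -, s2, -⟩ := indep _ _ _ _ r1'
  have hρ : ρ = -a := by
    have h3 := (mul_eq_zero.1 s1).resolve_left D.h3
    have h4 : β * (a + ρ) = 0 := by linear_combination h3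
    linear_combination (mul_eq_zero.1 h4).resolve_left hβ0
  subst hρ
  have r2 := xx h
  rw [hβ', map_add, map_smul, map_smul, hc, hβ', th] at r2
  have r2' : (0 : F) • p + (3 * (β' * c + ρ' * β')) • q + (0 : F) • f + (3 * (β' * k + ρ' * ρ') + 1) • h = 0 := by
    have : (0 : F) • p + (3 * (β' * c + ρ' * β')) • q + (0 : F) • f + (3 * (β' * k + ρ' * ρ') + 1) • h =
      (3 : F) • (β' • (c • q + k • h) + ρ' • (β' • q + ρ' • h)) - -h := by module
    rw [this, r2, sub_self]
  obtain ⟨-, s3, -, s4⟩ := indep _ _ _ _ r2'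
  have hρ' : ρ' = -c := by
    have h3 := (mul_eq_zero.1 s3).resolve_left D.h3
    have h4 : β' * (c + ρ') = 0 := by linear_combination h3
    linear_combination (mul_eq_zero.1 h4).resolve_left hβ0'
  subst hρ'
  have lfin : LinearIndependent F ![β • p, β' • q, f, h] := by
    rw [Fintype.linearIndependent_iff]
    intro r hr
    rw [Fin.sum_univ_four] at hr
    have hr' : r 0 • β • p + r 1 • β' • q + r 2 • f + r 3 • h = 0 := hr
    rw [smul_smul, smul_smul] at hr'
    obtain ⟨k0, k1, k2, k3⟩ := indep _ _ _ _ hr'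
    intro i
    fin_cases i
    exacts [(mul_eq_zero.1 k0).resolve_right hβ0, (mul_eq_zero.1 k1).resolve_right hβ0', k2, k3]
  obtain ⟨b, hb⟩ : ∃ b : Module.Basis (Fin 4) F W, ⇑b = ![β • p, β' • q, f, h] :=
    ⟨basisOfLinearIndependentOfCardEqFinrank lfin (by rw [Fintype.card_fin, hW]),
      coe_basisOfLinearIndependentOfCardEqFinrank _ _⟩
  have b0 : b 0 = β • p := by rw [hb]; rfl
  have b1 : b 1 = β' • q := by rw [hb]; rfl
  have b2 : b 2 = f := by rw [hb]; rfl
  have b3 : b 3 = h := by rw [hb]; rfl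
  refine ⟨b, δ, a, c, β * g, β' * k, hδ', ?_⟩
  rw [b0, b1, b2, b3]
  refine ⟨⟨by rw [map_smul, p0], by rw [map_smul, q0], d0f, d0h⟩,
    ⟨by rw [map_smul, p1, smul_comm], by rw [map_smul, q1, smul_comm], d1f, d1h⟩,
    ⟨by rw [map_smul, p2, smul_comm], by rw [map_smul, q2, smul_comm], d2f, d2h⟩,
    ⟨by rw [map_smul, pt], by rw [map_smul, qt, smul_neg], tf, th⟩,
    ⟨by rw [map_smul, ha]; module, by rw [map_smul, hc]; module, by rw [hβ]; module, by rw [hβ']; module⟩,
    by linear_combination s2, by linear_combination s4⟩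

set_option maxHeartbeats 2000000 in
/-- **Dimension four is impossible in odd characteristic.** -/
theorem Dat.four_odd [FiniteDimensional F W] (D : Dat ω x d₀ d₁ d₂ t) (hW : Module.finrank F W = 4)
    (h2 : (2 : F) ≠ 0) : False := by
  obtain ⟨b, δ, a, c, g, k, hδ, ⟨a00, a01, a02, a03⟩, ⟨a10, a11, a12, a13⟩, ⟨a20, a21, a22, a23⟩,
    ⟨at0, at1, at2, at3⟩, ⟨ax0, ax1, ax2, ax3⟩, hg, hk⟩ := D.exists_basis4 hW h2
  obtain ⟨y₀, y₁, y₂, hy0, hy1, hy2, E0, E1, E2⟩ := r6_entries' D.hω D.ht D.tt D.h00 D.h11 D.h22 D.r6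
  have h3 := D.h3
  let M := LinearMap.toMatrixAlgEquiv b
  have X : M x = !![a, 0, 1, 0; 0, c, 0, 1; g, 0, -a, 0; 0, k, 0, -c] :=
    toMat4 b _ (by rw [ax0]; module) (by rw [ax1]; module) (by rw [ax2]; module) (by rw [ax3]; module)
  have T : M t = !![1, 0, 0, 0; 0, -1, 0, 0; 0, 0, 1, 0; 0, 0, 0, -1] :=
    toMat4 b _ (by rw [at0]; module) (by rw [at1]; module) (by rw [at2]; module) (by rw [at3]; module)
  have D0 : M d₀ = !![1, 0, 0, 0; 0, 1, 0, 0; 0, 0, -1, 0; 0, 0, 0, -1] :=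
    toMat4 b _ (by rw [a00]; module) (by rw [a01]; module) (by rw [a02]; module) (by rw [a03]; module)
  have D1 : M d₁ = !![δ, 0, 0, 0; 0, -δ, 0, 0; 0, 0, 0, 1; 0, 0, 1, 0] :=
    toMat4 b _ (by rw [a10]; module) (by rw [a11]; module) (by rw [a12]; module) (by rw [a13]; module)
  have D2 : M d₂ = !![δ, 0, 0, 0; 0, -δ, 0, 0; 0, 0, 0, -1; 0, 0, -1, 0] :=
    toMat4 b _ (by rw [a20]; module) (by rw [a21]; module) (by rw [a22]; module) (by rw [a23]; module)
  obtain ⟨θ, hθ⟩ : ∃ θ, θ = ω - ω ^ (2:ℕ) := ⟨_, rfl⟩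
  have hθ2 : θ ^ (2:ℕ) = -3 := by rw [hθ]; linear_combination (ω ^ (2:ℕ) - 3 * ω + 3) * D.hω
  have hω := D.hω
  have M0 : M (d₀ + d₁ + d₂) = !![1 + 2 * δ, 0, 0, 0; 0, 1 - 2 * δ, 0, 0; 0, 0, -1, 0; 0, 0, 0, -1] := by
    rw [map_add, map_add, D0, D1, D2, add4, add4]
    refine ext4 ?_ ?_ ?_ ?_ ?_ ?_ ?_ ?_ ?_ ?_ ?_ ?_ ?_ ?_ ?_ ?_ <;> ring1
  have M1 : M (d₀ + ω ^ (2:ℕ) • d₁ + ω • d₂) =
      !![1 - δ, 0, 0, 0; 0, 1 + δ, 0, 0; 0, 0, -1, -θ; 0, 0, -θ, -1] := by
    rw [map_add, map_add, map_smul, map_smul, D0, D1, D2, smul4, smul4, add4, add4]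
    refine ext4 ?_ ?_ ?_ ?_ ?_ ?_ ?_ ?_ ?_ ?_ ?_ ?_ ?_ ?_ ?_ ?_ <;>
      [(linear_combination δ * hω); (ring1); (ring1); (ring1); (ring1); (linear_combination -δ * hω); (ring1); (ring1); (ring1); (ring1); (ring1);
       (linear_combination hθ); (ring1); (ring1); (linear_combination hθ); (ring1)]
  have M2 : M (d₀ + ω • d₁ + ω ^ (2:ℕ) • d₂) =
      !![1 - δ, 0, 0, 0; 0, 1 + δ, 0, 0; 0, 0, -1, θ; 0, 0, θ, -1] := by
    rw [map_add, map_add, map_smul, map_smul, D0, D1, D2, smul4, smul4, add4, add4]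
    refine ext4 ?_ ?_ ?_ ?_ ?_ ?_ ?_ ?_ ?_ ?_ ?_ ?_ ?_ ?_ ?_ ?_ <;>
      [(linear_combination δ * hω); (ring1); (ring1); (ring1); (ring1); (linear_combination -δ * hω); (ring1); (ring1); (ring1); (ring1); (ring1);
       (linear_combination -hθ); (ring1); (ring1); (linear_combination -hθ); (ring1)]
  have hg' : 3 * g + 3 * a ^ (2:ℕ) - 1 = 0 := by linear_combination hg
  have hk' : 3 * k + 3 * c ^ (2:ℕ) + 1 = 0 := by linear_combination hk
  have ht' : θ ^ (2:ℕ) + 3 = 0 := by linear_combination hθ2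
  have n9 : (9 : F) ≠ 0 := by rw [show (9 : F) = 3 * 3 by norm_num]; exact mul_ne_zero h3 h3
  rcases hδ with rfl | rfl
  · have Y0 : M y₀ = !![3 * a ^ (2:ℕ) - g, 0, 4 * a, 0; 0, c ^ (2:ℕ) + k, 0, 0; 4 * a * g, 0, 3 * g - a ^ (2:ℕ), 0;
        0, 0, 0, c ^ (2:ℕ) + k] := by
      rw [hy0, map_mul, map_mul, map_mul, M0, X, T]
      simp only [mul4, mul_zero, zero_mul, add_zero, zero_add, mul_one, one_mul]
      refine ext4 ?_ ?_ ?_ ?_ ?_ ?_ ?_ ?_ ?_ ?_ ?_ ?_ ?_ ?_ ?_ ?_ <;> ring1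
    have Y1 : M y₁ = !![-g, k * θ, a, -(c * θ); -(g * θ), k - 2 * c ^ (2:ℕ), a * θ, -(3 * c);
        a * g, -(a * k * θ), -a ^ (2:ℕ), a * c * θ; c * g * θ, -(3 * c * k), -(a * c * θ), c ^ (2:ℕ) - 2 * k] := by
      rw [hy1, map_mul, map_mul, map_mul, M1, X, T]
      simp only [mul4, mul_zero, zero_mul, add_zero, zero_add, mul_one, one_mul]
      refine ext4 ?_ ?_ ?_ ?_ ?_ ?_ ?_ ?_ ?_ ?_ ?_ ?_ ?_ ?_ ?_ ?_ <;> ring1
    have Y2 : M y₂ = !![-g, -(k * θ), a, c * θ; g * θ, k - 2 * c ^ (2:ℕ), -(a * θ), -(3 * c);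
        a * g, a * k * θ, -a ^ (2:ℕ), -(a * c * θ); -(c * g * θ), -(3 * c * k), a * c * θ, c ^ (2:ℕ) - 2 * k] := by
      rw [hy2, map_mul, map_mul, map_mul, M2, X, T]
      simp only [mul4, mul_zero, zero_mul, add_zero, zero_add, mul_one, one_mul]
      refine ext4 ?_ ?_ ?_ ?_ ?_ ?_ ?_ ?_ ?_ ?_ ?_ ?_ ?_ ?_ ?_ ?_ <;> ring1
    have E0' := congrArg M E0
    have E1' := congrArg M E1
    have E2' := congrArg M E2
    simp only [map_mul, map_mul, map_mul, map_add, map_add, map_mul, map_mul, map_mul, map_mul, map_mul, map_mul, Y0, Y1, Y2,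
      D0, D1, D2, T] at E0' E1' E2'
    simp only [mul4, add4] at E0' E1' E2'
    have F1 := (ent4 E1').2.1.2.2.2
    have F2 := (ent4 E2').2.1.2.2.2
    have F3 := (ent4 E0').1.2.2.1
    have F4 := (ent4 E1').2.1.2.1
    simp only [mul_zero, zero_mul, add_zero, zero_add, mul_one, one_mul] at F1 F2 F3 F4
    have G1 : 9 * a ^ (2:ℕ) * c - 4 * a * θ - 27 * c ^ (3:ℕ) - 3 * c = 0 := by
      linear_combination 3 * F1 - 3 * c * g * ht' + 3 * c * hg' - a * θ * hk'
    have G2 : 9 * a ^ (2:ℕ) * c + 2 * a * θ - 27 * c ^ (3:ℕ) - 21 * c = 0 := by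
      linear_combination 3 * F2 - 3 * c * g * ht' + 3 * c * hg' + (2 * a * θ - 9 * c) * hk'
    have G3 : -34 * a ^ (3:ℕ) + 4 * a ^ (2:ℕ) * c * θ - 6 * a * c ^ (2:ℕ) = 0 := by
      linear_combination F3 + 2 * a * k * ht' - 6 * a * hg' - 2 * a * hk'
    have G4 : 27 * a ^ (2:ℕ) * c ^ (2:ℕ) + 9 * a ^ (2:ℕ) - 81 * c ^ (4:ℕ) - 1 = 0 := by
      linear_combination 9 * F4 + 9 * g * k * ht' - 9 * k * hg' + (9 * a ^ (2:ℕ) - 15 * c ^ (2:ℕ) + 3 * k - 1) * hk'
    have G5 : a * θ = 3 * c := by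
      have h6 : (2 * 3) * (a * θ - 3 * c) = 0 := by linear_combination G2 - G1
      linear_combination (mul_eq_zero.1 h6).resolve_left (mul_ne_zero h2 h3)
    have G6 : a ^ (2:ℕ) = -(3 * c ^ (2:ℕ)) := by
      have h6 : 3 * (a ^ (2:ℕ) + 3 * c ^ (2:ℕ)) = 0 := by
        linear_combination a ^ (2:ℕ) * ht' - (a * θ + 3 * c) * G5
      linear_combination (mul_eq_zero.1 h6).resolve_left h3
    have G7 : (2 * 2 * (3 * 3 * 3)) * (a * c ^ (2:ℕ)) = 0 := by
      linear_combination G3 - 4 * a * c * G5 + 34 * a * G6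
    have G8 := (mul_eq_zero.1 G7).resolve_left (mul_ne_zero (mul_ne_zero h2 h2) (mul_ne_zero (mul_ne_zero h3 h3) h3))
    have hc0 : c = 0 := by
      rcases mul_eq_zero.1 G8 with h6 | h6
      · have h7 : 3 * c = 0 := by rw [← G5, h6, zero_mul]
        exact (mul_eq_zero.1 h7).resolve_left h3
      · exact pow_eq_zero_iff (two_ne_zero) |>.1 h6
    have ha0 : a ^ (2:ℕ) = 0 := by rw [G6, hc0]; ring
    rw [hc0] at G4
    exact one_ne_zero (α := F) (by linear_combination 9 * ha0 - G4)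
  · have Y0 : M y₀ = !![-a ^ (2:ℕ) - g, 0, 0, 0; 0, k - 3 * c ^ (2:ℕ), 0, -(4 * c); 0, 0, -a ^ (2:ℕ) - g, 0;
        0, -(4 * c * k), 0, c ^ (2:ℕ) - 3 * k] := by
      rw [hy0, map_mul, map_mul, map_mul, M0, X, T]
      simp only [mul4, mul_zero, zero_mul, add_zero, zero_add, mul_one, one_mul]
      refine ext4 ?_ ?_ ?_ ?_ ?_ ?_ ?_ ?_ ?_ ?_ ?_ ?_ ?_ ?_ ?_ ?_ <;> ring1
    have Y1 : M y₁ = !![2 * a ^ (2:ℕ) - g, k * θ, 3 * a, -(c * θ); -(g * θ), k, a * θ, -c;
        3 * a * g, -(a * k * θ), 2 * g - a ^ (2:ℕ), a * c * θ; c * g * θ, -(c * k), -(a * c * θ), c ^ (2:ℕ)] := by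
      rw [hy1, map_mul, map_mul, map_mul, M1, X, T]
      simp only [mul4, mul_zero, zero_mul, add_zero, zero_add, mul_one, one_mul]
      refine ext4 ?_ ?_ ?_ ?_ ?_ ?_ ?_ ?_ ?_ ?_ ?_ ?_ ?_ ?_ ?_ ?_ <;> ring1
    have Y2 : M y₂ = !![2 * a ^ (2:ℕ) - g, -(k * θ), 3 * a, c * θ; g * θ, k, -(a * θ), -c;
        3 * a * g, a * k * θ, 2 * g - a ^ (2:ℕ), -(a * c * θ); -(c * g * θ), -(c * k), a * c * θ, c ^ (2:ℕ)] := by
      rw [hy2, map_mul, map_mul, map_mul, M2, X, T]
      simp only [mul4, mul_zero, zero_mul, add_zero, zero_add, mul_one, one_mul]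
      refine ext4 ?_ ?_ ?_ ?_ ?_ ?_ ?_ ?_ ?_ ?_ ?_ ?_ ?_ ?_ ?_ ?_ <;> ring1
    have E0' := congrArg M E0
    have E1' := congrArg M E1
    have E2' := congrArg M E2
    simp only [map_mul, map_mul, map_mul, map_add, map_add, map_mul, map_mul, map_mul, map_mul, map_mul, map_mul, Y0, Y1, Y2,
      D0, D1, D2, T] at E0' E1' E2'
    simp only [mul4, add4] at E0' E1' E2'
    have F1 := (ent4 E2').2.1.2.2.2
    have F2 := (ent4 E1').2.1.2.2.2
    have F3 := (ent4 E1').1.2.2.1
    have F4 := (ent4 E0').1.2.2.1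
    have F5 := (ent4 E1').2.2.1.2.2.1
    simp only [mul_zero, zero_mul, add_zero, zero_add, mul_one, one_mul] at F1 F2 F3 F4 F5
    have G1 : -3 * a ^ (2:ℕ) * c - 4 * a * c ^ (2:ℕ) * θ + 13 * c ^ (3:ℕ) + 5 * c = 0 := by
      linear_combination F1 + c * g * ht' - c * hg' + 3 * c * hk'
    have G2 : -3 * a ^ (2:ℕ) * c - 4 * a * c ^ (2:ℕ) * θ - 2 * a * θ + 13 * c ^ (3:ℕ) + 3 * c = 0 := by
      linear_combination F2 + c * g * ht' - c * hg' - (a * θ - 2 * c) * hk'
    have G3 : 27 * a ^ (3:ℕ) - 9 * a * c ^ (2:ℕ) - 3 * a + 2 * c * θ = 0 := by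
      linear_combination 3 * F3 + 3 * a * k * ht' + c * θ * hg' - 3 * a * hk'
    have G4 : 54 * a ^ (3:ℕ) + 36 * a ^ (2:ℕ) * c * θ + 18 * a * c ^ (2:ℕ) - 4 * c * θ = 0 := by
      linear_combination 3 * F4 - 6 * a * k * ht' + (6 * a + 4 * c * θ) * hg' + 6 * a * hk'
    have G5 : -81 * a ^ (4:ℕ) + 27 * a ^ (2:ℕ) * c ^ (2:ℕ) + 45 * a ^ (2:ℕ) + 6 * a * c * θ - 2 = 0 := by
      linear_combination 9 * F5 - 9 * a ^ (2:ℕ) * k * ht' - (30 * a ^ (2:ℕ) - 3 * a * c * θ - 6 * g - 2) * hg' + 9 * a ^ (2:ℕ) * hk'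
    have G6 : c = -(a * θ) := by
      have h6 : 2 * (a * θ + c) = 0 := by linear_combination G1 - G2
      linear_combination (mul_eq_zero.1 h6).resolve_left h2
    have G7 : c ^ (2:ℕ) = -(3 * a ^ (2:ℕ)) := by rw [G6]; linear_combination a ^ (2:ℕ) * ht'
    have G8 : c * θ = 3 * a := by rw [G6]; linear_combination -a * ht'
    have G9 : 18 * a ^ (3:ℕ) + a = 0 := by
      have h6 : 3 * (18 * a ^ (3:ℕ) + a) = 0 := by linear_combination G3 + 9 * a * G7 - 2 * G8
      exact (mul_eq_zero.1 h6).resolve_left h3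
    have G10 : (2 * 3 * 3) * a = 0 := by
      linear_combination -G4 + 36 * a ^ (2:ℕ) * G8 + 18 * a * G7 - 4 * G8 + 6 * G9
    have ha0 : a = 0 := (mul_eq_zero.1 G10).resolve_left (mul_ne_zero (mul_ne_zero h2 h3) h3)
    rw [ha0] at G5
    exact h2 (by linear_combination -G5)

end odd

end Cfsg.Agent.H637.Three
end

-- part: H637/A7TwelveTwo
section
/-!
# `3.A₇` in dimension twelve, characteristic two (helper637)
-/

set_option autoImplicit false
set_option linter.unusedSectionVars false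
set_option linter.unusedSimpArgs false
set_option maxHeartbeats 2000000

namespace Cfsg.Agent.H637.Three

open Matrix
open Cfsg.Agent.H915.A7Old (a3 b3 dg gm rm fin3 ext3 omega_cube omega_ne mul3 gm_mul_gm gm_entries dg_entries rm_entries)

section two

variable {F W : Type*} [Field F] [AddCommGroup W] [Module F W] {ω : F} {x d₀ d₁ d₂ t : Module.End F W}

theorem two_fin (h2 : (2 : F) = 0) (hω : ω ^ (2:ℕ) + ω + 1 = 0) {m n r s c : F}
    {X T D0 D1 D2 Y0 Y1 Y2 : Matrix (Fin 4) (Fin 4) F}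
    (hX : X = !![1, 1, 0, 0; 0, 1, 1, 0; 0, 0, 1, 1; 0, 0, 0, 1])
    (hT : T = !![1, 0, 1, 0; 0, 1, 0, 1; 0, 0, 1, 0; 0, 0, 0, 1])
    (hD0 : D0 = !![1, 0, m * c, 0;
      c, 1, n + r + c, m * c;
      0, 0, 1, 0;
      0, 0, c, 1])
    (hD1 : D1 = !![m * c + 1, 0, m * r, m ^ (2:ℕ) * c;
      n, 1, s, m * n;
      0, 0, 1, 0;
      c, 0, r, m * c + 1])
    (hD2 : D2 = !![m * c + 1, 0, m * r + m * c, m ^ (2:ℕ) * c;
      n + c, 1, n + r + s + c, m * n + m * c;
      0, 0, 1, 0;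
      c, 0, r + c, m * c + 1])
    (hY0 : Y0 = X * (D0 + D1 + D2) * (X * T)) (hY1 : Y1 = X * (D0 + ω ^ (2:ℕ) • D1 + ω • D2) * (X * T))
    (hY2 : Y2 = X * (D0 + ω • D1 + ω ^ (2:ℕ) • D2) * (X * T))
    (E : D0 * Y0 * D0 = T * (Y0 * D0 * Y0 + Y2 * D1 * Y1 + Y1 * D2 * Y2)) : c = 0 := by
  have Z0 : Y0 = !![1, 0, 0, 0;
      0, 1, 0, 0;
      0, 0, 1, 0;
      0, 0, 0, 1] := by
    rw [hY0, hX, hT, hD0, hD1, hD2, add4, add4]
    simp only [mul4, mul_zero, zero_mul, add_zero, zero_add, mul_one, one_mul]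
    refine ext4 ?_ ?_ ?_ ?_ ?_ ?_ ?_ ?_ ?_ ?_ ?_ ?_ ?_ ?_ ?_ ?_
    · linear_combination (1 * m * c + 1 * n + 1 * c + 1) * h2
    · linear_combination (1 * m * c + 1 * n + 1 * c + 3) * h2
    · linear_combination (1 * m * r + 2 * m * c + 2 * n + 1 * r + 1 * s + 2 * c + 3) * h2
    · linear_combination (1 * m ^ (2:ℕ) * c + 1 * m * n + 1 * m * r + 3 * m * c + 2 * n + 1 * r + 1 * s + 2 * c + 3) * h2
    · linear_combination (1 * n + 1 * c) * h2
    · linear_combination (1 * n + 1 * c + 1) * h2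
    · linear_combination (2 * n + 1 * r + 1 * s + 2 * c + 3) * h2
    · linear_combination (1 * m * n + 1 * m * c + 2 * n + 1 * r + 1 * s + 2 * c + 3) * h2
    · linear_combination (1 * c) * h2
    · linear_combination (1 * c) * h2
    · linear_combination (1 * r + 2 * c + 1) * h2
    · linear_combination (1 * m * c + 1 * r + 2 * c + 3) * h2
    · linear_combination (1 * c) * h2
    · linear_combination (1 * c) * h2
    · linear_combination (1 * r + 2 * c) * h2
    · linear_combination (1 * m * c + 1 * r + 2 * c + 1) * h2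
  have Z1 : Y1 = !![m * c + n + c * ω + c, m * c + n + c * ω + c, m * r + m * c * ω + n * ω + r * ω + r + s, m ^ (2:ℕ) * c + m * n + m * r + m * c + n * ω + r * ω + r + s;
      n + c * ω + c, n + c * ω + c, n * ω + r * ω + r + s, m * n + m * c * ω + m * c + n * ω + r * ω + r + s;
      c, c, r + c * ω, m * c + r + c * ω;
      c, c, r + c * ω, m * c + r + c * ω] := by
    rw [hY1, hX, hT, hD0, hD1, hD2, smul4, smul4, add4, add4]
    simp only [mul4, mul_zero, zero_mul, add_zero, zero_add, mul_one, one_mul]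
    refine ext4 ?_ ?_ ?_ ?_ ?_ ?_ ?_ ?_ ?_ ?_ ?_ ?_ ?_ ?_ ?_ ?_
    · linear_combination ((-1) * m * c + (-1) * n) * h2 + (1 * m * c + 1 * n + 1) * hω
    · linear_combination ((-1) * m * c + (-1) * n) * h2 + (1 * m * c + 1 * n + 2) * hω
    · linear_combination ((-1) * m * r + (-1) * s + 1 * c * ω + 1 * c) * h2 + (1 * m * r + 1 * m * c + 1 * n + 1 * s + 2) * hω
    · linear_combination ((-1) * m ^ (2:ℕ) * c + (-1) * m * n + (-1) * m * r + 1 * m * c * ω + (-1) * s + 1 * c * ω + 1 * c) * h2 + (1 * m ^ (2:ℕ) * c + 1 * m * n + 1 * m * r + 1 * m * c + 1 * n + 1 * s + 2) * hω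
    · linear_combination ((-1) * n) * h2 + (1 * n) * hω
    · linear_combination ((-1) * n) * h2 + (1 * n + 1) * hω
    · linear_combination ((-1) * s + 1 * c * ω + 1 * c) * h2 + (1 * n + 1 * s + 2) * hω
    · linear_combination ((-1) * m * n + (-1) * s + 1 * c * ω + 1 * c) * h2 + (1 * m * n + 1 * n + 1 * s + 2) * hω
    · linear_combination ((-1) * c) * h2 + (1 * c) * hω
    · linear_combination ((-1) * c) * h2 + (1 * c) * hω
    · linear_combination ((-1) * r) * h2 + (1 * r + 1 * c + 1) * hω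
    · linear_combination ((-1) * m * c + (-1) * r) * h2 + (1 * m * c + 1 * r + 1 * c + 2) * hω
    · linear_combination ((-1) * c) * h2 + (1 * c) * hω
    · linear_combination ((-1) * c) * h2 + (1 * c) * hω
    · linear_combination ((-1) * r) * h2 + (1 * r + 1 * c) * hω
    · linear_combination ((-1) * m * c + (-1) * r) * h2 + (1 * m * c + 1 * r + 1 * c + 1) * hω
  have Z2 : Y2 = !![m * c + n + c * ω, m * c + n + c * ω, m * r + m * c * ω + m * c + n * ω + n + r * ω + s, m ^ (2:ℕ) * c + m * n + m * r + m * c + n * ω + n + r * ω + s;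
      n + c * ω, n + c * ω, n * ω + n + r * ω + s, m * n + m * c * ω + n * ω + n + r * ω + s;
      c, c, r + c * ω + c, m * c + r + c * ω + c;
      c, c, r + c * ω + c, m * c + r + c * ω + c] := by
    rw [hY2, hX, hT, hD0, hD1, hD2, smul4, smul4, add4, add4]
    simp only [mul4, mul_zero, zero_mul, add_zero, zero_add, mul_one, one_mul]
    refine ext4 ?_ ?_ ?_ ?_ ?_ ?_ ?_ ?_ ?_ ?_ ?_ ?_ ?_ ?_ ?_ ?_
    · linear_combination ((-1) * m * c + (-1) * n + (-1) * c * ω) * h2 + (1 * m * c + 1 * n + 1 * c + 1) * hω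
    · linear_combination ((-1) * m * c + (-1) * n + (-1) * c * ω) * h2 + (1 * m * c + 1 * n + 1 * c + 2) * hω
    · linear_combination ((-1) * m * r + (-1) * m * c * ω + (-1) * m * c + (-1) * n * ω + (-1) * n + (-1) * r * ω + (-1) * s + (-1) * c * ω) * h2 + (1 * m * r + 2 * m * c + 2 * n + 1 * r + 1 * s + 2 * c + 2) * hω
    · linear_combination ((-1) * m ^ (2:ℕ) * c + (-1) * m * n + (-1) * m * r + (-1) * m * c * ω + (-1) * m * c + (-1) * n * ω + (-1) * n + (-1) * r * ω + (-1) * s + (-1) * c * ω) * h2 + (1 * m ^ (2:ℕ) * c + 1 * m * n + 1 * m * r + 3 * m * c + 2 * n + 1 * r + 1 * s + 2 * c + 2) * hω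
    · linear_combination ((-1) * n + (-1) * c * ω) * h2 + (1 * n + 1 * c) * hω
    · linear_combination ((-1) * n + (-1) * c * ω) * h2 + (1 * n + 1 * c + 1) * hω
    · linear_combination ((-1) * n * ω + (-1) * n + (-1) * r * ω + (-1) * s + (-1) * c * ω) * h2 + (2 * n + 1 * r + 1 * s + 2 * c + 2) * hω
    · linear_combination ((-1) * m * n + (-1) * m * c * ω + (-1) * n * ω + (-1) * n + (-1) * r * ω + (-1) * s + (-1) * c * ω) * h2 + (1 * m * n + 1 * m * c + 2 * n + 1 * r + 1 * s + 2 * c + 2) * hω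
    · linear_combination ((-1) * c) * h2 + (1 * c) * hω
    · linear_combination ((-1) * c) * h2 + (1 * c) * hω
    · linear_combination ((-1) * r + (-1) * c * ω + (-1) * c) * h2 + (1 * r + 2 * c + 1) * hω
    · linear_combination ((-1) * m * c + (-1) * r + (-1) * c * ω + (-1) * c) * h2 + (1 * m * c + 1 * r + 2 * c + 2) * hω
    · linear_combination ((-1) * c) * h2 + (1 * c) * hω
    · linear_combination ((-1) * c) * h2 + (1 * c) * hω
    · linear_combination ((-1) * r + (-1) * c * ω + (-1) * c) * h2 + (1 * r + 2 * c) * hω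
    · linear_combination ((-1) * m * c + (-1) * r + (-1) * c * ω + (-1) * c) * h2 + (1 * m * c + 1 * r + 2 * c + 1) * hω
  rw [Z0, Z1, Z2, hD0, hD1, hD2, hT] at E
  simp only [mul4, add4] at E
  have F0 := (ent4 E).1.1
  have F1 := (ent4 E).2.1.1
  simp only [mul_zero, zero_mul, add_zero, zero_add, mul_one, one_mul] at F0 F1
  linear_combination F0 - F1 - ((-4) * m ^ (3:ℕ) * c ^ (3:ℕ) + (-4) * m ^ (2:ℕ) * n * c ^ (2:ℕ) + (-4) * m ^ (2:ℕ) * r * c ^ (2:ℕ) + (-4) * m ^ (2:ℕ) * c ^ (3:ℕ) + (-2) * m ^ (2:ℕ) * c ^ (2:ℕ) + (-1) * m * n ^ (2:ℕ) * c + (-1) * m * n * r * c + (-2) * m * n * c ^ (2:ℕ) + (-2) * m * n * c + (-1) * m * r ^ (2:ℕ) * c + (-2) * m * r * c ^ (2:ℕ) + (-2) * m * r * c + (-1) * m * s * c ^ (2:ℕ) + (-1) * m * c ^ (3:ℕ) * ω + (-2) * m * c ^ (3:ℕ) + (-2) * m * c ^ (2:ℕ) * ω + (-2) * m * c ^ (2:ℕ) + (-1) * c) * h2 - (2 * m * c ^ (3:ℕ)) * hω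

end two

end Cfsg.Agent.H637.Three
end

-- part: H637/A7TwelveMain
section
/-!
# `3.A₇` in dimension twelve: impossible (helper637)
-/

set_option autoImplicit false
set_option linter.unusedSectionVars false
set_option linter.unusedSimpArgs false

namespace Cfsg.Agent.H637.Three

open Matrix

section two

variable {F W : Type*} [Field F] [AddCommGroup W] [Module F W] {ω : F} {x d₀ d₁ d₂ t : Module.End F W}

/-- the same with `D2 = T D1 T`, `D0 = D2 D1` -/
theorem two_fin' (h2 : (2 : F) = 0) (hω : ω ^ (2:ℕ) + ω + 1 = 0) {r s c : F}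
    {X T D0 D1 D2 Y0 Y1 Y2 : Matrix (Fin 4) (Fin 4) F}
    (hX : X = !![1, 1, 0, 0; 0, 1, 1, 0; 0, 0, 1, 1; 0, 0, 0, 1])
    (hT : T = !![1, 0, 1, 0; 0, 1, 0, 1; 0, 0, 1, 0; 0, 0, 0, 1])
    (hD1 : D1 = !![1, 0, 0, 0;
      0, 1, s, 0;
      0, 0, 1, 0;
      c, 0, r, 1])
    (hD2 : D2 = T * (D1 * T)) (hD0 : D0 = D2 * D1)
    (hY0 : Y0 = X * (D0 + D1 + D2) * (X * T)) (hY1 : Y1 = X * (D0 + ω ^ (2:ℕ) • D1 + ω • D2) * (X * T))
    (hY2 : Y2 = X * (D0 + ω • D1 + ω ^ (2:ℕ) • D2) * (X * T))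
    (E : D0 * Y0 * D0 = T * (Y0 * D0 * Y0 + Y2 * D1 * Y1 + Y1 * D2 * Y2)) : c = 0 := by
  have hD2' : D2 = !![1, 0, 0, 0;
      c, 1, r + s + c, 0;
      0, 0, 1, 0;
      c, 0, r + c, 1] := by
    rw [hD2, hT, hD1, mul4, mul4]
    refine ext4 ?_ ?_ ?_ ?_ ?_ ?_ ?_ ?_ ?_ ?_ ?_ ?_ ?_ ?_ ?_ ?_
    map_tacs [(ring1); (ring1); (linear_combination h2); (ring1); (ring1); (ring1); (ring1); (linear_combination h2); (ring1); (ring1); (ring1); (ring1); (ring1);
     (ring1); (ring1); (ring1)]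
  have hD0' : D0 = !![1, 0, 0, 0;
      c, 1, r + c, 0;
      0, 0, 1, 0;
      0, 0, c, 1] := by
    rw [hD0, hD2', hD1, mul4]
    refine ext4 ?_ ?_ ?_ ?_ ?_ ?_ ?_ ?_ ?_ ?_ ?_ ?_ ?_ ?_ ?_ ?_
    map_tacs [(ring1); (ring1); (ring1); (ring1); (ring1); (ring1); (linear_combination s * h2); (ring1); (ring1); (ring1); (ring1); (ring1);
     (linear_combination c * h2); (ring1); (linear_combination r * h2); (ring1)]
  exact two_fin (m := 0) (n := 0) (r := r) (s := s) h2 hω hX hT 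
    (by rw [hD0']; refine ext4 ?_ ?_ ?_ ?_ ?_ ?_ ?_ ?_ ?_ ?_ ?_ ?_ ?_ ?_ ?_ ?_ <;> ring1) (by rw [hD1]; refine ext4 ?_ ?_ ?_ ?_ ?_ ?_ ?_ ?_ ?_ ?_ ?_ ?_ ?_ ?_ ?_ ?_ <;> ring1)
    (by rw [hD2']; refine ext4 ?_ ?_ ?_ ?_ ?_ ?_ ?_ ?_ ?_ ?_ ?_ ?_ ?_ ?_ ?_ ?_ <;> ring1) hY0 hY1 hY2 E

/-- the case `N P N = 0` -/
theorem Dat.two_aux [FiniteDimensional F W] (D : Dat ω x d₀ d₁ d₂ t) (hW : Module.finrank F W = 4)
    (h2 : (2 : F) = 0) (hNPN : ∀ w, (t + 1) ((d₁ + 1) ((t + 1) w)) = 0) : False := by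
  have h0 := D.ne_one (by omega)
  have add_self : ∀ w : W, w + w = 0 := fun w => by rw [← two_smul F w, h2, zero_smul]
  have eq_of_add : ∀ u v : W, u + v = 0 → u = v := fun u v h => by
    have h1 : u = u + (v + v) := by rw [add_self, add_zero]
    rw [h1, ← add_assoc, h, zero_add]
  obtain ⟨N, hN⟩ : ∃ N, N = t + 1 := ⟨_, rfl⟩
  obtain ⟨P, hP⟩ : ∃ P, P = d₁ + 1 := ⟨_, rfl⟩
  have Na : ∀ w, N w = t w + w := fun w => by rw [hN]; rfl
  have Pa : ∀ w, P w = d₁ w + w := fun w => by rw [hP]; rfl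
  rw [← hN, ← hP] at hNPN
  have ta : ∀ w, t w = w + N w := by
    intro w
    rw [Na, add_comm (t w), ← add_assoc, add_self, zero_add]
  have da : ∀ w, d₁ w = w + P w := by
    intro w
    rw [Pa, add_comm (d₁ w), ← add_assoc, add_self, zero_add]
  have NN : ∀ w, N (N w) = 0 := by
    intro w
    rw [Na, Na, map_add, mul_ap D.tt, Module.End.one_apply]
    have : w + t w + (t w + w) = (w + w) + (t w + t w) := by abel
    rw [this, add_self, add_self, add_zero]
  have PP : ∀ w, P (P w) = 0 := by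
    intro w
    rw [Pa, Pa, map_add, mul_ap D.h11, Module.End.one_apply]
    have : w + d₁ w + (d₁ w + w) = (w + w) + (d₁ w + d₁ w) := by abel
    rw [this, add_self, add_self, add_zero]
  have hN0 : ∃ w, N w ≠ 0 := by
    by_contra hcon
    push Not at hcon
    apply h0
    have ht : t = 1 := by
      apply LinearMap.ext
      intro w
      rw [ta, hcon, add_zero]; rfl
    have e : d₂ = d₁ := by
      have := D.t2
      rwa [ht, one_mul, mul_one] at this
    rw [← D.h21, e, D.h11]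
  -- `y`
  obtain ⟨y, hy⟩ : ∃ y, y = x + 1 := ⟨_, rfl⟩
  have ya : ∀ w, y w = x w + w := fun w => by rw [hy]; rfl
  have xa : ∀ w, x w = w + y w := by
    intro w
    rw [ya, add_comm (x w), ← add_assoc, add_self, zero_add]
  have xx : ∀ w, x (x w) = t w := by
    intro w
    have h1 : (3 : F) • x (x w) = t w := (congrArg (fun T : Module.End F W => T w) D.ht).symm
    rw [show (3 : F) = 1 + 2 by norm_num, h2, add_zero, one_smul] at h1
    exact h1
  have yy : ∀ w, y (y w) = N w := by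
    intro w
    rw [ya, ya, map_add, xx, Na]
    have : t w + x w + (x w + w) = t w + w + (x w + x w) := by abel
    rw [this, add_self, add_zero]
  have yN : ∀ w, y (N w) = N (y w) := by
    intro w
    rw [← yy, ← yy]
  have xN : ∀ w, x (N w) = N (x w) := by
    intro w
    rw [xa, xa, yN, map_add]
  have d0N : ∀ w, d₀ (N w) = N (d₀ w) := by
    intro w
    rw [Na, Na, map_add]
    congr 1
    exact congrArg (fun T : Module.End F W => T w) D.t0.symm
  -- dimensions
  have hrn := LinearMap.finrank_range_add_finrank_ker N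
  rw [hW] at hrn
  have hle : LinearMap.range N ≤ LinearMap.ker N := by
    rintro _ ⟨w, rfl⟩
    rw [LinearMap.mem_ker]
    exact NN w
  have hle' := Submodule.finrank_mono hle
  obtain ⟨e', he'⟩ := hN0
  have hpos : Module.finrank F (LinearMap.range N) ≠ 0 := by
    intro h1
    have h3 := Submodule.finrank_eq_zero.1 h1
    have h4 : N e' ∈ LinearMap.range N := ⟨e', rfl⟩
    rw [h3, Submodule.mem_bot] at h4
    exact he' h4
  have hcase : Module.finrank F (LinearMap.range N) = 1 ∨ Module.finrank F (LinearMap.range N) = 2 := by omega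
  rcases hcase with hr | hr
  · -- rank one
    obtain ⟨e, he⟩ : ∃ e, e = N e' := ⟨_, rfl⟩
    rw [← he] at he'
    have line : ∀ w, ∃ c : F, N w = c • e := by
      intro w
      have h6 : (⟨e, e', he.symm⟩ : LinearMap.range N) ≠ 0 := fun h => he' (congrArg Subtype.val h)
      obtain ⟨c, hc⟩ := (finrank_eq_one_iff_of_nonzero' _ h6).1 hr ⟨N w, w, rfl⟩
      exact ⟨c, (congrArg Subtype.val hc).symm⟩
    have Ne : N e = 0 := by rw [he, NN]
    have NPe : N (P e) = 0 := by rw [he]; exact hNPN e'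
    obtain ⟨g, hg⟩ : ∃ g, g = P e := ⟨_, rfl⟩
    rw [← hg] at NPe
    have Pg : P g = 0 := by rw [hg, PP]
    have te : t e = e := by rw [ta, Ne, add_zero]
    have tg : t g = g := by rw [ta, NPe, add_zero]
    have d1e : d₁ e = e + g := by rw [da, hg]
    have d1g : d₁ g = g := by rw [da, Pg, add_zero]
    have d2 : ∀ w, t w = w → d₂ w = t (d₁ w) := by
      intro w hw
      have h3 : t (d₁ w) = d₂ (t w) := congrArg (fun T : Module.End F W => T w) D.t1
      rw [h3, hw]
    have d2e : d₂ e = e + g := by rw [d2 e te, d1e, map_add, te, tg]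
    have d2g : d₂ g = g := by rw [d2 g tg, d1g, tg]
    have d0e : d₀ e = e := by rw [← mul_ap D.h21, d1e, map_add, d2e, d2g, add_assoc, add_self, add_zero]
    have d0g : d₀ g = g := by rw [← mul_ap D.h21, d1g, d2g]
    have ye : y e = 0 := by
      obtain ⟨c, hc⟩ := line (y e')
      have h3 : y e = c • e := by rw [← hc, ← yN, he]
      have h4 : y (y e) = 0 := by rw [yy, Ne]
      rw [h3, map_smul, h3, smul_smul] at h4
      rcases mul_eq_zero.1 ((smul_eq_zero.1 h4).resolve_right he') with h5 | h5 <;> rw [h3, h5, zero_smul]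
    have xe : x e = e := by rw [xa, ye, add_zero]
    -- `⟨e, g⟩` is not invariant
    have small : Submodule.span F (Set.range ![e, g]) ≠ ⊤ := by
      intro h3
      have h4 := finrank_range_le_card (R := F) ![e, g]
      rw [Fintype.card_fin, Set.finrank, h3, finrank_top] at h4
      omega
    have me : e ∈ Submodule.span F (Set.range ![e, g]) := Submodule.subset_span ⟨0, rfl⟩
    have mg : g ∈ Submodule.span F (Set.range ![e, g]) := Submodule.subset_span ⟨1, rfl⟩
    have hyg : x g ∉ Submodule.span F (Set.range ![e, g]) := by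
      intro hxg
      rcases D.irr _ (span_inv (v := ![e, g]) x fun i => by
          fin_cases i
          · show x e ∈ _
            rw [xe]; exact me
          · exact hxg)
        (span_inv (v := ![e, g]) d₀ fun i => by
          fin_cases i
          · show d₀ e ∈ _
            rw [d0e]; exact me
          · show d₀ g ∈ _
            rw [d0g]; exact mg)
        (span_inv (v := ![e, g]) d₁ fun i => by
          fin_cases i
          · show d₁ e ∈ _
            rw [d1e]; exact add_mem me mg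
          · show d₁ g ∈ _
            rw [d1g]; exact mg)
        (span_inv (v := ![e, g]) d₂ fun i => by
          fin_cases i
          · show d₂ e ∈ _
            rw [d2e]; exact add_mem me mg
          · show d₂ g ∈ _
            rw [d2g]; exact mg) with h3 | h3
      · rw [h3, Submodule.mem_bot] at me
        exact he' me
      · exact small h3
    have hyg' : y g ∉ Submodule.span F (Set.range ![e, g]) := by
      intro h3
      apply hyg
      rw [xa]
      exact add_mem mg h3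
    have yyg : y (y g) = 0 := by rw [yy, NPe]
    -- `g ∉ ⟨e⟩`
    have hge : ∀ c : F, g ≠ c • e := by
      intro c hc
      apply hyg'
      rw [hc, map_smul, ye, smul_zero]
      exact zero_mem _
    have li2 : LinearIndependent F ![e, g] := by
      rw [LinearIndependent.pair_iff]
      intro p q hpq
      by_cases hq : q = 0
      · rw [hq, zero_smul, add_zero] at hpq
        exact ⟨(smul_eq_zero.1 hpq).resolve_right he', hq⟩
      · exfalso
        apply hge (-(q⁻¹ * p))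
        have h3 : q⁻¹ • (p • e + q • g) = (q⁻¹ * p) • e + (q⁻¹ * q) • g := by module
        rw [hpq, smul_zero, inv_mul_cancel₀ hq, one_smul] at h3
        rw [neg_smul]
        exact (neg_eq_of_add_eq_zero_right h3.symm).symm
    have li3 : LinearIndependent F ![y g, e, g] := linearIndependent_finCons.2 ⟨li2, hyg'⟩
    -- `ker N` is spanned by them
    have hker : Module.finrank F (LinearMap.ker N) = 3 := by omega
    have hspan : Submodule.span F (Set.range ![y g, e, g]) = LinearMap.ker N := by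
      apply Submodule.eq_of_le_of_finrank_eq
      · apply Submodule.span_le.2
        rintro _ ⟨i, rfl⟩
        fin_cases i
        · show N (y g) = 0
          rw [← yN, NPe, map_zero]
        · exact Ne
        · exact NPe
      · rw [finrank_span_eq_card li3, Fintype.card_fin, hker]
    have hye' : y e' ∈ LinearMap.ker N := by
      rw [LinearMap.mem_ker, ← yN, ← he, ye]
    rw [← hspan, Submodule.mem_span_range_iff_exists_fun] at hye'
    obtain ⟨c, hc⟩ := hye'
    rw [Fin.sum_univ_three] at hc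
    have hc' : c 0 • y g + c 1 • e + c 2 • g = y e' := hc
    have h3 : y (y e') = e := by rw [yy, ← he]
    rw [← hc', map_add, map_add, map_smul, map_smul, map_smul, yyg, ye, smul_zero, smul_zero, zero_add, zero_add] at h3
    by_cases h5 : c 2 = 0
    · rw [h5, zero_smul] at h3
      exact he' h3.symm
    · apply hyg'
      have h6 : y g = (c 2)⁻¹ • e := by rw [← h3, smul_smul, inv_mul_cancel₀ h5, one_smul]
      rw [h6]
      exact Submodule.smul_mem _ _ me
  · -- rank two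
    have heq : LinearMap.range N = LinearMap.ker N := Submodule.eq_of_le_of_finrank_eq hle (by omega)
    have kx : ∀ u ∈ LinearMap.ker N, x u ∈ LinearMap.ker N := by
      intro u hu
      rw [LinearMap.mem_ker] at hu ⊢
      rw [← xN, hu, map_zero]
    have k0 : ∀ u ∈ LinearMap.ker N, d₀ u ∈ LinearMap.ker N := by
      intro u hu
      rw [LinearMap.mem_ker] at hu ⊢
      rw [← d0N, hu, map_zero]
    have k1 : ∀ u ∈ LinearMap.ker N, d₁ u ∈ LinearMap.ker N := by
      intro u hu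
      have hu' := hu
      rw [← heq] at hu'
      obtain ⟨w, rfl⟩ := hu'
      rw [LinearMap.mem_ker, da, map_add, NN, zero_add]
      exact hNPN w
    have k2 : ∀ u ∈ LinearMap.ker N, d₂ u ∈ LinearMap.ker N := by
      intro u hu
      rw [← mul_ap D.h10]
      exact k1 _ (k0 u hu)
    rcases D.irr _ kx k0 k1 k2 with h3 | h3
    · rw [h3, finrank_bot] at hrn
      omega
    · rw [h3, finrank_top, hW] at hrn
      omega

/-- **Dimension four is impossible in characteristic two.** -/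
theorem Dat.four_two [FiniteDimensional F W] (D : Dat ω x d₀ d₁ d₂ t) (hW : Module.finrank F W = 4)
    (h2 : (2 : F) = 0) : False := by
  have add_self : ∀ w : W, w + w = 0 := fun w => by rw [← two_smul F w, h2, zero_smul]
  obtain ⟨N, hN⟩ : ∃ N, N = t + 1 := ⟨_, rfl⟩
  obtain ⟨P, hP⟩ : ∃ P, P = d₁ + 1 := ⟨_, rfl⟩
  have Na : ∀ w, N w = t w + w := fun w => by rw [hN]; rfl
  have Pa : ∀ w, P w = d₁ w + w := fun w => by rw [hP]; rfl
  have ta : ∀ w, t w = w + N w := by
    intro w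
    rw [Na, add_comm (t w), ← add_assoc, add_self, zero_add]
  have da : ∀ w, d₁ w = w + P w := by
    intro w
    rw [Pa, add_comm (d₁ w), ← add_assoc, add_self, zero_add]
  have NN : ∀ w, N (N w) = 0 := by
    intro w
    rw [Na, Na, map_add, mul_ap D.tt, Module.End.one_apply]
    have : w + t w + (t w + w) = (w + w) + (t w + t w) := by abel
    rw [this, add_self, add_self, add_zero]
  have PP : ∀ w, P (P w) = 0 := by
    intro w
    rw [Pa, Pa, map_add, mul_ap D.h11, Module.End.one_apply]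
    have : w + d₁ w + (d₁ w + w) = (w + w) + (d₁ w + d₁ w) := by abel
    rw [this, add_self, add_self, add_zero]
  obtain ⟨y, hy⟩ : ∃ y, y = x + 1 := ⟨_, rfl⟩
  have ya : ∀ w, y w = x w + w := fun w => by rw [hy]; rfl
  have xa : ∀ w, x w = w + y w := by
    intro w
    rw [ya, add_comm (x w), ← add_assoc, add_self, zero_add]
  have xx : ∀ w, x (x w) = t w := by
    intro w
    have h1 : (3 : F) • x (x w) = t w := (congrArg (fun T : Module.End F W => T w) D.ht).symm
    rw [show (3 : F) = 1 + 2 by norm_num, h2, add_zero, one_smul] at h1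
    exact h1
  have yy : ∀ w, y (y w) = N w := by
    intro w
    rw [ya, ya, map_add, xx, Na]
    have : t w + x w + (x w + w) = t w + w + (x w + x w) := by abel
    rw [this, add_self, add_zero]
  have yN : ∀ w, y (N w) = N (y w) := by
    intro w
    rw [← yy, ← yy]
  have d2t : ∀ w, d₂ w = t (d₁ (t w)) := by
    intro w
    have h3 : t (d₁ (t w)) = d₂ (t (t w)) := congrArg (fun T : Module.End F W => T (t w)) D.t1
    rw [h3, mul_ap D.tt]; rfl
  -- `P N P N = N P N P`
  have star : ∀ w, P (N (P (N w))) = N (P (N (P w))) := by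
    intro w
    have h3 : d₁ (d₂ w) = d₂ (d₁ w) := by rw [mul_ap D.h12, mul_ap D.h21]
    have e1 : d₂ w = w + P w + N (P w) + P (N w) + N (P (N w)) := by
      rw [d2t, ta (d₁ (t w)), da, ta w]
      simp only [map_add, NN]
      have : w + N w + (P w + P (N w)) + (N w + 0 + (N (P w) + N (P (N w)))) =
        (w + P w + N (P w) + P (N w) + N (P (N w))) + (N w + N w) := by abel
      rw [this, add_self, add_zero]
    have e2 : ∀ u, d₂ u = u + P u + N (P u) + P (N u) + N (P (N u)) := by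
      intro u
      rw [d2t, ta (d₁ (t u)), da, ta u]
      simp only [map_add, NN]
      have : u + N u + (P u + P (N u)) + (N u + 0 + (N (P u) + N (P (N u)))) =
        (u + P u + N (P u) + P (N u) + N (P (N u))) + (N u + N u) := by abel
      rw [this, add_self, add_zero]
    rw [e2 w, e2 (d₁ w), da (w + _ + _ + _ + _), da w] at h3
    simp only [map_add, PP, map_zero, add_zero, zero_add] at h3
    have h4 : P (N (P (N w))) - N (P (N (P w))) = 0 := by
      have h5 : P (N (P (N w))) - N (P (N (P w))) =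
        (w + P w + N (P w) + P (N w) + N (P (N w)) + (P w + P (N (P w)) + P (N (P (N w))))) -
        (w + P w + P w + (N (P w)) + (P (N w) + P (N (P w))) + (N (P (N w)) + N (P (N (P w))))) := by abel
      rw [h5]
      rw [sub_eq_zero]
      exact h3
    exact sub_eq_zero.1 h4
  by_cases hall : ∀ w, (t + 1) ((d₁ + 1) ((t + 1) w)) = 0
  · exact D.two_aux hW h2 hall
  push Not at hall
  obtain ⟨e', he'⟩ := hall
  rw [← hN, ← hP] at he'
  obtain ⟨v', hv'⟩ : ∃ v', v' = N e' := ⟨_, rfl⟩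
  obtain ⟨v, hv⟩ : ∃ v, v = N (P v') := ⟨_, rfl⟩
  have v0 : v ≠ 0 := by rw [hv, hv']; exact he'
  have Nv' : N v' = 0 := by rw [hv', NN]
  have Nv : N v = 0 := by rw [hv, NN]
  have NPv : N (P v) = 0 := by
    rw [hv, ← star, Nv', map_zero, map_zero, map_zero]
  have li : LinearIndependent F ![v', v] := by
    rw [LinearIndependent.pair_iff]
    intro p q hpq
    have h3 := congrArg (fun w => N (P w)) hpq
    simp only [map_add, map_smul, map_zero] at h3
    rw [← hv, NPv, smul_zero, add_zero] at h3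
    have hp : p = 0 := (smul_eq_zero.1 h3).resolve_right v0
    rw [hp, zero_smul, zero_add] at hpq
    exact ⟨hp, (smul_eq_zero.1 hpq).resolve_right v0⟩
  have hrn := LinearMap.finrank_range_add_finrank_ker N
  rw [hW] at hrn
  have hle : LinearMap.range N ≤ LinearMap.ker N := by
    rintro _ ⟨w, rfl⟩
    rw [LinearMap.mem_ker]
    exact NN w
  have hle' := Submodule.finrank_mono hle
  have hsp : Submodule.span F (Set.range ![v', v]) ≤ LinearMap.range N := by
    apply Submodule.span_le.2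
    rintro _ ⟨i, rfl⟩
    fin_cases i
    · exact ⟨e', hv'.symm⟩
    · exact ⟨P v', hv.symm⟩
  have h5 := Submodule.finrank_mono hsp
  rw [finrank_span_eq_card li, Fintype.card_fin] at h5
  have hker : Submodule.span F (Set.range ![v', v]) = LinearMap.ker N :=
    Submodule.eq_of_le_of_finrank_eq (hsp.trans hle) (by rw [finrank_span_eq_card li, Fintype.card_fin]; omega)
  have memker : ∀ w, N w = 0 → ∃ p q : F, w = p • v' + q • v := fun w hw =>
    mem_span2.1 (by rw [hker, LinearMap.mem_ker]; exact hw)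
  have Pv : P v = 0 := by
    obtain ⟨p, q, hpq⟩ := memker _ NPv
    have h6 := congrArg (fun w => N (P w)) hpq
    simp only [map_add, map_smul, PP, map_zero] at h6
    rw [← hv, NPv, smul_zero, add_zero] at h6
    have hp : p = 0 := (smul_eq_zero.1 h6.symm).resolve_right v0
    rw [hp, zero_smul, zero_add] at hpq
    have h7 := congrArg P hpq
    rw [PP, map_smul, hpq, smul_smul] at h7
    have h8 := (smul_eq_zero.1 h7.symm).resolve_right v0
    rw [hpq, (mul_self_eq_zero.1 h8), zero_smul]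
  have tv : t v = v := by rw [ta, Nv, add_zero]
  have d1v : d₁ v = v := by rw [da, Pv, add_zero]
  have d2v : d₂ v = v := by rw [d2t, tv, d1v, tv]
  have d0v : d₀ v = v := by rw [← mul_ap D.h21, d1v, d2v]
  obtain ⟨e₁, he₁⟩ : ∃ e₁, e₁ = y v := ⟨_, rfl⟩
  have e₁0 : e₁ ≠ 0 := by
    intro h6
    have xv : x v = v := by rw [xa, ← he₁, h6, add_zero]
    have inv : ∀ T : Module.End F W, T v = v → ∀ u ∈ Submodule.span F {v}, T u ∈ Submodule.span F {v} := by
      intro T hT u hu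
      obtain ⟨c, rfl⟩ := Submodule.mem_span_singleton.1 hu
      rw [map_smul, hT]
      exact hu
    rcases D.irr _ (inv x xv) (inv d₀ d0v) (inv d₁ d1v) (inv d₂ d2v) with h7 | h7
    · exact v0 ((Submodule.span_singleton_eq_bot).1 h7)
    · have h8 := finrank_span_singleton (K := F) v0
      rw [h7, finrank_top] at h8
      omega
  have ye₁ : y e₁ = 0 := by rw [he₁, yy, Nv]
  have Ne₁ : N e₁ = 0 := by rw [← yy, ye₁, map_zero]
  obtain ⟨c, β, hc⟩ := memker e₁ Ne₁
  have c0 : c ≠ 0 := by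
    rintro rfl
    rw [zero_smul, zero_add] at hc
    have h6 : β • e₁ = 0 := by
      have h7 := congrArg y hc
      rw [ye₁, map_smul, ← he₁] at h7
      exact h7.symm
    have h7 := (smul_eq_zero.1 h6).resolve_right e₁0
    exact e₁0 (by rw [hc, h7, zero_smul])
  obtain ⟨e₄, he₄⟩ : ∃ e₄, e₄ = P v' := ⟨_, rfl⟩
  obtain ⟨e₃, he₃⟩ : ∃ e₃, e₃ = y e₄ := ⟨_, rfl⟩
  have Ne₄ : N e₄ = v := by rw [he₄, hv]
  have ye₃ : y e₃ = v := by rw [he₃, yy, Ne₄]
  have Ne₃ : N e₃ = e₁ := by rw [← yy, ye₃, he₁]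
  have Pe₄ : P e₄ = 0 := by rw [he₄, PP]
  have Pe₁ : P e₁ = c • e₄ := by rw [hc, map_add, map_smul, map_smul, Pv, smul_zero, add_zero, he₄]
  have key : ∀ p q : F, p • e₁ + q • v = 0 → p = 0 ∧ q = 0 := by
    intro p q hpq
    have h6 := congrArg (fun w => N (P w)) hpq
    simp only [map_add, map_smul, Pe₁, Pv, map_zero, smul_zero, add_zero, Ne₄] at h6
    rw [smul_smul] at h6
    have hp : p = 0 := (mul_eq_zero.1 ((smul_eq_zero.1 h6).resolve_right v0)).resolve_right c0
    rw [hp, zero_smul, zero_add] at hpq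
    exact ⟨hp, (smul_eq_zero.1 hpq).resolve_right v0⟩
  have li4 : LinearIndependent F ![e₁, v, e₃, e₄] := by
    rw [Fintype.linearIndependent_iff]
    intro g hg
    rw [Fin.sum_univ_four] at hg
    have hg' : g 0 • e₁ + g 1 • v + g 2 • e₃ + g 3 • e₄ = 0 := hg
    have h6 := congrArg N hg'
    simp only [map_add, map_smul, map_zero, Ne₁, Nv, Ne₃, Ne₄, smul_zero, zero_add] at h6
    obtain ⟨g2, g3⟩ := key _ _ h6
    rw [g2, g3, zero_smul, zero_smul, add_zero, add_zero] at hg'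
    obtain ⟨g0, g1⟩ := key _ _ hg'
    intro i
    fin_cases i
    exacts [g0, g1, g2, g3]
  obtain ⟨p, hp⟩ : ∃ p : Fin 4 → F, P e₃ = p 0 • e₁ + p 1 • v + p 2 • e₃ + p 3 • e₄ := by
    have h6 := li4.span_eq_top_of_card_eq_finrank' (by rw [hW, Fintype.card_fin])
    have h7 : P e₃ ∈ Submodule.span F (Set.range ![e₁, v, e₃, e₄]) := by rw [h6]; trivial
    rw [Submodule.mem_span_range_iff_exists_fun] at h7
    obtain ⟨p, hp⟩ := h7
    rw [Fin.sum_univ_four] at hp
    exact ⟨p, hp.symm⟩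
  have hq := Fintype.linearIndependent_iff.1 li4 ![p 2 * p 0, p 2 * p 1, p 2 * p 2, p 0 * c + p 2 * p 3] (by
    rw [Fin.sum_univ_four]
    show (p 2 * p 0) • e₁ + (p 2 * p 1) • v + (p 2 * p 2) • e₃ + (p 0 * c + p 2 * p 3) • e₄ = 0
    have h6 := congrArg P hp
    rw [PP] at h6
    simp only [map_add, map_smul, Pe₁, Pv, Pe₄, smul_zero, add_zero, hp] at h6
    refine Eq.trans ?_ h6.symm
    module)
  have q2 : p 2 * p 2 = 0 := hq 2
  have q3 : p 0 * c + p 2 * p 3 = 0 := hq 3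
  have p2 : p 2 = 0 := mul_self_eq_zero.1 q2
  have p0 : p 0 = 0 := by
    rw [p2, zero_mul, add_zero] at q3
    exact (mul_eq_zero.1 q3).resolve_right c0
  rw [p0, p2, zero_smul, zero_smul, zero_add, add_zero] at hp
  generalize p 1 = s at hp
  generalize p 3 = r at hp
  clear hq q2 q3 p2 p0 p
  -- matrices
  let b := basisOfLinearIndependentOfCardEqFinrank li4 (by rw [hW, Fintype.card_fin])
  have hb : ∀ i, b i = ![e₁, v, e₃, e₄] i := fun i => congrFun (coe_basisOfLinearIndependentOfCardEqFinrank li4 _) i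
  have b0 : b 0 = e₁ := hb 0
  have b1 : b 1 = v := hb 1
  have b2 : b 2 = e₃ := hb 2
  have b3 : b 3 = e₄ := hb 3
  have hx0 : x (b 0) = b 0 := by rw [b0, xa, ye₁, add_zero]
  have hx1 : x (b 1) = b 1 + b 0 := by rw [b0, b1, xa, ← he₁]
  have hx2 : x (b 2) = b 2 + b 1 := by rw [b2, b1, xa, ye₃]
  have hx3 : x (b 3) = b 3 + b 2 := by rw [b3, b2, xa, ← he₃]
  have ht0 : t (b 0) = b 0 := by rw [b0, ta, Ne₁, add_zero]
  have ht1 : t (b 1) = b 1 := by rw [b1, tv]
  have ht2 : t (b 2) = b 2 + b 0 := by rw [b2, b0, ta, Ne₃]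
  have ht3 : t (b 3) = b 3 + b 1 := by rw [b3, b1, ta, Ne₄]
  have hd0 : d₁ (b 0) = b 0 + c • b 3 := by rw [b0, b3, da, Pe₁]
  have hd1 : d₁ (b 1) = b 1 := by rw [b1, d1v]
  have hd2 : d₁ (b 2) = b 2 + (s • b 1 + r • b 3) := by rw [b2, b1, b3, da, hp]
  have hd3 : d₁ (b 3) = b 3 := by rw [b3, da, Pe₄, add_zero]
  clear_value b
  let M := LinearMap.toMatrixAlgEquiv b
  have X : M x = !![1, 1, 0, 0; 0, 1, 1, 0; 0, 0, 1, 1; 0, 0, 0, 1] :=
    toMat4 b _ (by rw [hx0]; module) (by rw [hx1]; module) (by rw [hx2]; module) (by rw [hx3]; module)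
  have T : M t = !![1, 0, 1, 0; 0, 1, 0, 1; 0, 0, 1, 0; 0, 0, 0, 1] :=
    toMat4 b _ (by rw [ht0]; module) (by rw [ht1]; module) (by rw [ht2]; module) (by rw [ht3]; module)
  have D1 : M d₁ = !![1, 0, 0, 0; 0, 1, s, 0; 0, 0, 1, 0; c, 0, r, 1] :=
    toMat4 b _ (by rw [hd0]; module) (by rw [hd1]; module) (by rw [hd2]; module) (by rw [hd3]; module)
  have D2 : M d₂ = M t * (M d₁ * M t) := by
    rw [← map_mul, ← map_mul]
    congr 1
    apply LinearMap.ext
    intro w
    exact d2t w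
  have D0 : M d₀ = M d₂ * M d₁ := by rw [← map_mul, D.h21]
  obtain ⟨y₀, y₁, y₂, hy0, hy1, hy2, E0, E1, E2⟩ := r6_entries' D.hω D.ht D.tt D.h00 D.h11 D.h22 D.r6
  refine c0 (two_fin' (X := M x) (T := M t) (D0 := M d₀) (D1 := M d₁) (D2 := M d₂) (Y0 := M y₀) (Y1 := M y₁)
    (Y2 := M y₂) h2 D.hω X T D1 D2 D0 ?_ ?_ ?_ ?_)
  · rw [hy0]
    simp only [map_mul, map_add]
  · rw [hy1]
    simp only [map_mul, map_add, map_smul]
  · rw [hy2]
    simp only [map_mul, map_add, map_smul]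
  · have h6 := congrArg M E0
    simp only [map_mul, map_add] at h6
    exact h6

end two

section main

open Cfsg Cfsg.Geo Cfsg.Agent.H913.N6
open Cfsg.Agent.H915.LD
open Cfsg.Agent.H907
open Cfsg.Agent.H915.A7Old (Z3)

variable {ι : Type} [Fintype ι] [DecidableEq ι] {F : Type*} [Field F] [Finite F] {P : Subgroup (GL ι F)}

/-- **`3.A₇` in dimension twelve is impossible.** -/
theorem twelve_three (hC : Core P) (e : Soc P ≃* alternatingGroup (Fin 7)) (hn : Fintype.card ι = 12)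
    (hZ : Z3 P) (hz : ∃ c : Fˣ, c ≠ 1 ∧ (sc c : GL ι F) ∈ P) : False := by
  obtain ⟨W, ω, x, d₀, d₁, d₂, t, D, hW⟩ := exists_dat hC (Cov.of e) hZ hz
  rw [hn] at hW
  have hW4 : Module.finrank F W = 4 := by omega
  by_cases h2 : (2 : F) = 0
  · exact D.four_two hW4 h2
  · exact D.four_odd hW4 h2

/-- **`A₇` and its covers in dimension twelve, except `6.A₇`.** -/
theorem twelve (p : ℕ) [Fact p.Prime] [CharP F p] (hC : Core P) (e : Soc P ≃* alternatingGroup (Fin 7))
    (hn : Fintype.card ι = 12) : SD P ∨ (p ≠ 2 ∧ p ≠ 3 ∧ (sc (-1) : GL ι F) ∈ P ∧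
      ∃ c : Fˣ, c ≠ 1 ∧ c ^ (3:ℕ) = 1 ∧ (sc c : GL ι F) ∈ P) := by
  by_cases hz : ∃ c : Fˣ, c ≠ 1 ∧ c ^ (3:ℕ) = 1 ∧ (sc c : GL ι F) ∈ P
  · right
    obtain ⟨c, hc1, hc3, hcP⟩ := hz
    have hp3 : p ≠ 3 := by
      rintro rfl
      have h3 : (3 : F) = 0 := by exact_mod_cast CharP.cast_eq_zero F 3
      have h4 : ((c : F) - 1) ^ (3:ℕ) = 0 := by
        have h5 : (c : F) ^ (3:ℕ) = 1 := by rw [← Units.val_pow_eq_pow_val, hc3, Units.val_one]
        linear_combination h5 - ((c : F) ^ (2:ℕ) - c) * h3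
      exact hc1 (Units.ext (by rw [Units.val_one]; exact sub_eq_zero.1 (pow_eq_zero_iff (by norm_num) |>.1 h4)))
    by_cases hZ : Z3 P
    · exact (twelve_three hC e hn hZ ⟨c, hc1, hcP⟩).elim
    · have hZ' : ∃ d : Fˣ, (sc d : GL ι F) ∈ P ∧ d ^ (3:ℕ) ≠ 1 := by
        by_contra hcon
        push Not at hcon
        exact hZ hcon
      obtain ⟨d, hd, hd3⟩ := hZ'
      have h6 := (scalars_dvd hC e hd).1
      have h7 : ((d ^ (3:ℕ) : Fˣ) : F) ^ (2:ℕ) = 1 := by
        rw [← Units.val_pow_eq_pow_val, ← pow_mul, h6, Units.val_one]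
      have h8 : d ^ (3:ℕ) = -1 := by
        have h9 : (((d ^ (3:ℕ) : Fˣ) : F) - 1) * (((d ^ (3:ℕ) : Fˣ) : F) + 1) = 0 := by linear_combination h7
        rcases mul_eq_zero.1 h9 with h | h
        · exact absurd (Units.ext (sub_eq_zero.1 h)) hd3
        · exact Units.ext (by rw [Units.val_neg, Units.val_one]; exact eq_neg_of_add_eq_zero_left h)
      refine ⟨?_, hp3, ?_, c, hc1, hc3, hcP⟩
      · rintro rfl
        have h2 : (2 : F) = 0 := by exact_mod_cast CharP.cast_eq_zero F 2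
        apply hd3
        rw [h8]
        apply Units.ext
        rw [Units.val_neg, Units.val_one]
        linear_combination -h2
      · rw [← h8, sc_pow]
        exact pow_mem hd 3
  · left
    push Not at hz
    rcases A7Main.le_two p hC e (fun g hg hs => by
      obtain ⟨c, rfl⟩ := mem_scalars.1 hs
      have h6 := (scalars_dvd hC e hg).1
      have h7 : c ^ (2:ℕ) = 1 := by
        by_contra h8
        refine hz (c ^ (2:ℕ)) h8 (by rw [← pow_mul, h6]) ?_
        rw [sc_pow]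
        exact pow_mem hg 2
      rw [← sq, ← sc_pow, h7, sc_one]) with h | ⟨h, -⟩
    · exact h
    · rw [hn] at h
      omega

end main

end Cfsg.Agent.H637.Three
end
end

-- part: H108/TK/Kill
section
prune_inst 0x310041402562000010180580212020202c0001b200400000e000084001418042a0810040120010140008a841200d0000000000200008000000000400000101000080020020000000000016000080000000000000000000000000000000000004000000000
set_option linter.all false
open scoped Cfsg.Agent.FastGrp

-- part: H108/TK/Basic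
section
/-!
Kronecker products `F^m ⊗ F^k ≅ F^n` along an index equivalence.
-/

set_option autoImplicit false
set_option linter.unusedSectionVars false

namespace Cfsg.Agent.H108.TK

open Matrix
open scoped Kronecker

variable {F : Type*} [Field F] {m k n : Type*} [Fintype m] [Fintype k] [Fintype n] [DecidableEq m] [DecidableEq k]
  [DecidableEq n] (e : m × k ≃ n)

/-- `a ⊗ b` as a matrix on `n` -/
def kr (a : Matrix m m F) (b : Matrix k k F) : Matrix n n F := Matrix.reindex e e (a ⊗ₖ b)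

/-- `u ⊗ v` as a vector on `n` -/
def ten (u : m → F) (v : k → F) : n → F := fun i => u (e.symm i).1 * v (e.symm i).2

theorem ten_ix (u : m → F) (v : k → F) (i : m) (j : k) : ten e u v (e (i, j)) = u i * v j := by
  unfold ten
  rw [Equiv.symm_apply_apply]

theorem ext_ix {z w : n → F} (h : ∀ i j, z (e (i, j)) = w (e (i, j))) : z = w := by
  funext l
  obtain ⟨⟨i, j⟩, rfl⟩ := e.surjective l
  exact h i j

theorem kr_ix (a : Matrix m m F) (b : Matrix k k F) (i i' : m) (j j' : k) :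
    kr e a b (e (i, j)) (e (i', j')) = a i i' * b j j' := by
  unfold kr
  rw [Matrix.reindex_apply, Matrix.submatrix_apply, Equiv.symm_apply_apply, Equiv.symm_apply_apply]
  rfl

theorem sum_ix {M : Type*} [AddCommMonoid M] (f : n → M) : ∑ l, f l = ∑ i, ∑ j, f (e (i, j)) := by
  rw [← Fintype.sum_prod_type']
  exact (Equiv.sum_comp e f).symm

theorem kr_mulVec_ten (a : Matrix m m F) (b : Matrix k k F) (u : m → F) (v : k → F) :
    kr e a b *ᵥ ten e u v = ten e (a *ᵥ u) (b *ᵥ v) := by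
  apply ext_ix e
  intro i j
  rw [ten_ix, Matrix.mulVec, Matrix.mulVec, dotProduct, dotProduct, Matrix.mulVec, dotProduct, sum_ix e,
    Finset.sum_mul_sum]
  refine Finset.sum_congr rfl fun k _ => Finset.sum_congr rfl fun l _ => ?_
  rw [ten_ix, kr_ix]
  ring

theorem kr_mul (a a' : Matrix m m F) (b b' : Matrix k k F) : kr e (a * a') (b * b') = kr e a b * kr e a' b' := by
  unfold kr
  rw [Matrix.mul_kronecker_mul, Matrix.reindex_apply, Matrix.reindex_apply, Matrix.reindex_apply,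
    Matrix.submatrix_mul_equiv]

theorem kr_one : kr e (1 : Matrix m m F) (1 : Matrix k k F) = 1 := by
  unfold kr
  rw [Matrix.one_kronecker_one, Matrix.reindex_apply]
  exact Matrix.submatrix_one_equiv _

theorem mat_ext_ix {A B : Matrix n n F} (h : ∀ i j i' j', A (e (i, j)) (e (i', j')) = B (e (i, j)) (e (i', j'))) :
    A = B := by
  ext r s
  obtain ⟨⟨i, j⟩, rfl⟩ := e.surjective r
  obtain ⟨⟨k, l⟩, rfl⟩ := e.surjective s
  exact h i j k l

theorem kr_smul_left (c : F) (a : Matrix m m F) (b : Matrix k k F) : kr e (c • a) b = c • kr e a b := by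
  apply mat_ext_ix e
  intro i j k l
  rw [Matrix.smul_apply, kr_ix, kr_ix, Matrix.smul_apply, smul_eq_mul, smul_eq_mul]
  ring

theorem kr_smul_right (c : F) (a : Matrix m m F) (b : Matrix k k F) : kr e a (c • b) = c • kr e a b := by
  apply mat_ext_ix e
  intro i j k l
  rw [Matrix.smul_apply, kr_ix, kr_ix, Matrix.smul_apply, smul_eq_mul, smul_eq_mul]
  ring

theorem det_kr (a : Matrix m m F) (b : Matrix k k F) :
    (kr e a b).det = a.det ^ Fintype.card k * b.det ^ Fintype.card m := by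
  unfold kr
  rw [Matrix.det_reindex_self, Matrix.det_kronecker]

theorem kr_trans (a : Matrix m m F) (b : Matrix k k F) : (kr e a b)ᵀ = kr e aᵀ bᵀ := by
  apply mat_ext_ix e
  intro i j k l
  rw [Matrix.transpose_apply, kr_ix, kr_ix, Matrix.transpose_apply, Matrix.transpose_apply]

theorem kr_map (a : Matrix m m F) (b : Matrix k k F) (σ : F →+* F) :
    (kr e a b).map σ = kr e (a.map σ) (b.map σ) := by
  apply mat_ext_ix e
  intro i j k l
  rw [Matrix.map_apply, kr_ix, kr_ix, Matrix.map_apply, Matrix.map_apply, map_mul]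

/-- The factors of a tensor product of matrices are unique up to scalars. -/
theorem kr_eq {a a' : Matrix m m F} {b b' : Matrix k k F} (ha : a ≠ 0) (hb : b ≠ 0)
    (h : kr e a b = kr e a' b') : ∃ c : F, c ≠ 0 ∧ a' = c • a ∧ b' = c⁻¹ • b := by
  obtain ⟨i, k, hik⟩ : ∃ i k, a i k ≠ 0 := by
    by_contra h0
    push Not at h0
    exact ha (by ext i k; exact h0 i k)
  obtain ⟨j, l, hjl⟩ : ∃ j l, b j l ≠ 0 := by
    by_contra h0
    push Not at h0
    exact hb (by ext i k; exact h0 i k)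
  have e : ∀ i j k l, a i k * b j l = a' i k * b' j l := by
    intro i j k l
    rw [← kr_ix e, ← kr_ix e, h]
  have h1 : a' i k * b' j l ≠ 0 := by
    rw [← e]
    exact mul_ne_zero hik hjl
  have ha' : a' i k ≠ 0 := left_ne_zero_of_mul h1
  have hb' : b' j l ≠ 0 := right_ne_zero_of_mul h1
  refine ⟨b j l / b' j l, div_ne_zero hjl hb', ?_, ?_⟩
  · ext r s
    rw [Matrix.smul_apply, smul_eq_mul, div_mul_eq_mul_div, eq_div_iff hb']
    have := e r j s l
    linear_combination -this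
  · ext r s
    rw [Matrix.smul_apply, smul_eq_mul, inv_div, div_mul_eq_mul_div, eq_div_iff hjl]
    have h2 := e i r k s
    have h3 := e i j k l
    apply mul_left_cancel₀ hik
    apply mul_left_cancel₀ ha'
    linear_combination a' i k * b' r s * h3 - a' i k * b' j l * h2

/-- `a ⊗ b` in `GL` -/
def krGL (a : GL m F) (b : GL k F) : GL n F :=
  ⟨kr e (a : Matrix m m F) (b : Matrix k k F), kr e ((a⁻¹ : GL m F) : Matrix m m F) ((b⁻¹ : GL k F) : Matrix k k F), by
    rw [← kr_mul, ← Units.val_mul, ← Units.val_mul, mul_inv_cancel, mul_inv_cancel]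
    exact kr_one e, by
    rw [← kr_mul, ← Units.val_mul, ← Units.val_mul, inv_mul_cancel, inv_mul_cancel]
    exact kr_one e⟩

theorem coe_krGL (a : GL m F) (b : GL k F) :
    (krGL e a b : Matrix n n F) = kr e (a : Matrix m m F) (b : Matrix k k F) := rfl

theorem krGL_mul (a a' : GL m F) (b b' : GL k F) : krGL e (a * a') (b * b') = krGL e a b * krGL e a' b' :=
  Units.ext (kr_mul e _ _ _ _)

theorem krGL_one : krGL e (1 : GL m F) (1 : GL k F) = 1 := Units.ext (kr_one e)

theorem krGL_inv (a : GL m F) (b : GL k F) : (krGL e a b)⁻¹ = krGL e a⁻¹ b⁻¹ := by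
  rw [inv_eq_iff_mul_eq_one, ← krGL_mul, mul_inv_cancel, mul_inv_cancel, krGL_one]

/-- decomposable tensors -/
def Dec (w : n → F) : Prop := ∃ (u : m → F) (v : k → F), w = ten e u v

/-- The stabiliser of the set `g D`. -/
def stabD (D : (n → F) → Prop) (g : GL n F) : Subgroup (GL n F) where
  carrier := {x | ∀ w, D w ↔ D (((g⁻¹ * x * g : GL n F) : Matrix n n F) *ᵥ w)}
  one_mem' := by
    intro w
    have : g⁻¹ * 1 * g = 1 := by group
    rw [this, Units.val_one, Matrix.one_mulVec]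
  mul_mem' := by
    intro a b ha hb w
    have : g⁻¹ * (a * b) * g = (g⁻¹ * a * g) * (g⁻¹ * b * g) := by group
    rw [this, Units.val_mul, ← Matrix.mulVec_mulVec, ← ha, ← hb]
  inv_mem' := by
    intro a ha w
    rw [ha (((g⁻¹ * a⁻¹ * g : GL n F) : Matrix n n F) *ᵥ w)]
    have : ((g⁻¹ * a * g : GL n F) : Matrix n n F) *ᵥ
        (((g⁻¹ * a⁻¹ * g : GL n F) : Matrix n n F) *ᵥ w) = w := by
      rw [Matrix.mulVec_mulVec, ← Units.val_mul]
      have : (g⁻¹ * a * g) * (g⁻¹ * a⁻¹ * g) = 1 := by group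
      rw [this, Units.val_one, Matrix.one_mulVec]
    rw [this]

theorem mem_stabD {D : (n → F) → Prop} {g x : GL n F} :
    x ∈ stabD D g ↔ ∀ w, D w ↔ D (((g⁻¹ * x * g : GL n F) : Matrix n n F) *ᵥ w) := Iff.rfl

/-- `g (a ⊗ b) g⁻¹` stabilises the decomposable tensors -/
theorem conj_krGL_mem (g : GL n F) (a : GL m F) (b : GL k F) : g * krGL e a b * g⁻¹ ∈ stabD (Dec e) g := by
  have key : ∀ (a : GL m F) (b : GL k F) (w : n → F), Dec e w → Dec e ((krGL e a b : Matrix n n F) *ᵥ w) := by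
    rintro a b _ ⟨u, v, rfl⟩
    exact ⟨_, _, by rw [coe_krGL, kr_mulVec_ten]⟩
  intro w
  have h1 : g⁻¹ * (g * krGL e a b * g⁻¹) * g = krGL e a b := by group
  rw [h1]
  refine ⟨key a b w, fun h2 => ?_⟩
  have h3 := key a⁻¹ b⁻¹ _ h2
  rw [Matrix.mulVec_mulVec, ← Units.val_mul, ← krGL_mul, inv_mul_cancel, inv_mul_cancel, krGL_one, Units.val_one,
    Matrix.one_mulVec] at h3
  exact h3

end Cfsg.Agent.H108.TK
end

-- part: H108/TK/Kill
section
/-!
Tensor kill: a maximal subgroup of `SL_n(F)` or `SU_n(q)` all of whose elements have the form `g (a ⊗ b) g⁻¹` is not in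
the residual class.
-/

set_option autoImplicit false
set_option linter.unusedSectionVars false

namespace Cfsg.Agent.H108.TK

open Matrix Cfsg Cfsg.Geo
open Cfsg.Agent.LieClassical.HermBasic
open Cfsg.Agent.H108.Nine (sg un_iff herm_mulVec herm_eq map_map_sg exists_norm_one_ne)

section general

variable {F : Type*} [Field F] {ι κ ν : Type} [Fintype ι] [Fintype κ] [Fintype ν] [DecidableEq ι] [DecidableEq κ]
  [DecidableEq ν] (e : ι × κ ≃ ν)

/-- `a ↦ g (a ⊗ 1) g⁻¹` -/
def leftHom (g : GL ν F) : GL ι F →* GL ν F where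
  toFun a := g * krGL e a 1 * g⁻¹
  map_one' := by rw [krGL_one]; group
  map_mul' a b := by
    have : krGL e (a * b) (1 : GL κ F) = krGL e a 1 * krGL e b 1 := by rw [← krGL_mul, one_mul]
    rw [this]; group

theorem leftHom_apply (g : GL ν F) (a : GL ι F) : leftHom e g a = g * krGL e a 1 * g⁻¹ := rfl

theorem eq_smul_one_of_kr [Nonempty ι] {y : Matrix ι ι F} {z : Matrix κ κ F} {c : F}
    (hc : c ≠ 0) [Nonempty κ] (h : kr e y z = c • 1) : (∃ d : F, y = d • 1) ∧ ∃ d : F, z = d • 1 := by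
  have h1 : kr e (c • (1 : Matrix ι ι F)) (1 : Matrix κ κ F) = kr e y z := by
    rw [h, kr_smul_left, kr_one]
  obtain ⟨d, hd, h2, h3⟩ := kr_eq e (smul_ne_zero hc one_ne_zero) one_ne_zero h1
  exact ⟨⟨d * c, by rw [h2, smul_smul]⟩, ⟨d⁻¹, h3⟩⟩

/-- a simple quotient: a subgroup normalised by `P` meets `P` in scalars or covers `P` modulo scalars -/
theorem le_or_cover {H P X : Subgroup (GL ν F)} (hc : IsResidualCore H P)
    (hX : ∀ p ∈ P, ∀ x ∈ X, p * x * p⁻¹ ∈ X) :
    (∀ x ∈ P, x ∈ X → x ∈ scalars ν F) ∨ (∀ x ∈ P, ∃ n ∈ X, ∃ s ∈ scalars ν F, x = n * s) := by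
  let Z : Subgroup P := (scalars ν F).subgroupOf P
  let N : Subgroup P := X.subgroupOf P
  have hN : N.Normal := ⟨fun n hn g => by
    change (g : GL ν F) * (n : GL ν F) * (g : GL ν F)⁻¹ ∈ X
    exact hX _ g.2 _ hn⟩
  have hs := hc.simple
  have hM : (N.map (QuotientGroup.mk' Z)).Normal := hN.map _ (QuotientGroup.mk'_surjective Z)
  rcases hM.eq_bot_or_eq_top with h | h
  · left
    intro x hx hxX
    have h1 : QuotientGroup.mk' Z ⟨x, hx⟩ ∈ N.map (QuotientGroup.mk' Z) := ⟨⟨x, hx⟩, hxX, rfl⟩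
    rw [h, Subgroup.mem_bot] at h1
    exact (QuotientGroup.eq_one_iff (N := Z) (⟨x, hx⟩ : P)).1 h1
  · right
    intro x hx
    have h1 : QuotientGroup.mk' Z ⟨x, hx⟩ ∈ N.map (QuotientGroup.mk' Z) := by rw [h]; trivial
    obtain ⟨n, hn, hn'⟩ := h1
    have h2 : n⁻¹ * (⟨x, hx⟩ : P) ∈ Z := QuotientGroup.eq.1 hn'
    refine ⟨n, hn, (n : GL ν F)⁻¹ * x, h2, by group⟩

/-- The common contradiction. -/
theorem contra [Nontrivial κ] [Nonempty ι] {H P : Subgroup (GL ν F)} (hc : IsResidualCore H P) (g : GL ν F)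
    (ht : ∀ h ∈ H, ∃ (a : GL ι F) (b : GL κ F), h = g * krGL e a b * g⁻¹) (y : GL ι F)
    (hy : ∀ d : F, (y : Matrix ι ι F) ≠ d • 1) (hyH : g * krGL e y 1 * g⁻¹ ∈ H) : False := by
  have hnormX : ∀ h ∈ H, ∀ x ∈ (leftHom e g (ι := ι)).range, h * x * h⁻¹ ∈ (leftHom e g (ι := ι)).range := by
    rintro h hh _ ⟨a', rfl⟩
    obtain ⟨a, b, rfl⟩ := ht h hh
    refine ⟨a * a' * a⁻¹, ?_⟩
    rw [leftHom_apply, leftHom_apply]
    have e1 : krGL e (a * a' * a⁻¹) (1 : GL κ F) = krGL e a b * krGL e a' 1 * (krGL e a b)⁻¹ := by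
      rw [krGL_inv, ← krGL_mul, ← krGL_mul, mul_one, mul_inv_cancel]
    rw [e1]
    group
  rcases le_or_cover hc (X := (leftHom e g (ι := ι)).range) (fun p hp => hnormX p (hc.le hp)) with h | h
  · -- `y ⊗ 1` centralises `P` modulo scalars
    have h1 : g * krGL e y 1 * g⁻¹ ∈ scalars ν F := by
      apply hc.centralizer_scalar _ hyH
      intro x hx
      apply h
      · exact P.mul_mem (hc.normal _ hyH x hx) (P.inv_mem hx)
      · have h2 : (g * krGL e y 1 * g⁻¹) ∈ (leftHom e g (ι := ι)).range := ⟨y, rfl⟩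
        have h3 := hnormX x (hc.le hx) _ (Subgroup.inv_mem _ h2)
        have h4 : g * krGL e y 1 * g⁻¹ * x * (g * krGL e y 1 * g⁻¹)⁻¹ * x⁻¹ =
            (g * krGL e y 1 * g⁻¹) * (x * (g * krGL e y 1 * g⁻¹)⁻¹ * x⁻¹) := by group
        rw [h4]
        exact Subgroup.mul_mem _ h2 h3
    have h2 : krGL e y (1 : GL κ F) ∈ scalars ν F := by
      have := (scalars_normal (ι := ν) (F := F)).conj_mem _ h1 g⁻¹
      have e1 : g⁻¹ * (g * krGL e y 1 * g⁻¹) * g⁻¹⁻¹ = krGL e y 1 := by group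
      rwa [e1] at this
    obtain ⟨c, hc'⟩ := (mem_scalars_iff _).1 h2
    obtain ⟨⟨d, hd⟩, -⟩ := eq_smul_one_of_kr e (z := (1 : Matrix κ κ F)) c.ne_zero hc'
    exact hy d hd
  · -- `P` is contained in `(GL ⊗ 1)` times scalars: not absolutely irreducible
    obtain ⟨j0, j1, hj⟩ := exists_pair_ne κ
    have hcomm : ∀ x ∈ P, ((g : Matrix ν ν F) * kr e 1 (Matrix.single j0 j1 1) * ((g⁻¹ : GL ν F) : Matrix ν ν F)) *
        (x : Matrix ν ν F) = (x : Matrix ν ν F) *
        ((g : Matrix ν ν F) * kr e 1 (Matrix.single j0 j1 1) * ((g⁻¹ : GL ν F) : Matrix ν ν F)) := by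
      intro x hx
      obtain ⟨_, ⟨a, rfl⟩, s, hs, rfl⟩ := h x hx
      obtain ⟨c, hc'⟩ := (mem_scalars_iff _).1 hs
      have hgg : ((g⁻¹ : GL ν F) : Matrix ν ν F) * (g : Matrix ν ν F) = 1 := by
        rw [← Units.val_mul, inv_mul_cancel, Units.val_one]
      rw [leftHom_apply, Units.val_mul, hc', Matrix.mul_smul, Matrix.mul_one, Matrix.mul_smul, Matrix.smul_mul]
      (with_reducible congr 1)
      rw [Units.val_mul, Units.val_mul, coe_krGL]
      have e1 : kr e 1 (Matrix.single j0 j1 1) * kr e (a : Matrix ι ι F) ((1 : GL κ F) : Matrix κ κ F) =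
          kr e (a : Matrix ι ι F) ((1 : GL κ F) : Matrix κ κ F) * kr e 1 (Matrix.single j0 j1 1) := by
        rw [← kr_mul, ← kr_mul, Units.val_one, Matrix.one_mul, Matrix.mul_one, Matrix.one_mul, Matrix.mul_one]
      calc (g : Matrix ν ν F) * kr e 1 (Matrix.single j0 j1 1) * ((g⁻¹ : GL ν F) : Matrix ν ν F) *
            ((g : Matrix ν ν F) * kr e (a : Matrix ι ι F) ((1 : GL κ F) : Matrix κ κ F) *
              ((g⁻¹ : GL ν F) : Matrix ν ν F))
          = (g : Matrix ν ν F) * (kr e 1 (Matrix.single j0 j1 1) *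
            ((((g⁻¹ : GL ν F) : Matrix ν ν F) * (g : Matrix ν ν F)) *
              kr e (a : Matrix ι ι F) ((1 : GL κ F) : Matrix κ κ F))) * ((g⁻¹ : GL ν F) : Matrix ν ν F) := by
            simp only [Matrix.mul_assoc]
        _ = (g : Matrix ν ν F) * (kr e (a : Matrix ι ι F) ((1 : GL κ F) : Matrix κ κ F) *
            ((((g⁻¹ : GL ν F) : Matrix ν ν F) * (g : Matrix ν ν F)) * kr e 1 (Matrix.single j0 j1 1))) *
              ((g⁻¹ : GL ν F) : Matrix ν ν F) := by
            rw [hgg, Matrix.one_mul, Matrix.one_mul, e1]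
        _ = _ := by simp only [Matrix.mul_assoc]
    obtain ⟨c, hc'⟩ := hc.absIrred.2 _ (by
      rintro _ ⟨x, hx, rfl⟩
      exact hcomm x hx)
    have hgg : ((g⁻¹ : GL ν F) : Matrix ν ν F) * (g : Matrix ν ν F) = 1 := by
      rw [← Units.val_mul, inv_mul_cancel, Units.val_one]
    have h1 : kr e (1 : Matrix ι ι F) (Matrix.single j0 j1 1) = c • 1 := by
      calc kr e (1 : Matrix ι ι F) (Matrix.single j0 j1 1)
          = (((g⁻¹ : GL ν F) : Matrix ν ν F) * (g : Matrix ν ν F)) * kr e 1 (Matrix.single j0 j1 1) *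
            (((g⁻¹ : GL ν F) : Matrix ν ν F) * (g : Matrix ν ν F)) := by rw [hgg, Matrix.one_mul, Matrix.mul_one]
        _ = ((g⁻¹ : GL ν F) : Matrix ν ν F) * ((g : Matrix ν ν F) * kr e 1 (Matrix.single j0 j1 1) *
            ((g⁻¹ : GL ν F) : Matrix ν ν F)) * (g : Matrix ν ν F) := by simp only [Matrix.mul_assoc]
        _ = _ := by rw [hc', Matrix.mul_smul, Matrix.mul_one, Matrix.smul_mul, hgg]
    obtain ⟨i⟩ := (inferInstance : Nonempty ι)
    have h2 := congrFun (congrFun h1 (e (i, j0))) (e (i, j1))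
    have hne : e (i, j0) ≠ e (i, j1) := fun h3 => hj (Prod.ext_iff.1 (e.injective h3)).2
    rw [kr_ix, Matrix.smul_apply, Matrix.one_apply_eq, Matrix.one_apply_ne hne, Matrix.single_apply_same, smul_zero,
      mul_one] at h2
    exact one_ne_zero h2

theorem det_conj_mem (g x : GL ν F) (hx : (x : Matrix ν ν F).det = 1) : g * x * g⁻¹ ∈ specialLinear ν F := by
  have hm' : x ∈ specialLinear ν F := by
    apply MonoidHom.mem_ker.2
    apply Units.ext
    rw [Matrix.GeneralLinearGroup.val_det_apply, hx, Units.val_one]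
  have : (specialLinear ν F).Normal := MonoidHom.normal_ker _
  exact this.conj_mem x hm' g

end general

section unitary

variable {F : Type*} [Field F] [Fintype F] {q n : ℕ}

theorem mem_GU_of_un (hF : Fintype.card F = q ^ 2) {x : GL (Fin n) F}
    (hx : (x : Matrix (Fin n) (Fin n) F)ᵀ * (x : Matrix (Fin n) (Fin n) F).map (sg hF) = 1) : x ∈ GU n F q :=
  (un_iff hF _).2 hx

theorem un_of_mem_GU (hF : Fintype.card F = q ^ 2) {x : GL (Fin n) F} (hx : x ∈ GU n F q) :
    (x : Matrix (Fin n) (Fin n) F)ᵀ * (x : Matrix (Fin n) (Fin n) F).map (sg hF) = 1 :=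
  (un_iff hF _).1 hx

/-- conjugation by a similitude preserves the unitary group -/
theorem conj_mem_GU (hF : Fintype.card F = q ^ 2) {g x : GL (Fin n) F} {κ : F}
    (hg : (g : Matrix (Fin n) (Fin n) F)ᵀ * (g : Matrix (Fin n) (Fin n) F).map (sg hF) = κ • 1)
    (hx : x ∈ GU n F q) : g * x * g⁻¹ ∈ GU n F q := by
  have hherm : ∀ u v, hermForm n F q ((g : Matrix (Fin n) (Fin n) F) *ᵥ u) ((g : Matrix (Fin n) (Fin n) F) *ᵥ v) =
      κ * hermForm n F q u v := by
    intro u v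
    rw [herm_mulVec hF, hg, Matrix.smul_mulVec, Matrix.one_mulVec, dotProduct_smul, smul_eq_mul, herm_eq hF]
  have hginv : ∀ u, (g : Matrix (Fin n) (Fin n) F) *ᵥ (((g⁻¹ : GL (Fin n) F) : Matrix (Fin n) (Fin n) F) *ᵥ u) = u := by
    intro u
    rw [Matrix.mulVec_mulVec, ← Units.val_mul, mul_inv_cancel, Units.val_one, Matrix.one_mulVec]
  intro u v
  change hermForm n F q (((g * x * g⁻¹ : GL (Fin n) F) : Matrix (Fin n) (Fin n) F) *ᵥ u)
    (((g * x * g⁻¹ : GL (Fin n) F) : Matrix (Fin n) (Fin n) F) *ᵥ v) = hermForm n F q u v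
  rw [Units.val_mul, Units.val_mul, ← Matrix.mulVec_mulVec, ← Matrix.mulVec_mulVec, ← Matrix.mulVec_mulVec,
    ← Matrix.mulVec_mulVec, hherm]
  have h1 : hermForm n F q ((x : Matrix (Fin n) (Fin n) F) *ᵥ (((g⁻¹ : GL (Fin n) F) : Matrix (Fin n) (Fin n) F) *ᵥ u))
      ((x : Matrix (Fin n) (Fin n) F) *ᵥ (((g⁻¹ : GL (Fin n) F) : Matrix (Fin n) (Fin n) F) *ᵥ v)) =
      hermForm n F q (((g⁻¹ : GL (Fin n) F) : Matrix (Fin n) (Fin n) F) *ᵥ u)
        (((g⁻¹ : GL (Fin n) F) : Matrix (Fin n) (Fin n) F) *ᵥ v) := hx _ _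
  rw [h1, ← hherm, hginv, hginv]

/-- If `P` and `g⁻¹ P g` are unitary and `P` is absolutely irreducible then `g` is a similitude. -/
theorem exists_similitude (hF : Fintype.card F = q ^ 2) {P : Subgroup (GL (Fin n) F)}
    (hPirr : ActsAbsolutelyIrreducibly (matrixSet P)) (hP : ∀ x ∈ P, x ∈ GU n F q) (g : GL (Fin n) F)
    (hg : ∀ x ∈ P, g⁻¹ * x * g ∈ GU n F q) :
    ∃ κ : F, (g : Matrix (Fin n) (Fin n) F)ᵀ * (g : Matrix (Fin n) (Fin n) F).map (sg hF) = κ • 1 := by
  set G : Matrix (Fin n) (Fin n) F := (g : Matrix (Fin n) (Fin n) F) with hG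
  set! G' : Matrix (Fin n) (Fin n) F := ((g⁻¹ : GL (Fin n) F) : Matrix (Fin n) (Fin n) F) with hG'
  have hGG : G * G' = 1 := by rw [hG, hG', ← Units.val_mul, mul_inv_cancel, Units.val_one]
  have hGG' : G' * G = 1 := by rw [hG, hG', ← Units.val_mul, inv_mul_cancel, Units.val_one]
  set Z : Matrix (Fin n) (Fin n) F := Gᵀ * G.map (sg hF) with hZ
  -- the matrices `K = g⁻¹ x g`
  have h1 : ∀ x ∈ P, (((g⁻¹ * x * g : GL (Fin n) F)) : Matrix (Fin n) (Fin n) F)ᵀ * Z *
      (((g⁻¹ * x * g : GL (Fin n) F)) : Matrix (Fin n) (Fin n) F).map (sg hF) = Z := by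
    intro x hx
    have h2 := un_of_mem_GU hF (hP x hx)
    have h3 : G * (((g⁻¹ * x * g : GL (Fin n) F)) : Matrix (Fin n) (Fin n) F) = (x : Matrix (Fin n) (Fin n) F) * G := by
      rw [hG, ← Units.val_mul, ← Units.val_mul]
      congr 1
      group
    calc (((g⁻¹ * x * g : GL (Fin n) F)) : Matrix (Fin n) (Fin n) F)ᵀ * Z *
          (((g⁻¹ * x * g : GL (Fin n) F)) : Matrix (Fin n) (Fin n) F).map (sg hF)
        = (G * (((g⁻¹ * x * g : GL (Fin n) F)) : Matrix (Fin n) (Fin n) F))ᵀ *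
          (G * (((g⁻¹ * x * g : GL (Fin n) F)) : Matrix (Fin n) (Fin n) F)).map (sg hF) := by
          rw [Matrix.transpose_mul, Matrix.map_mul, hZ]
          simp only [Matrix.mul_assoc]
      _ = Gᵀ * ((x : Matrix (Fin n) (Fin n) F)ᵀ * (x : Matrix (Fin n) (Fin n) F).map (sg hF)) * G.map (sg hF) := by
          rw [h3, Matrix.transpose_mul, Matrix.map_mul]
          simp only [Matrix.mul_assoc]
      _ = Z := by rw [h2, Matrix.mul_one, hZ]
  have h2 : ∀ x ∈ P, Z.map (sg hF) * (((g⁻¹ * x * g : GL (Fin n) F)) : Matrix (Fin n) (Fin n) F) =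
      (((g⁻¹ * x * g : GL (Fin n) F)) : Matrix (Fin n) (Fin n) F) * Z.map (sg hF) := by
    intro x hx
    have hKx := h1 x hx
    have hKu := un_of_mem_GU hF (hg x hx)
    generalize (((g⁻¹ * x * g : GL (Fin n) F)) : Matrix (Fin n) (Fin n) F) = K at hKx hKu ⊢
    have h3 : K.map (sg hF) * Kᵀ = 1 := mul_eq_one_comm.1 hKu
    have h4 : Z * K.map (sg hF) = K.map (sg hF) * Z := by
      calc Z * K.map (sg hF) = (K.map (sg hF) * Kᵀ) * Z * K.map (sg hF) := by rw [h3, Matrix.one_mul]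
        _ = K.map (sg hF) * (Kᵀ * Z * K.map (sg hF)) := by simp only [Matrix.mul_assoc]
        _ = _ := by rw [hKx]
    have h5 := congrArg (fun X : Matrix (Fin n) (Fin n) F => X.map (sg hF)) h4
    simp only [Matrix.map_mul] at h5
    rw [map_map_sg] at h5
    exact h5
  obtain ⟨c, hc'⟩ := hPirr.2 (G * Z.map (sg hF) * G') (by
    rintro _ ⟨x, hx, rfl⟩
    have h3 := h2 x hx
    have h4 : (((g⁻¹ * x * g : GL (Fin n) F)) : Matrix (Fin n) (Fin n) F) = G' * (x : Matrix (Fin n) (Fin n) F) * G := by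
      rw [Units.val_mul, Units.val_mul]
    rw [h4] at h3
    change G * Z.map (sg hF) * G' * (x : Matrix (Fin n) (Fin n) F) =
      (x : Matrix (Fin n) (Fin n) F) * (G * Z.map (sg hF) * G')
    calc G * Z.map (sg hF) * G' * (x : Matrix (Fin n) (Fin n) F)
        = G * (Z.map (sg hF) * (G' * (x : Matrix (Fin n) (Fin n) F) * G)) * G' := by
          simp only [Matrix.mul_assoc, hGG, Matrix.mul_one]
      _ = (G * G') * ((x : Matrix (Fin n) (Fin n) F) * (G * Z.map (sg hF) * G')) := by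
          rw [h3]; simp only [Matrix.mul_assoc]
      _ = _ := by rw [hGG, Matrix.one_mul])
  have h6 : Z.map (sg hF) = c • 1 := by
    calc Z.map (sg hF) = (G' * G) * Z.map (sg hF) * (G' * G) := by rw [hGG', Matrix.one_mul, Matrix.mul_one]
      _ = G' * (G * Z.map (sg hF) * G') * G := by simp only [Matrix.mul_assoc]
      _ = _ := by rw [hc', Matrix.mul_smul, Matrix.smul_mul, Matrix.mul_one, hGG']
  refine ⟨sg hF c, ?_⟩
  rw [← map_map_sg hF Z, h6]
  ext i j
  simp only [Matrix.map_apply, Matrix.smul_apply, smul_eq_mul, map_mul, Matrix.one_apply]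
  split_ifs <;> simp only [_root_.RingHom.coe_coe, _root_.map_one, _root_.mul_one, _root_.map_zero, _root_.MulZeroClass.mul_zero]

variable {m k : ℕ} (e : Fin m × Fin k ≃ Fin n)

theorem un_kr (hF : Fintype.card F = q ^ 2) {a : Matrix (Fin m) (Fin m) F} {b : Matrix (Fin k) (Fin k) F}
    (ha : aᵀ * a.map (sg hF) = 1) (hb : bᵀ * b.map (sg hF) = 1) :
    (kr e a b)ᵀ * (kr e a b).map (sg hF) = 1 := by
  rw [kr_trans, kr_map, ← kr_mul, ha, hb, kr_one]

theorem krGL_mem_GU (hF : Fintype.card F = q ^ 2) {a : GL (Fin m) F} {b : GL (Fin k) F} (ha : a ∈ GU m F q)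
    (hb : b ∈ GU k F q) : krGL e a b ∈ GU n F q := by
  apply mem_GU_of_un hF
  rw [coe_krGL]
  exact un_kr e hF (un_of_mem_GU hF ha) (un_of_mem_GU hF hb)

/-- a diagonal unitary matrix -/
theorem exists_diag_aux (hF : Fintype.card F = q ^ 2) (d : Fin n → F) (hd : ∀ i, d i * d i ^ q = 1)
    (hdet : (Matrix.diagonal d).det = 1) : ∃ x : GL (Fin n) F, x ∈ GU n F q ∧
      (x : Matrix (Fin n) (Fin n) F) = Matrix.diagonal d ∧
      (x : Matrix (Fin n) (Fin n) F).det = 1 := by
  obtain ⟨x, hx⟩ : ∃ x : GL (Fin n) F, (x : Matrix (Fin n) (Fin n) F) = Matrix.diagonal d :=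
    (Matrix.isUnit_iff_isUnit_det _).2 (by rw [hdet]; exact isUnit_one)
  refine ⟨x, ?_, hx, by rw [hx, hdet]⟩
  apply mem_GU_of_un hF
  rw [hx, Matrix.diagonal_transpose, Matrix.diagonal_map (map_zero _), Matrix.diagonal_mul_diagonal,
    ← Matrix.diagonal_one]
  congr 1
  funext i
  exact hd i

/-- a diagonal unitary matrix of determinant one -/
theorem exists_diag (hF : Fintype.card F = q ^ 2) {i0 i1 : Fin n} (h01 : i0 ≠ i1) {ζ : F} (hζ0 : ζ ≠ 0)
    (hζ : ζ * ζ ^ q = 1) : ∃ x : GL (Fin n) F, x ∈ GU n F q ∧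
      (x : Matrix (Fin n) (Fin n) F) = Matrix.diagonal (Pi.mulSingle i0 ζ * Pi.mulSingle i1 ζ⁻¹) ∧
      (x : Matrix (Fin n) (Fin n) F).det = 1 := by
  apply exists_diag_aux hF
  · intro i
    rw [Pi.mul_apply, mul_pow]
    have e1 : ∀ (j : Fin n) (x : F), x * x ^ q = 1 →
        (Pi.mulSingle j x : Fin n → F) i * (Pi.mulSingle j x : Fin n → F) i ^ q = 1 := by
      intro j x hx
      by_cases h : i = j
      · subst h
        rw [Pi.mulSingle_eq_same, hx]
      · rw [Pi.mulSingle_eq_of_ne h, one_pow, one_mul]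
    have h2 := e1 i0 ζ hζ
    have h3 := e1 i1 ζ⁻¹ (by rw [inv_pow, ← mul_inv, hζ, inv_one])
    calc _ = ((Pi.mulSingle i0 ζ : Fin n → F) i * (Pi.mulSingle i0 ζ : Fin n → F) i ^ q) *
          ((Pi.mulSingle i1 ζ⁻¹ : Fin n → F) i * (Pi.mulSingle i1 ζ⁻¹ : Fin n → F) i ^ q) := by ring
      _ = 1 := by rw [h2, h3, one_mul]
  · rw [Matrix.det_diagonal]
    simp only [Pi.mul_apply]
    rw [Finset.prod_mul_distrib, Finset.prod_pi_mulSingle', Finset.prod_pi_mulSingle', if_pos (Finset.mem_univ _),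
      if_pos (Finset.mem_univ _), mul_inv_cancel₀ hζ0]

/-- **Tensor kill, unitary case.** -/
theorem kill_SU (hF : Fintype.card F = q ^ 2) (hm : 3 ≤ m) (hk : 2 ≤ k) {H P : Subgroup (GL (Fin n) F)}
    (hc : IsResidualCore H P) (hH : IsMaximalIn (GU n F q ⊓ specialLinear (Fin n) F) H) (g : GL (Fin n) F)
    (ht : ∀ h ∈ H, ∃ (a : GL (Fin m) F) (b : GL (Fin k) F), h = g * krGL e a b * g⁻¹)
    (hu : ∀ x ∈ P, ∃ a ∈ GU m F q, ∃ b ∈ GU k F q, x = g * krGL e a b * g⁻¹) : False := by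
  have hnm : Nontrivial (Fin m) := ⟨⟨0, by omega⟩, ⟨1, by omega⟩, by simp⟩
  have hnk : Nontrivial (Fin k) := ⟨⟨0, by omega⟩, ⟨1, by omega⟩, by simp⟩
  obtain ⟨ζ, hζ1, hζ0, hζn⟩ := exists_norm_one_ne hF
  obtain ⟨κ, hκ⟩ := exists_similitude hF hc.absIrred (fun x hx => (hH.1.le (hc.le hx)).1) g (by
    intro x hx
    obtain ⟨a, ha, b, hb, rfl⟩ := hu x hx
    have : g⁻¹ * (g * krGL e a b * g⁻¹) * g = krGL e a b := by group
    rw [this]
    exact krGL_mem_GU e hF ha hb)
  obtain ⟨i0, hi0⟩ : ∃ i : Fin m, i = ⟨0, by omega⟩ := ⟨_, rfl⟩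
  obtain ⟨i1, hi1⟩ : ∃ i : Fin m, i = ⟨1, by omega⟩ := ⟨_, rfl⟩
  obtain ⟨i2, hi2⟩ : ∃ i : Fin m, i = ⟨2, by omega⟩ := ⟨_, rfl⟩
  obtain ⟨j0, hj0⟩ : ∃ i : Fin k, i = ⟨0, by omega⟩ := ⟨_, rfl⟩
  obtain ⟨j1, hj1⟩ : ∃ i : Fin k, i = ⟨1, by omega⟩ := ⟨_, rfl⟩
  have h01 : i0 ≠ i1 := by rw [hi0, hi1]; simp
  have h02 : i0 ≠ i2 := by rw [hi0, hi2]; simp
  have h12 : i1 ≠ i2 := by rw [hi1, hi2]; simp
  have hj : j0 ≠ j1 := by rw [hj0, hj1]; simp
  have hle : H ≤ stabD (Dec e) g ⊓ (GU n F q ⊓ specialLinear (Fin n) F) := by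
    refine le_inf ?_ hH.1.le
    intro h hh
    obtain ⟨a, b, rfl⟩ := ht h hh
    exact conj_krGL_mem e g a b
  rcases hH.2 _ hle inf_le_right with hM | hM
  · obtain ⟨y, hy1, hy2, hy3⟩ := exists_diag hF h01 hζ0 hζn
    refine contra e hc g ht y ?_ ?_
    · intro d hd
      rw [hy2] at hd
      have h2 := congrFun (congrFun hd i2) i2
      have h0 := congrFun (congrFun hd i0) i0
      rw [Matrix.diagonal_apply_eq, Matrix.smul_apply, Matrix.one_apply_eq, Pi.mul_apply,
        Pi.mulSingle_eq_of_ne h02.symm, Pi.mulSingle_eq_of_ne h12.symm, smul_eq_mul, mul_one, mul_one] at h2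
      rw [Matrix.diagonal_apply_eq, Matrix.smul_apply, Matrix.one_apply_eq, Pi.mul_apply,
        Pi.mulSingle_eq_same, Pi.mulSingle_eq_of_ne h01, smul_eq_mul, mul_one, mul_one] at h0
      exact hζ1 (by rw [h0, ← h2])
    · rw [← hM]
      refine ⟨conj_krGL_mem e g y 1, conj_mem_GU hF hκ (krGL_mem_GU e hF hy1 (GU k F q).one_mem),
        det_conj_mem g _ ?_⟩
      rw [coe_krGL, det_kr, Units.val_one, Matrix.det_one, one_pow, mul_one, hy3, one_pow]
  · have hne : e (i0, j0) ≠ e (i2, j0) := fun h => h02 (Prod.ext_iff.1 (e.injective h)).1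
    obtain ⟨x, hx1, hx2, hx3⟩ := exists_diag hF hne hζ0 hζn
    have h1 : g * x * g⁻¹ ∈ stabD (Dec e) g ⊓ (GU n F q ⊓ specialLinear (Fin n) F) := by
      rw [hM]
      exact ⟨conj_mem_GU hF hκ hx1, det_conj_mem g x hx3⟩
    have h2 := (mem_stabD.1 h1.1 (ten e 1 1)).1 ⟨1, 1, rfl⟩
    have e1 : g⁻¹ * (g * x * g⁻¹) * g = x := by group
    rw [e1, hx2] at h2
    obtain ⟨u, v, huv⟩ := h2
    have e2 : ∀ i j, (Pi.mulSingle (e (i0, j0)) ζ * Pi.mulSingle (e (i2, j0)) ζ⁻¹ : Fin n → F) (e (i, j)) =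
        u i * v j := by
      intro i j
      have := congrFun huv (e (i, j))
      rw [Matrix.mulVec_diagonal, ten_ix, ten_ix] at this
      rw [← this]
      simp
    have h00 := e2 i0 j0
    have h01' := e2 i0 j1
    have h10 := e2 i1 j0
    have h11 := e2 i1 j1
    have hen : ∀ {i i' : Fin m} {j j' : Fin k}, (i ≠ i' ∨ j ≠ j') → e (i, j) ≠ e (i', j') := by
      intro i i' j j' h h'
      have := Prod.ext_iff.1 (e.injective h')
      rcases h with h | h
      · exact h this.1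
      · exact h this.2
    rw [Pi.mul_apply, Pi.mulSingle_eq_same, Pi.mulSingle_eq_of_ne (hen (Or.inl h02)), mul_one] at h00
    rw [Pi.mul_apply, Pi.mulSingle_eq_of_ne (hen (Or.inr hj.symm)), Pi.mulSingle_eq_of_ne (hen (Or.inl h02)),
      mul_one] at h01'
    rw [Pi.mul_apply, Pi.mulSingle_eq_of_ne (hen (Or.inl h01.symm)), Pi.mulSingle_eq_of_ne (hen (Or.inl h12)),
      mul_one] at h10
    rw [Pi.mul_apply, Pi.mulSingle_eq_of_ne (hen (Or.inl h01.symm)), Pi.mulSingle_eq_of_ne (hen (Or.inl h12)),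
      mul_one] at h11
    apply hζ1
    calc ζ = (u i0 * v j0) * (u i1 * v j1) := by rw [← h00, ← h11, mul_one]
      _ = (u i0 * v j1) * (u i1 * v j0) := by ring
      _ = 1 := by rw [← h01', ← h10, mul_one]

end unitary

/-- If `H ≤ P · scalars`, the tensor form of `P` gives the tensor form of `H`. -/
theorem tensor_of_cover {F : Type*} [Field F] {ι κ ν : Type} [Fintype ι] [Fintype κ] [Fintype ν] [DecidableEq ι]
    [DecidableEq κ] [DecidableEq ν] (e : ι × κ ≃ ν) {H P : Subgroup (GL ν F)} (g : GL ν F)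
    (hHP : ∀ h ∈ H, ∃ x ∈ P, ∃ s ∈ scalars ν F, h = x * s)
    (hu : ∀ x ∈ P, ∃ (a : GL ι F) (b : GL κ F), x = g * krGL e a b * g⁻¹) :
    ∀ h ∈ H, ∃ (a : GL ι F) (b : GL κ F), h = g * krGL e a b * g⁻¹ := by
  intro h hh
  obtain ⟨x, hx, s, hs, rfl⟩ := hHP h hh
  obtain ⟨a, b, rfl⟩ := hu x hx
  obtain ⟨c, hc⟩ := (mem_scalars_iff _).1 hs
  let d : GL ι F := ⟨(c : F) • 1, ((c⁻¹ : Fˣ) : F) • 1, by
    rw [Matrix.smul_mul, Matrix.one_mul, smul_smul, Units.mul_inv, one_smul], by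
    rw [Matrix.smul_mul, Matrix.one_mul, smul_smul, Units.inv_mul, one_smul]⟩
  refine ⟨a * d, b, ?_⟩
  have h1 : krGL e (a * d) b = krGL e a b * s := by
    apply Units.ext
    rw [coe_krGL, Units.val_mul, Units.val_mul, coe_krGL, hc]
    change kr e ((a : Matrix ι ι F) * ((c : F) • 1)) _ = _
    rw [Matrix.mul_smul, Matrix.mul_one, kr_smul_left, Matrix.mul_smul, Matrix.mul_one]
  have h2 : s * g⁻¹ = g⁻¹ * s := by
    apply Units.ext
    rw [Units.val_mul, Units.val_mul, hc, Matrix.smul_mul, Matrix.mul_smul, Matrix.one_mul, Matrix.mul_one]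
  rw [h1]
  calc g * krGL e a b * g⁻¹ * s = g * krGL e a b * (g⁻¹ * s) := by group
    _ = _ := by rw [← h2]; group

end Cfsg.Agent.H108.TK
end
end

-- part: H930/SixBase
section
prune_inst 0x40000001162000000180512902000000000002000430000c0800000000040202981a6410040000600108c410001000000000020020000000a000400000100000080020021000100220016000000000000000000000000000000000000000000000000000
set_option linter.all false
open scoped Cfsg.Agent.FastGrp

/-!
# Covers of `A₆` acting absolutely irreducibly: basic facts (helper930)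

* `Cov m φ` : `m : G →* GL ι F` faithful, `φ : G →* S₆` with range `A₆`, the kernel of `φ` acts by scalars, `G` perfect,
  `m` absolutely irreducible; `exists_cov` : from a core;
* `Cov.conj` : change `φ` by a permutation; `Cov.central`, `Cov.scal` : the kernel of `φ`;
* `pow_index_mem` : transfer; `Cov.nc` : `3 ∣ |ker φ|` ⟹ lifts of `(0 1 2)` and `(3 4 5)` do not commute;
* `Cov.tr_eq_zero_of_comm` : `[x, y] ∈ ker φ`, `≠ 1` ⟹ `tr x = 0`; `Cov.tr_three` : `φ x` of order `3` ⟹ `tr x = 0`;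
* `Cov.lemmaB` : `Y ≤ G` acts on `E` by a linear character ⟹ `dim E * n ≤ |G : Y|`; `lemmaH`;
* `Cov.ker_comm`, `Cov.pow_ker`, `Cov.exists_inv`, `Cov.inv_unique`, `Cov.inv_conj`, `Cov.inv_comm` : lifts of involutions
  for `|ker φ| = 3`.
-/

set_option autoImplicit false
set_option linter.unusedSectionVars false

namespace Cfsg.Agent.H930.Six

open Cfsg Cfsg.Geo Matrix Equiv Cfsg.Agent.H915.LD
open scoped commutatorElement

universe u v

variable {ι : Type} [Fintype ι] [DecidableEq ι] {F : Type u} [Field F] {G : Type v} [Group G]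

/-- a faithful absolutely irreducible representation of a perfect central extension of `A₆` -/
structure Cov (m : G →* GL ι F) (φ : G →* Perm (Fin 6)) : Prop where
  inj : Function.Injective m
  range : φ.range = alternatingGroup (Fin 6)
  ker : ∀ k, φ k = 1 → m k ∈ scalars ι F
  perf : commutator G = ⊤
  irr : ActsAbsolutelyIrreducibly (matrixSet m.range)

/-- the map of a core with socle `A₆` onto `A₆` -/
def toPerm {P : Subgroup (GL ι F)} (e : Soc P ≃* alternatingGroup (Fin 6)) : P →* Perm (Fin 6) :=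
  (alternatingGroup (Fin 6)).subtype.comp (e.toMonoidHom.comp (toSoc P))

theorem ker_toPerm {P : Subgroup (GL ι F)} (e : Soc P ≃* alternatingGroup (Fin 6)) :
    (toPerm e).ker = (scalars ι F).subgroupOf P := by
  rw [← ker_comp e]
  ext x
  rw [MonoidHom.mem_ker, MonoidHom.mem_ker, toPerm, MonoidHom.comp_apply]
  exact OneMemClass.coe_eq_one

theorem exists_cov [Finite F] {P : Subgroup (GL ι F)} (hC : Core P) (e : Soc P ≃* alternatingGroup (Fin 6)) :
    Cov P.subtype (toPerm e) := by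
  refine ⟨Subtype.val_injective, ?_, ?_, hC.commutator_top, ?_⟩
  · rw [toPerm, MonoidHom.range_comp, MonoidHom.range_eq_top.2 (e.surjective.comp (toSoc_surjective P)),
      ← MonoidHom.range_eq_map, Subgroup.range_subtype]
  · intro k hk
    have h1 : k ∈ (toPerm e).ker := hk
    rw [ker_toPerm, Subgroup.mem_subgroupOf] at h1
    exact h1
  · rw [Subgroup.range_subtype]
    exact hC.absIrred

variable {m : G →* GL ι F} {φ : G →* Perm (Fin 6)}

theorem ker_conj (φ : G →* Perm (Fin 6)) (σ : Perm (Fin 6)) : ((MulAut.conj σ).toMonoidHom.comp φ).ker = φ.ker := by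
  ext x
  rw [MonoidHom.mem_ker, MonoidHom.mem_ker, MonoidHom.comp_apply]
  exact (MulAut.conj σ).map_eq_one_iff

theorem Cov.surj (h : Cov m φ) {s : Perm (Fin 6)} (hs : s ∈ alternatingGroup (Fin 6)) : ∃ g, φ g = s := by
  rw [← h.range] at hs
  exact hs

theorem Cov.sign (h : Cov m φ) (g : G) : φ g ∈ alternatingGroup (Fin 6) := by
  rw [← h.range]
  exact ⟨g, rfl⟩

theorem Cov.conj (h : Cov m φ) (σ : Perm (Fin 6)) : Cov m ((MulAut.conj σ).toMonoidHom.comp φ) := by
  refine ⟨h.inj, ?_, ?_, h.perf, h.irr⟩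
  · rw [MonoidHom.range_comp, h.range]
    apply le_antisymm
    · rintro _ ⟨x, hx, rfl⟩
      exact (inferInstance : (alternatingGroup (Fin 6)).Normal).conj_mem x hx σ
    · intro x hx
      refine ⟨σ⁻¹ * x * σ, ?_, ?_⟩
      · have := (inferInstance : (alternatingGroup (Fin 6)).Normal).conj_mem x hx σ⁻¹
        rwa [inv_inv] at this
      · change σ * (σ⁻¹ * x * σ) * σ⁻¹ = x
        group
  · intro k hk
    apply h.ker
    have h1 : σ * φ k * σ⁻¹ = 1 := hk
    rw [← mul_inv_eq_one] at h1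
    rw [mul_inv_eq_one, mul_inv_eq_one] at h1
    exact mul_left_cancel (h1.trans (mul_one σ).symm)

theorem Cov.scal (h : Cov m φ) {k : G} (hk : φ k = 1) : ∃ c : Fˣ, (m k : Matrix ι ι F) = (c : F) • (1 : Matrix ι ι F) :=
  (mem_scalars_iff _).1 (h.ker k hk)

theorem Cov.central (h : Cov m φ) {k : G} (hk : φ k = 1) (g : G) : k * g = g * k := by
  obtain ⟨c, hc⟩ := h.scal hk
  apply h.inj
  apply Units.ext
  rw [map_mul, map_mul, Units.val_mul, Units.val_mul, hc, Matrix.smul_mul, Matrix.mul_smul, mul_one, one_mul]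

theorem Cov.nonempty (h : Cov m φ) : Nonempty ι := by
  by_contra hn
  rw [not_nonempty_iff] at hn
  have h1 : Subsingleton (GL ι F) := inferInstance
  have h2 : Subsingleton G := ⟨fun a b => h.inj (Subsingleton.elim _ _)⟩
  obtain ⟨g, hg⟩ := h.surj (s := c[(0 : Fin 6), 1, 2]) (Perm.mem_alternatingGroup.2 (by decide))
  rw [Subsingleton.elim g 1, map_one] at hg
  revert hg
  decide

/-- a scalar in the kernel which is `1` -/
theorem Cov.eq_one_of_scal (h : Cov m φ) {k : G} (hk : (m k : Matrix ι ι F) = (1 : F) • (1 : Matrix ι ι F)) : k = 1 := by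
  apply h.inj
  apply Units.ext
  rw [hk, one_smul, map_one, Units.val_one]

/-! ### transfer -/

/-- transfer: a central element of a perfect group: its power by the index of `T` lies in `E ≥ [T, T]` -/
theorem pow_index_mem {X : Type*} [Group X] [Finite X] (hX : commutator X = ⊤) {T E : Subgroup X}
    (hcom : ∀ x ∈ T, ∀ y ∈ T, x * y * x⁻¹ * y⁻¹ ∈ E) {c : X} (hc : ∀ x, c * x = x * c) : c ^ T.index ∈ E := by
  have key : ∀ (k : ℕ) (g₀ : X), g₀⁻¹ * c ^ k * g₀ ∈ T → g₀⁻¹ * c ^ k * g₀ = c ^ k := by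
    intro k g₀ _
    have h2 : Commute c g₀ := hc g₀
    rw [mul_assoc, (h2.pow_left k).eq]; group
  have h3 := MonoidHom.transfer_eq_pow (Abelianization.of (G := T)) c key
  have h4 : MonoidHom.transfer (Abelianization.of (G := T)) c = 1 :=
    (Abelianization.commutator_subset_ker _) (by rw [hX]; exact Subgroup.mem_top _)
  rw [h4] at h3
  have h5 : (⟨c ^ T.index, MonoidHom.transfer_eq_pow_aux c key⟩ : T) ∈ commutator T := by
    rw [← Abelianization.ker_of, MonoidHom.mem_ker]; exact h3.symm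
  have h6 : commutator T ≤ E.subgroupOf T := by
    rw [commutator_def, Subgroup.commutator_le]
    intro x _ y _
    rw [Subgroup.mem_subgroupOf, commutatorElement_def]
    exact hcom x x.2 y y.2
  exact Subgroup.mem_subgroupOf.mp (h6 h5)

/-- the nine elements of `⟨(0 1 2), (3 4 5)⟩` -/
def nine : Subgroup (Perm (Fin 6)) where
  carrier := {x | ∃ i j : Fin 3, x = c[(0 : Fin 6), 1, 2] ^ (i : ℕ) * c[(3 : Fin 6), 4, 5] ^ (j : ℕ)}
  mul_mem' := by
    rintro _ _ ⟨i, j, rfl⟩ ⟨k, l, rfl⟩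
    revert i j k l
    decide +kernel
  one_mem' := ⟨0, 0, by decide⟩
  inv_mem' := by
    rintro _ ⟨i, j, rfl⟩
    revert i j
    decide +kernel

theorem card_nine : Nat.card nine = 9 := by
  have h1 : Function.Bijective (fun x : Fin 3 × Fin 3 =>
      (⟨c[(0 : Fin 6), 1, 2] ^ (x.1 : ℕ) * c[(3 : Fin 6), 4, 5] ^ (x.2 : ℕ), x.1, x.2, rfl⟩ : nine)) := by
    constructor
    · intro x y hxy
      have h2 := congrArg Subtype.val hxy
      revert x y
      have : ∀ x y : Fin 3 × Fin 3, (c[(0 : Fin 6), 1, 2] : Perm (Fin 6)) ^ (x.1 : ℕ) * c[(3 : Fin 6), 4, 5] ^ (x.2 : ℕ) =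
          c[(0 : Fin 6), 1, 2] ^ (y.1 : ℕ) * c[(3 : Fin 6), 4, 5] ^ (y.2 : ℕ) → x = y := by decide +kernel
      intro x y _ h2
      exact this x y h2
    · rintro ⟨_, i, j, rfl⟩
      exact ⟨(i, j), rfl⟩
  rw [← Nat.card_eq_of_bijective _ h1, Nat.card_eq_fintype_card, Fintype.card_prod, Fintype.card_fin]

theorem nine_le : nine ≤ alternatingGroup (Fin 6) := by
  rintro _ ⟨i, j, rfl⟩
  rw [Perm.mem_alternatingGroup]
  revert i j
  decide +kernel

theorem card_alt6 : Nat.card (alternatingGroup (Fin 6)) = 360 := by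
  rw [nat_card_alternatingGroup, Nat.card_eq_fintype_card, Fintype.card_fin]
  rfl

theorem relIndex_nine : nine.relIndex (alternatingGroup (Fin 6)) = 40 := by
  have h1 := (nine.subgroupOf (alternatingGroup (Fin 6))).card_mul_index
  rw [Nat.card_congr (Subgroup.subgroupOfEquivOfLe nine_le).toEquiv, card_nine, card_alt6] at h1
  change 9 * nine.relIndex (alternatingGroup (Fin 6)) = 360 at h1
  omega

theorem Cov.index_comap (h : Cov m φ) (T : Subgroup (Perm (Fin 6))) :
    (T.comap φ).index = T.relIndex (alternatingGroup (Fin 6)) := by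
  rw [Subgroup.index_comap, h.range]

/-- **Lifts of `(0 1 2)` and `(3 4 5)` do not commute.** -/
theorem Cov.nc [Finite G] (h : Cov m φ) (h3 : 3 ∣ Nat.card φ.ker) {x y : G} (hx : φ x = c[(0 : Fin 6), 1, 2])
    (hy : φ y = c[(3 : Fin 6), 4, 5]) : x * y ≠ y * x := by
  intro hxy
  have hxy' : Commute x y := hxy
  -- a central element of order 3
  obtain ⟨z, hz⟩ := exists_prime_orderOf_dvd_card' (G := φ.ker) 3 h3
  have hz1 : φ z = 1 := z.2
  have hz3 : (z : G) ^ 3 = 1 := by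
    have h1 : z ^ 3 = 1 := by rw [← hz]; exact pow_orderOf_eq_one z
    exact_mod_cast congrArg Subtype.val h1
  have hzne : (z : G) ≠ 1 := by
    intro h1
    have h2 : z = 1 := Subtype.ext h1
    rw [h2, orderOf_one] at hz
    omega
  have hT : ∀ a ∈ nine.comap φ, ∃ (i j : ℕ) (k : G), φ k = 1 ∧ a = k * (x ^ i * y ^ j) := by
    rintro a ⟨i, j, hij⟩
    refine ⟨i, j, a * (x ^ (i : ℕ) * y ^ (j : ℕ))⁻¹, ?_, by group⟩
    rw [map_mul, map_inv, map_mul, map_pow, map_pow, hx, hy, hij, mul_inv_cancel]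
  have h1 := pow_index_mem h.perf (T := nine.comap φ) (E := ⊥) (c := (z : G)) (by
    intro a ha b hb
    obtain ⟨i, j, k, hk, rfl⟩ := hT a ha
    obtain ⟨i', j', k', hk', rfl⟩ := hT b hb
    rw [Subgroup.mem_bot]
    have c1 : Commute k (x ^ i * y ^ j) := h.central hk _
    have c2 : Commute k (k' * (x ^ i' * y ^ j')) := h.central hk _
    have c3 : Commute (x ^ i * y ^ j) k' := (h.central hk' _).symm
    have c4 : Commute (x ^ i * y ^ j) (x ^ i' * y ^ j') := by
      apply Commute.mul_left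
      · exact ((Commute.refl x).pow_pow i i').mul_right (hxy'.pow_pow i j')
      · exact (hxy'.symm.pow_pow j i').mul_right ((Commute.refl y).pow_pow j j')
    have c5 : Commute (k * (x ^ i * y ^ j)) (k' * (x ^ i' * y ^ j')) := c2.mul_left (c3.mul_right c4)
    rw [c5.eq, mul_assoc, mul_assoc, mul_inv_cancel_left, mul_inv_cancel]) (h.central hz1)
  rw [h.index_comap, relIndex_nine, Subgroup.mem_bot, show 40 = 3 * 13 + 1 from rfl, pow_succ, pow_mul, hz3, one_pow,
    one_mul] at h1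
  exact hzne h1

/-! ### traces -/

/-- if `[x, y]` is a non-trivial element of the kernel then the trace of `x` vanishes -/
theorem Cov.tr_eq_zero_of_comm (h : Cov m φ) {x y : G} (hk : φ (x * y * x⁻¹ * y⁻¹) = 1) (hne : x * y ≠ y * x) :
    tr (m x) = 0 := by
  obtain ⟨c, hc⟩ := h.scal hk
  have h1 : tr (m (y * x * y⁻¹)) = tr (m x) := by rw [map_mul, map_mul, map_inv, tr_conj]
  have hc1 : (c : F) ≠ 1 := by
    intro h2
    rw [h2] at hc
    have h3 := h.eq_one_of_scal hc
    apply hne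
    calc x * y = x * y * x⁻¹ * y⁻¹ * (y * x) := by group
      _ = y * x := by rw [h3, one_mul]
  have h2 : (m x : Matrix ι ι F) = (c : F) • (m (y * x * y⁻¹) : Matrix ι ι F) := by
    have h3 : x = x * y * x⁻¹ * y⁻¹ * (y * x * y⁻¹) := by group
    conv_lhs => rw [h3]
    rw [map_mul, Units.val_mul, hc, Matrix.smul_mul, one_mul]
  have h3 := tr_smul h2
  rw [h1] at h3
  have h4 : (1 - (c : F)) * tr (m x) = 0 := by rw [sub_mul, one_mul, ← h3, sub_self]
  exact (mul_eq_zero.1 h4).resolve_left (sub_ne_zero.2 hc1.symm)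

theorem three_types : ∀ x : Perm (Fin 6), x ∈ alternatingGroup (Fin 6) → x ^ 3 = 1 → x ≠ 1 →
    x.cycleType = {3} ∨ x.cycleType = {3, 3} := by
  intro x hx h3 hne
  have h1 : ∀ n ∈ x.cycleType, n = 3 := by
    intro n hn
    have h2 : n ∣ 3 := (Perm.dvd_of_mem_cycleType hn).trans (orderOf_dvd_of_pow_eq_one h3)
    have h4 := Perm.two_le_of_mem_cycleType hn
    rcases (Nat.dvd_prime Nat.prime_three).1 h2 with h5 | h5 <;> omega
  have h2 := Multiset.eq_replicate_of_mem h1
  have h4 : x.cycleType.sum ≤ 6 := by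
    have := Perm.sum_cycleType x
    rw [this]
    exact (Finset.card_le_univ _).trans (by simp)
  rw [h2, Multiset.sum_replicate, smul_eq_mul] at h4
  have h5 : Multiset.card x.cycleType ≠ 0 := by
    rw [Ne, Multiset.card_eq_zero, Perm.cycleType_eq_zero]
    exact hne
  have h6 : Multiset.card x.cycleType = 1 ∨ Multiset.card x.cycleType = 2 := by omega
  rcases h6 with h6 | h6
  · left; rw [h2, h6]; rfl
  · right; rw [h2, h6]; rfl

/-- **The trace vanishes over elements of order `3`.** -/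
theorem Cov.tr_three [Finite G] (h : Cov m φ) (h3 : 3 ∣ Nat.card φ.ker) {x : G} (hx : φ x ^ 3 = 1) (hne : φ x ≠ 1) :
    tr (m x) = 0 := by
  -- reduction to a permutation
  have h3' : ∀ σ : Perm (Fin 6), 3 ∣ Nat.card ((MulAut.conj σ).toMonoidHom.comp φ).ker := fun σ => by
    rw [ker_conj]; exact h3
  have key : ∀ {s : Perm (Fin 6)} (t : Perm (Fin 6)), s * t = t * s → t ∈ alternatingGroup (Fin 6) →
      (∀ a b : G, ∀ σ : Perm (Fin 6), σ * φ a * σ⁻¹ = s → σ * φ b * σ⁻¹ = t → a * b ≠ b * a) → IsConj (φ x) s →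
      tr (m x) = 0 := by
    intro s t hst ht hnc hc
    obtain ⟨σ, hσ⟩ := isConj_iff.1 hc
    obtain ⟨y, hy⟩ := (h.conj σ).surj ht
    have hy' : σ * φ y * σ⁻¹ = t := hy
    refine h.tr_eq_zero_of_comm (y := y) ?_ (hnc x y σ hσ hy')
    have h1 : φ x * φ y = φ y * φ x := by
      have e1 : φ x = σ⁻¹ * s * σ := by rw [← hσ]; group
      have e2 : φ y = σ⁻¹ * t * σ := by rw [← hy']; group
      rw [e1, e2]
      calc σ⁻¹ * s * σ * (σ⁻¹ * t * σ) = σ⁻¹ * (s * t) * σ := by group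
        _ = σ⁻¹ * (t * s) * σ := by rw [hst]
        _ = σ⁻¹ * t * σ * (σ⁻¹ * s * σ) := by group
    rw [map_mul, map_mul, map_mul, map_inv, map_inv, h1]
    group
  rcases three_types (φ x) (h.sign x) hx hne with hc | hc
  · refine key (s := c[(0 : Fin 6), 1, 2]) c[(3 : Fin 6), 4, 5] (by decide) (Perm.mem_alternatingGroup.2 (by decide)) ?_ ?_
    · intro a b σ ha hb
      exact (h.conj σ).nc (h3' σ) ha hb
    · rw [Perm.isConj_iff_cycleType_eq, hc]
      rfl
  · refine key (s := c[(0 : Fin 6), 1, 2] * c[(3 : Fin 6), 4, 5]) c[(3 : Fin 6), 4, 5] (by decide) (Perm.mem_alternatingGroup.2 (by decide)) ?_ ?_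
    · intro a b σ ha hb hab
      refine (h.conj σ).nc (h3' σ) (x := a * b⁻¹) (y := b) ?_ hb ?_
      · change σ * φ (a * b⁻¹) * σ⁻¹ = _
        rw [map_mul, map_inv]
        calc σ * (φ a * (φ b)⁻¹) * σ⁻¹ = (σ * φ a * σ⁻¹) * (σ * φ b * σ⁻¹)⁻¹ := by group
          _ = c[(0 : Fin 6), 1, 2] := by rw [ha, hb]; decide
      · calc a * b⁻¹ * b = a := by group
          _ = b * (b⁻¹ * a) := by group
          _ = b * (a * b⁻¹) := by
            congr 1
            calc b⁻¹ * a = b⁻¹ * (a * b) * b⁻¹ := by group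
              _ = a * b⁻¹ := by rw [hab]; group
    · rw [Perm.isConj_iff_cycleType_eq, hc]
      rfl

/-! ### lifts of involutions for `|ker φ| = 3` -/

/-- lifts of commuting elements commute up to the kernel -/
theorem Cov.ker_comm {x y : G} (hxy : φ x * φ y = φ y * φ x) : φ (x * y * x⁻¹ * y⁻¹) = 1 := by
  rw [map_mul, map_mul, map_mul, map_inv, map_inv, hxy]; group

theorem Cov.pow_ker {k : G} (hk : φ k = 1) : k ^ Nat.card φ.ker = 1 := by
  have h1 : (⟨k, hk⟩ : φ.ker) ^ Nat.card φ.ker = 1 := pow_card_eq_one'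
  exact congrArg Subtype.val h1

theorem Cov.exists_inv (h : Cov m φ) (hc : Nat.card φ.ker = 3) {s : Perm (Fin 6)} (hs : s ∈ alternatingGroup (Fin 6))
    (h2 : s * s = 1) : ∃ g, φ g = s ∧ g * g = 1 := by
  obtain ⟨g, hg⟩ := h.surj hs
  have hk : φ (g * g) = 1 := by rw [map_mul, hg, h2]
  have h3 := Cov.pow_ker hk
  rw [hc] at h3
  refine ⟨g * (g * g), by rw [map_mul, hk, mul_one, hg], ?_⟩
  rw [pow_succ, pow_succ, pow_one] at h3
  calc g * (g * g) * (g * (g * g)) = g * g * (g * g) * (g * g) := by simp only [mul_assoc]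
    _ = 1 := h3

theorem Cov.inv_unique (h : Cov m φ) (hc : Nat.card φ.ker = 3) {a b : G} (hab : φ a = φ b) (ha : a * a = 1)
    (hb : b * b = 1) : a = b := by
  have hk : φ (a⁻¹ * b) = 1 := by rw [map_mul, map_inv, hab, inv_mul_cancel]
  have h3 := Cov.pow_ker hk
  rw [hc] at h3
  have hcen := h.central hk
  obtain ⟨k, hkk⟩ : ∃ k, k = a⁻¹ * b := ⟨_, rfl⟩
  rw [← hkk] at h3 hcen
  have e : b = a * k := by rw [hkk]; group
  have h4 : k * k = 1 := by
    rw [e] at hb
    calc k * k = (a * a)⁻¹ * (a * (a * k) * k) := by group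
      _ = (a * a)⁻¹ * (a * (k * a) * k) := by rw [hcen a]
      _ = (a * a)⁻¹ * (a * k * (a * k)) := by group
      _ = 1 := by rw [hb, ha]; group
  have h5 : k = 1 := by
    rw [pow_succ, pow_succ, pow_one, h4, one_mul] at h3
    exact h3
  rw [e, h5, mul_one]

theorem Cov.inv_conj (h : Cov m φ) (hc : Nat.card φ.ker = 3) {a b g : G} (ha : a * a = 1) (hb : b * b = 1)
    (hg : φ g * φ a * (φ g)⁻¹ = φ b) : g * a * g⁻¹ = b := by
  apply h.inv_unique hc _ _ hb
  · rw [map_mul, map_mul, map_inv, hg]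
  · calc g * a * g⁻¹ * (g * a * g⁻¹) = g * (a * a) * g⁻¹ := by group
      _ = 1 := by rw [ha]; group

theorem Cov.inv_comm (h : Cov m φ) (hc : Nat.card φ.ker = 3) {a g : G} (ha : a * a = 1)
    (hg : φ g * φ a = φ a * φ g) : g * a = a * g := by
  have h1 := h.inv_conj hc (g := g) ha ha (by rw [hg]; group)
  calc g * a = g * a * g⁻¹ * g := by group
    _ = a * g := by rw [h1]

/-! ### translates of a subspace -/

/-- the restrictions to a subspace of the elements of `G` span all linear maps -/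
theorem Cov.span_restrict (h : Cov m φ) (E : Submodule F (ι → F)) :
    Submodule.span F (Set.range fun g : G => (Matrix.toLin' (m g : Matrix ι ι F)).domRestrict E) = ⊤ := by
  have h1 : Submodule.span F (matrixSet m.range) = ⊤ := H920.span_eq_top h.irr
  let R : Matrix ι ι F →ₗ[F] (E →ₗ[F] (ι → F)) :=
    { toFun := fun M => (Matrix.toLin' M).domRestrict E
      map_add' := fun a b => by ext1 x; simp
      map_smul' := fun c a => by ext1 x; simp }
  have hR : LinearMap.range R = ⊤ := by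
    rw [LinearMap.range_eq_top]
    intro f
    obtain ⟨g, hg⟩ := LinearMap.exists_extend f
    refine ⟨LinearMap.toMatrix' g, ?_⟩
    change (Matrix.toLin' (LinearMap.toMatrix' g)).domRestrict E = f
    rw [Matrix.toLin'_toMatrix', ← hg]
    rfl
  have h2 : (Set.range fun g : G => (Matrix.toLin' (m g : Matrix ι ι F)).domRestrict E) = R '' matrixSet m.range := by
    ext x
    constructor
    · rintro ⟨g, rfl⟩
      exact ⟨_, ⟨m g, ⟨g, rfl⟩, rfl⟩, rfl⟩
    · rintro ⟨_, ⟨_, ⟨g, rfl⟩, rfl⟩, rfl⟩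
      exact ⟨g, rfl⟩
  rw [h2, Submodule.span_image, h1, Submodule.map_top, hR]

/-- **Lemma B.** If `Y` acts on the subspace `E` by a linear character then `dim E * n ≤ |G : Y|`. -/
theorem Cov.lemmaB [Finite G] (h : Cov m φ) (Y : Subgroup G) (χ : G → F) (E : Submodule F (ι → F))
    (hE : ∀ y ∈ Y, ∀ v ∈ E, (m y : Matrix ι ι F) *ᵥ v = χ y • v) :
    Module.finrank F E * Fintype.card ι ≤ Y.index := by
  classical
  have hfin : Fintype (G ⧸ Y) := Fintype.ofFinite _
  let f : G ⧸ Y → (E →ₗ[F] (ι → F)) := fun q => (Matrix.toLin' (m q.out : Matrix ι ι F)).domRestrict E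
  have h1 : Submodule.span F (Set.range f) = ⊤ := by
    rw [eq_top_iff, ← h.span_restrict E, Submodule.span_le]
    rintro _ ⟨g, rfl⟩
    obtain ⟨y, hy⟩ := QuotientGroup.mk_out_eq_mul Y g
    have h2 : (Matrix.toLin' (m g : Matrix ι ι F)).domRestrict E = χ (y : G)⁻¹ • f (g : G ⧸ Y) := by
      ext1 x
      have e1 : g = (g : G ⧸ Y).out * (y : G)⁻¹ := by rw [hy]; group
      change Matrix.toLin' (m g : Matrix ι ι F) (x : ι → F) =
        χ (y : G)⁻¹ • Matrix.toLin' (m (g : G ⧸ Y).out : Matrix ι ι F) (x : ι → F)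
      rw [Matrix.toLin'_apply, Matrix.toLin'_apply]
      conv_lhs => rw [e1]
      rw [map_mul, Units.val_mul, ← Matrix.mulVec_mulVec, hE _ (inv_mem y.2) x x.2, Matrix.mulVec_smul]
    change (Matrix.toLin' (m g : Matrix ι ι F)).domRestrict E ∈ _
    rw [h2]
    exact Submodule.smul_mem _ _ (Submodule.subset_span ⟨_, rfl⟩)
  have h2 : (Set.range f).finrank F ≤ Fintype.card (G ⧸ Y) := finrank_range_le_card f
  rw [Set.finrank, h1, finrank_top, Module.finrank_linearMap, Module.finrank_fintype_fun_eq_card] at h2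
  rwa [Subgroup.index, Nat.card_eq_fintype_card]

/-- **Lemma H'** (for any representation `m`). `v ≠ 0`, `y v = χ(y) v` on `Y`, and for every `g ∉ Y` some `y ∈ Y` with `g⁻¹ y g ∈ Y` and
`χ(g⁻¹ y g) ≠ χ(y)`: then `|G : Y| ≤ n`. -/
theorem lemmaH [Finite G] (Y : Subgroup G) (χ : G → F) {v : ι → F} (hv : v ≠ 0)
    (hcard : (Nat.card Y : F) ≠ 0)
    (hE : ∀ y ∈ Y, (m y : Matrix ι ι F) *ᵥ v = χ y • v)
    (hg : ∀ g, g ∉ Y → ∃ y ∈ Y, g⁻¹ * y * g ∈ Y ∧ χ y ≠ χ (g⁻¹ * y * g)) :
    Y.index ≤ Fintype.card ι := by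
  classical
  have hfin : Fintype (G ⧸ Y) := Fintype.ofFinite _
  have hfY : Fintype Y := Fintype.ofFinite _
  have hχ1 : ∀ y ∈ Y, χ y ≠ 0 := by
    intro y hy h0
    have h1 := hE y hy
    rw [h0, zero_smul] at h1
    apply hv
    have h2 := congrArg (fun w => ((m y)⁻¹ : GL ι F).1 *ᵥ w) h1
    simp only [Matrix.mulVec_mulVec, Matrix.mulVec_zero, ← Units.val_mul, inv_mul_cancel, Units.val_one,
      Matrix.one_mulVec] at h2
    exact h2
  have hχm : ∀ y ∈ Y, ∀ y' ∈ Y, χ (y * y') = χ y * χ y' := by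
    intro y hy y' hy'
    have h1 := hE _ (mul_mem hy hy')
    rw [map_mul, Units.val_mul, ← Matrix.mulVec_mulVec, hE y' hy', Matrix.mulVec_smul, hE y hy, smul_smul] at h1
    have h2 : (χ (y * y') - χ y' * χ y) • v = 0 := by rw [sub_smul, ← h1, sub_self]
    rw [mul_comm (χ y)]
    exact sub_eq_zero.1 ((smul_eq_zero.1 h2).resolve_right hv)
  -- the idempotent
  let e : (ι → F) → (ι → F) := fun w => ∑ y : Y, (χ (y : G))⁻¹ • ((m y : Matrix ι ι F) *ᵥ w)
  have hadd : ∀ w w', e (w + w') = e w + e w' := by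
    intro w w'
    simp only [e, Matrix.mulVec_add, smul_add, Finset.sum_add_distrib]
  have hsmul : ∀ (c : F) w, e (c • w) = c • e w := by
    intro c w
    simp only [e, Matrix.mulVec_smul, Finset.smul_sum, smul_comm c]
  let eL : (ι → F) →ₗ[F] (ι → F) := { toFun := e, map_add' := hadd, map_smul' := hsmul }
  have hev : e v = (Nat.card Y : F) • v := by
    simp only [e]
    rw [Finset.sum_congr rfl (fun y _ => by rw [hE y y.2, smul_smul, inv_mul_cancel₀ (hχ1 y y.2), one_smul]),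
      Finset.sum_const, Finset.card_univ, Nat.card_eq_fintype_card, Nat.cast_smul_eq_nsmul]
  have hey : ∀ y ∈ Y, ∀ w, e ((m y : Matrix ι ι F) *ᵥ w) = χ y • e w := by
    intro y hy w
    simp only [e]
    rw [Finset.smul_sum]
    refine Fintype.sum_equiv (Equiv.mulRight (⟨y, hy⟩ : Y)) _ _ fun z => ?_
    rw [Matrix.mulVec_mulVec, ← Units.val_mul, ← map_mul, smul_smul]
    change (χ (z : G))⁻¹ • (m (z * y) : Matrix ι ι F) *ᵥ w = (χ y * (χ (z * y : G))⁻¹) • (m (z * y : G) : Matrix ι ι F) *ᵥ w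
    rw [hχm z z.2 y hy, mul_inv, mul_left_comm, mul_inv_cancel₀ (hχ1 y hy), mul_one]
  have heg : ∀ g, g ∉ Y → e ((m g : Matrix ι ι F) *ᵥ v) = 0 := by
    intro g hgY
    obtain ⟨y, hy, hy', hne⟩ := hg g hgY
    have h1 := hey y hy ((m g : Matrix ι ι F) *ᵥ v)
    have h2 : (m y : Matrix ι ι F) *ᵥ ((m g : Matrix ι ι F) *ᵥ v) = χ (g⁻¹ * y * g) • ((m g : Matrix ι ι F) *ᵥ v) := by
      rw [← Matrix.mulVec_smul, ← hE _ hy', Matrix.mulVec_mulVec, Matrix.mulVec_mulVec, ← Units.val_mul, ← Units.val_mul,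
        ← map_mul, ← map_mul]
      congr 3
      group
    rw [h2, hsmul] at h1
    have h3 : (χ (g⁻¹ * y * g) - χ y) • e ((m g : Matrix ι ι F) *ᵥ v) = 0 := by rw [sub_smul, h1, sub_self]
    exact (smul_eq_zero.1 h3).resolve_left (sub_ne_zero.2 hne.symm)
  have hli : LinearIndependent F (fun q : G ⧸ Y => (m q.out : Matrix ι ι F) *ᵥ v) := by
    rw [Fintype.linearIndependent_iff]
    intro c hc q
    have h1 := congrArg (fun w => eL (((m q.out)⁻¹ : GL ι F).1 *ᵥ w)) hc
    simp only [Matrix.mulVec_zero, map_zero] at h1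
    rw [Matrix.mulVec_sum, map_sum, Finset.sum_eq_single q] at h1
    · rw [Matrix.mulVec_smul, map_smul, Matrix.mulVec_mulVec, ← Units.val_mul, inv_mul_cancel, Units.val_one,
        Matrix.one_mulVec] at h1
      change c q • e v = 0 at h1
      rw [hev, smul_smul] at h1
      exact (mul_eq_zero.1 ((smul_eq_zero.1 h1).resolve_right hv)).resolve_right hcard
    · intro q' _ hq'
      rw [Matrix.mulVec_smul, map_smul, Matrix.mulVec_mulVec, ← Units.val_mul, ← map_inv, ← map_mul]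
      change c q' • e _ = 0
      rw [heg, smul_zero]
      intro hmem
      apply hq'
      rw [← QuotientGroup.out_eq' q', ← QuotientGroup.out_eq' q]
      exact (QuotientGroup.eq.2 hmem).symm
    · intro hq; exact absurd (Finset.mem_univ _) hq
  have h1 := hli.fintype_card_le_finrank
  rwa [Module.finrank_fintype_fun_eq_card, ← Nat.card_eq_fintype_card] at h1

end Cfsg.Agent.H930.Six

private theorem dce_5e0215615eea : _root_.True := by
  try have : _root_.True := by simp only [_root_.Cfsg.Agent.H930.Six.toPerm.eq_1]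
  exact _root_.True.intro
end

-- part: H269/ThreeA6/Triv
section
prune_inst 0x140001001400000010000512a0000000680000000040000000800800010000600980a00010000016000000000000000000100000020000000a000000000100000000000000000100220000000000000000000000000000000000000000000000000000000
set_option linter.all false
open scoped Cfsg.Agent.FastGrp

-- part: H269/ThreeA6/Eps
section
/-!
# `S₄ → A₆`, the stabiliser of the duad `{4, 5}` (for H930, `3·A₆` has no 12-dimensional representation)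
-/

set_option autoImplicit false

namespace Cfsg.Agent.H269.ThreeA6

open Equiv

/-- the sign as a permutation of two points -/
def sgn2 : ℤˣ →* Perm (Fin 2) where
  toFun u := if u = 1 then 1 else swap (0 : Fin 2) 1
  map_one' := by decide
  map_mul' := by decide

theorem sign_sgn2 : ∀ u : ℤˣ, Perm.sign (sgn2 u) = u := by decide

theorem sgn2_sign : ∀ y : Perm (Fin 2), sgn2 (Perm.sign y) = y := by decide

/-- `x ↦ x (4 5)^sgn x` -/
def eps : Perm (Fin 4) →* Perm (Fin 6) where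
  toFun x := (finSumFinEquiv (m := 4) (n := 2)).permCongr (Perm.sumCongr x (sgn2 (Perm.sign x)))
  map_one' := by
    rw [Perm.sign_one, map_one, Perm.sumCongr_one]
    exact Equiv.permCongr_refl _
  map_mul' x y := by
    rw [Perm.sign_mul, map_mul, ← Perm.sumCongr_mul]
    exact (Equiv.permCongrHom (finSumFinEquiv (m := 4) (n := 2))).map_mul _ _

theorem eps_apply (x : Perm (Fin 4)) :
    eps x = (finSumFinEquiv (m := 4) (n := 2)).permCongr (Perm.sumCongr x (sgn2 (Perm.sign x))) := rfl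

theorem eps_mem (x : Perm (Fin 4)) : eps x ∈ alternatingGroup (Fin 6) := by
  rw [Perm.mem_alternatingGroup, eps_apply, Perm.sign_permCongr, Perm.sign_sumCongr, sign_sgn2]
  exact Int.units_mul_self _

theorem eps_injective : Function.Injective eps := by
  intro x y hxy
  rw [eps_apply, eps_apply] at hxy
  have h1 := (finSumFinEquiv (m := 4) (n := 2)).permCongr.injective hxy
  ext i
  have h2 := congrArg (fun s : Perm (Fin 4 ⊕ Fin 2) => s (Sum.inl i)) h1
  simp only [Perm.sumCongr_apply, Sum.map_inl, Sum.inl.injEq] at h2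
  exact congrArg Fin.val h2

/-- the stabiliser of `{4, 5}` in `A₆` -/
theorem exists_eps {r : Perm (Fin 6)} (hr : r ∈ alternatingGroup (Fin 6)) (h4 : r 4 = 4 ∨ r 4 = 5) (h5 : r 5 = 4 ∨ r 5 = 5) :
    ∃ x, eps x = r := by
  let s : Perm (Fin 4 ⊕ Fin 2) := (finSumFinEquiv (m := 4) (n := 2)).symm.permCongr r
  have hs : (finSumFinEquiv (m := 4) (n := 2)).permCongr s = r := by
    ext i; simp [s]
  have h1 : Set.MapsTo s (Set.range Sum.inr) (Set.range Sum.inr) := by
    rintro _ ⟨i, rfl⟩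
    have h2 : ∀ k : Fin 6, k = 4 ∨ k = 5 → (finSumFinEquiv (m := 4) (n := 2)).symm k ∈ Set.range (Sum.inr : Fin 2 → Fin 4 ⊕ Fin 2) := by
      rintro k (rfl | rfl)
      · exact ⟨0, rfl⟩
      · exact ⟨1, rfl⟩
    have h3 : s (Sum.inr i) = (finSumFinEquiv (m := 4) (n := 2)).symm (r (finSumFinEquiv (m := 4) (n := 2) (Sum.inr i))) := rfl
    rw [h3]
    apply h2
    fin_cases i
    · exact h4
    · exact h5
  rw [← Perm.perm_mapsTo_inl_iff_mapsTo_inr] at h1
  obtain ⟨⟨x, y⟩, hxy⟩ := Perm.mem_sumCongrHom_range_of_perm_mapsTo_inl h1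
  have hxy' : Perm.sumCongr x y = s := hxy
  have hsign : Perm.sign x * Perm.sign y = 1 := by
    rw [Perm.mem_alternatingGroup, ← hs, Perm.sign_permCongr, ← hxy', Perm.sign_sumCongr] at hr
    exact hr
  have hy : Perm.sign x = Perm.sign y := by
    rw [mul_eq_one_iff_eq_inv] at hsign
    rw [hsign, Int.units_inv_eq_self]
  refine ⟨x, ?_⟩
  rw [eps_apply, hy, sgn2_sign, hxy', hs]

/-- the generators -/
theorem closure_eq_top : Subgroup.closure ({swap (0 : Fin 4) 1, swap (1 : Fin 4) 2, swap (2 : Fin 4) 3} : Set (Perm (Fin 4))) = ⊤ := by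
  rw [eq_top_iff]
  have h1 := Perm.mclosure_swap_castSucc_succ 3
  intro x _
  have h2 : x ∈ Submonoid.closure (Set.range fun i : Fin 3 => swap i.castSucc i.succ) := by
    rw [h1]; exact Submonoid.mem_top _
  have h3 : Submonoid.closure (Set.range fun i : Fin 3 => swap i.castSucc i.succ) ≤
      (Subgroup.closure ({swap (0 : Fin 4) 1, swap (1 : Fin 4) 2, swap (2 : Fin 4) 3} : Set (Perm (Fin 4)))).toSubmonoid := by
    rw [Submonoid.closure_le]
    rintro _ ⟨i, rfl⟩
    apply Subgroup.subset_closure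
    fin_cases i
    · left; rfl
    · right; left; rfl
    · right; right; rfl
  exact h3 h2

end Cfsg.Agent.H269.ThreeA6
end

-- part: Classification/TitsFin/Coxeter
section
set_option autoImplicit false

/-! Four elements satisfying the Coxeter relations of `S₅` in a simple group of order more than 120 generate a
proper nonsolvable subgroup. -/

namespace Cfsg.Agent.Classification.TitsFin.Coxeter

open Subgroup

theorem card_le {G : Type*} [Group G] [Finite G] {n : ℕ} (K : Subgroup G) (S : Set G)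
    (hS : ∀ s ∈ S, s * s = 1) (T : Fin n → G) (i0 : Fin n) (h0 : T i0 = 1)
    (hmul : ∀ i, ∀ s ∈ S, ∃ j, ∃ k ∈ K, T i * s = k * T j) :
    Nat.card (closure S) ≤ n * Nat.card K := by
  have key : ∀ x ∈ _root_.Subgroup.closure S, ∃ k ∈ K, ∃ i, x = k * T i := by
    intro x hx
    induction hx using closure_induction_right with
    | one => exact ⟨1, K.one_mem, i0, by rw [h0, mul_one]⟩
    | mul_right x hx y hy ih =>
      obtain ⟨k, hk, i, rfl⟩ := ih
      obtain ⟨j, k', hk', hj⟩ := hmul i y hy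
      exact ⟨k * k', K.mul_mem hk hk', j, by rw [mul_assoc, hj, mul_assoc]⟩
    | mul_inv_cancel x hx y hy ih =>
      obtain ⟨k, hk, i, rfl⟩ := ih
      have hyi : y⁻¹ = y := by rw [inv_eq_iff_mul_eq_one]; exact hS y hy
      obtain ⟨j, k', hk', hj⟩ := hmul i y hy
      exact ⟨k * k', K.mul_mem hk hk', j, by rw [hyi, mul_assoc, hj, mul_assoc]⟩
  let f : Fin n × K → G := fun p => p.2 * T p.1
  have hsub : (closure S : Set G) ⊆ Set.range f := by
    intro x hx
    obtain ⟨k, hk, i, rfl⟩ := key x hx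
    exact ⟨(i, ⟨k, hk⟩), rfl⟩
  calc Nat.card (closure S) = (closure S : Set G).ncard := Nat.card_coe_set_eq _
    _ ≤ (Set.range f).ncard := Set.ncard_le_ncard hsub (Set.toFinite _)
    _ = Nat.card (Set.range f) := (Nat.card_coe_set_eq _).symm
    _ ≤ Nat.card (Fin n × K) := Finite.card_range_le f
    _ = n * Nat.card K := by rw [Nat.card_prod, Nat.card_fin]

end Cfsg.Agent.Classification.TitsFin.Coxeter

namespace Cfsg.Agent.Classification.TitsFin

end Cfsg.Agent.Classification.TitsFin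
end

-- part: H269/ThreeA6/Lift
section
/-!
# The complement over the stabiliser of a duad in `3·A₆`

* `exists_psi` : `ψ : S₄ →* G` with `φ ∘ ψ = eps`;
* `exists_space` : the space on which a finite group acts by a sign character, its dimension.
-/

set_option autoImplicit false
set_option linter.unusedSectionVars false

universe u v

namespace Cfsg.Agent.H269.ThreeA6

open Cfsg Cfsg.Geo Matrix Equiv Cfsg.Agent.H915.LD Cfsg.Agent.H930.Six

variable {ι : Type} [Fintype ι] [DecidableEq ι] {F : Type u} [Field F] {G : Type v} [Group G]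
variable {m : G →* GL ι F} {φ : G →* Perm (Fin 6)}

theorem card_closure_three {G : Type*} [Group G] [Finite G] {a b c : G}
    (ha : a * a = 1) (hb : b * b = 1) (hc : c * c = 1)
    (hab : a * b * a = b * a * b) (hbc : b * c * b = c * b * c) (hac : a * c = c * a) :
    Nat.card (Subgroup.closure ({a, b, c} : Set G)) ≤ 24 := by
  have k1 : Nat.card (Subgroup.closure ({a} : Set G)) ≤ 2 * Nat.card (⊥ : Subgroup G) := by
    refine Classification.TitsFin.Coxeter.card_le ⊥ _ ?_ ![1, a] 0 rfl ?_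
    · intro s hs; rw [Set.mem_singleton_iff] at hs; rw [hs]; exact ha
    · intro i s hs
      rw [Set.mem_singleton_iff] at hs
      subst hs
      fin_cases i
      · exact ⟨1, 1, one_mem _, by simp⟩
      · exact ⟨0, 1, one_mem _, by simpa only [_root_.Fin.mk_one, _root_.Fin.isValue, _root_.Matrix.cons_val_one, _root_.Matrix.cons_val_fin_one, _root_.Matrix.cons_val_zero, _root_.mul_one] using ha⟩
  have k2 : Nat.card (Subgroup.closure ({a, b} : Set G)) ≤ 3 * Nat.card (Subgroup.closure ({a} : Set G)) := by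
    have mA : a ∈ Subgroup.closure ({a} : Set G) := Subgroup.subset_closure rfl
    refine Classification.TitsFin.Coxeter.card_le _ _ ?_ ![1, b, b * a] 0 rfl ?_
    · rintro s (rfl | hs)
      · exact ha
      · rw [Set.mem_singleton_iff] at hs; rw [hs]; exact hb
    · intro i s hs
      have hs' : s = a ∨ s = b := by simpa using hs
      fin_cases i
      · rcases hs' with rfl | rfl
        · exact ⟨0, _, mA, by simp⟩
        · exact ⟨1, 1, one_mem _, by simp⟩
      · rcases hs' with rfl | rfl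
        · exact ⟨2, 1, one_mem _, by simp⟩
        · exact ⟨0, 1, one_mem _, by simpa only [_root_.Fin.mk_one, _root_.Fin.isValue, _root_.Matrix.cons_val_one, _root_.Matrix.cons_val_zero, _root_.mul_one] using hb⟩
      · rcases hs' with rfl | rfl
        · exact ⟨1, 1, one_mem _, by simp [mul_assoc, ha]⟩
        · exact ⟨2, _, mA, by simp [← mul_assoc, hab]⟩
  have k3 : Nat.card (Subgroup.closure ({a, b, c} : Set G)) ≤ 4 * Nat.card (Subgroup.closure ({a, b} : Set G)) := by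
    have mA : a ∈ Subgroup.closure ({a, b} : Set G) := Subgroup.subset_closure (by simp)
    have mB : b ∈ Subgroup.closure ({a, b} : Set G) := Subgroup.subset_closure (by simp)
    refine Classification.TitsFin.Coxeter.card_le _ _ ?_ ![1, c, c * b, c * b * a] 0 rfl ?_
    · rintro s (rfl | rfl | hs)
      · exact ha
      · exact hb
      · rw [Set.mem_singleton_iff] at hs; rw [hs]; exact hc
    · intro i s hs
      have hs' : s = a ∨ s = b ∨ s = c := by simpa using hs
      fin_cases i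
      · rcases hs' with rfl | rfl | rfl
        · exact ⟨0, _, mA, by simp⟩
        · exact ⟨0, _, mB, by simp⟩
        · exact ⟨1, 1, one_mem _, by simp⟩
      · rcases hs' with rfl | rfl | rfl
        · exact ⟨1, _, mA, by simpa only [_root_.Fin.mk_one, _root_.Fin.isValue, _root_.Matrix.cons_val_one, _root_.Matrix.cons_val_zero] using hac.symm⟩
        · exact ⟨2, 1, one_mem _, by simp⟩
        · exact ⟨0, 1, one_mem _, by simpa only [_root_.Fin.mk_one, _root_.Fin.isValue, _root_.Matrix.cons_val_one, _root_.Matrix.cons_val_zero, _root_.mul_one] using hc⟩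
      · rcases hs' with rfl | rfl | rfl
        · exact ⟨3, 1, one_mem _, by simp⟩
        · exact ⟨1, 1, one_mem _, by simp [mul_assoc, hb]⟩
        · refine ⟨2, _, mB, ?_⟩
          show s * b * s = b * (s * b)
          rw [← hbc]; group
      · rcases hs' with rfl | rfl | rfl
        · exact ⟨2, 1, one_mem _, by simp [mul_assoc, ha]⟩
        · refine ⟨3, _, mA, ?_⟩
          show c * s * a * s = a * (c * s * a)
          calc c * s * a * s = c * (s * a * s) := by group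
            _ = c * (a * s * a) := by rw [hab]
            _ = (c * a) * s * a := by group
            _ = (a * c) * s * a := by rw [hac]
            _ = a * (c * s * a) := by group
        · refine ⟨3, _, mB, ?_⟩
          show s * b * a * s = b * (s * b * a)
          calc s * b * a * s = s * b * (a * s) := by group
            _ = s * b * (s * a) := by rw [hac]
            _ = (s * b * s) * a := by group
            _ = (b * s * b) * a := by rw [hbc]
            _ = b * (s * b * a) := by group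
  rw [Subgroup.card_bot] at k1
  omega

/-- **The complement.** -/
theorem exists_psi [Finite G] (h : Cov m φ) (hc : Nat.card φ.ker = 3) :
    ∃ ψ : Perm (Fin 4) →* G, ∀ x, φ (ψ x) = eps x := by
  have sq : ∀ x : Perm (Fin 4), x * x = 1 → eps x * eps x = 1 := by
    intro x hx; rw [← map_mul, hx, map_one]
  obtain ⟨a, ha, haa⟩ := h.exists_inv hc (eps_mem (_root_.Equiv.swap (0 : Fin 4) 1)) (sq _ (by decide))
  obtain ⟨b, hb, hbb⟩ := h.exists_inv hc (eps_mem (_root_.Equiv.swap (1 : Fin 4) 2)) (sq _ (by decide))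
  obtain ⟨c, hcc, hccc⟩ := h.exists_inv hc (eps_mem (swap (2 : Fin 4) 3)) (sq _ (by decide))
  have conj_sq : ∀ {x y : G}, x * x = 1 → y * y = 1 → x * y * x * (x * y * x) = 1 := by
    intro x y hx hy
    calc x * y * x * (x * y * x) = x * y * (x * x) * y * x := by group
      _ = x * (y * y) * x := by rw [hx]; group
      _ = 1 := by rw [hy, mul_one, hx]
  have hab : a * b * a = b * a * b := by
    refine h.inv_unique hc ?_ (conj_sq haa hbb) (conj_sq hbb haa)
    rw [map_mul, map_mul, map_mul, map_mul, ha, hb, ← map_mul, ← map_mul, ← map_mul, ← map_mul]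
    congr 1
    decide
  have hbc : b * c * b = c * b * c := by
    refine h.inv_unique hc ?_ (conj_sq hbb hccc) (conj_sq hccc hbb)
    rw [map_mul, map_mul, map_mul, map_mul, hb, hcc, ← map_mul, ← map_mul, ← map_mul, ← map_mul]
    congr 1
    decide
  have hac : a * c = c * a := by
    refine h.inv_comm hc hccc ?_
    rw [ha, hcc, ← map_mul, ← map_mul]
    congr 1
    decide
  obtain ⟨S, hS⟩ : ∃ S : Subgroup G, S = Subgroup.closure ({a, b, c} : Set G) := ⟨_, rfl⟩
  have hS24 : Nat.card S ≤ 24 := by rw [hS]; exact card_closure_three haa hbb hccc hab hbc hac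
  have hle : eps.range ≤ S.map φ := by
    rw [MonoidHom.range_eq_map, ← closure_eq_top, MonoidHom.map_closure, Subgroup.closure_le]
    rintro _ ⟨x, hx, rfl⟩
    rcases hx with rfl | rfl | rfl
    · exact ⟨a, by rw [hS]; exact Subgroup.subset_closure (by simp), ha⟩
    · exact ⟨b, by rw [hS]; exact Subgroup.subset_closure (by simp), hb⟩
    · exact ⟨c, by rw [hS]; exact Subgroup.subset_closure (by simp), hcc⟩
  have hr : Nat.card eps.range = 24 := by
    rw [Nat.card_congr (MonoidHom.ofInjective eps_injective).symm.toEquiv, Nat.card_eq_fintype_card]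
    decide
  have hm : 24 ≤ Nat.card (S.map φ) := by
    rw [← hr]; exact Subgroup.card_le_of_le hle
  let f : S →* S.map φ := φ.subgroupMap S
  have hf : Function.Surjective f := φ.subgroupMap_surjective S
  have hbij : Function.Bijective f := by
    rw [Nat.bijective_iff_surjective_and_card]
    refine ⟨hf, le_antisymm (hS24.trans hm) ?_⟩
    exact Nat.card_le_card_of_surjective f hf
  let e : S ≃* S.map φ := MulEquiv.ofBijective f hbij
  let g : Perm (Fin 4) →* S.map φ := eps.codRestrict (S.map φ) (fun x => hle ⟨x, rfl⟩)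
  refine ⟨S.subtype.comp (e.symm.toMonoidHom.comp g), fun x => ?_⟩
  have h1 : e (e.symm (g x)) = g x := e.apply_symm_apply _
  exact congrArg Subtype.val h1

/-- the space on which `H` acts by a sign character -/
theorem exists_space {H : Type} [Group H] [Fintype H] (θ : H →* G) (χ : H →* ℤˣ) (hH : (Fintype.card H : F) ≠ 0)
    (m : G →* GL ι F) : ∃ E : Submodule F (ι → F),
      (∀ v, v ∈ E ↔ ∀ x, (m (θ x) : Matrix ι ι F) *ᵥ v = (((χ x : ℤˣ) : ℤ) : F) • v) ∧
      (Module.finrank F E : F) * (Fintype.card H : F) = ∑ x, (((χ x : ℤˣ) : ℤ) : F) * tr (m (θ x)) := by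
  have hχ : ∀ x y : H, (((χ (x * y) : ℤˣ) : ℤ) : F) = (((χ x : ℤˣ) : ℤ) : F) * (((χ y : ℤˣ) : ℤ) : F) := by
    intro x y; rw [map_mul, Units.val_mul]; push_cast; ring
  have hχ2 : ∀ x : H, (((χ x : ℤˣ) : ℤ) : F) * (((χ x : ℤˣ) : ℤ) : F) = 1 := by
    intro x
    rcases Int.units_eq_one_or (χ x) with h | h <;> rw [h] <;> norm_num
  let ρ : Representation F H (ι → F) :=
    { toFun := fun x => (((χ x : ℤˣ) : ℤ) : F) • Matrix.toLin' (m (θ x) : Matrix ι ι F)
      map_one' := by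
        rw [map_one, map_one, map_one, Units.val_one, Units.val_one]
        simp
        rfl
      map_mul' := fun x y => by
        rw [hχ, map_mul, map_mul, Units.val_mul, Matrix.toLin'_mul]
        refine LinearMap.ext fun v => ?_
        show ((((χ x : ℤˣ) : ℤ) : F) * (((χ y : ℤˣ) : ℤ) : F)) • (Matrix.toLin' (m (θ x) : Matrix ι ι F))
          (Matrix.toLin' (m (θ y) : Matrix ι ι F) v) = (((χ x : ℤˣ) : ℤ) : F) • (Matrix.toLin' (m (θ x) : Matrix ι ι F))
          ((((χ y : ℤˣ) : ℤ) : F) • (Matrix.toLin' (m (θ y) : Matrix ι ι F) v))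
        rw [map_smul, smul_smul] }
  have hρ : ∀ x v, ρ x v = (((χ x : ℤˣ) : ℤ) : F) • ((m (θ x) : Matrix ι ι F) *ᵥ v) := fun x v => rfl
  have hinv : Invertible (Fintype.card H : F) := invertibleOfNonzero hH
  have hproj := Representation.isProj_averageMap ρ
  refine ⟨ρ.invariants, fun v => ?_, ?_⟩
  · rw [Representation.mem_invariants]
    refine forall_congr' fun x => ?_
    rw [hρ]
    constructor
    · intro h
      rw [← h, smul_smul, hχ2, one_smul, h]
    · intro h
      rw [h, smul_smul, hχ2, one_smul]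
  · have h1 := hproj.trace
    have h2 : Representation.averageMap ρ = ⅟(Fintype.card H : F) • ∑ x, ρ x := by
      rw [Representation.averageMap, GroupAlgebra.average, map_smul, map_sum]
      simp only [Representation.asAlgebraHom_single_one, MonoidAlgebra.of_apply]
    rw [h2, map_smul, map_sum, smul_eq_mul] at h1
    have h3 : ∀ x, LinearMap.trace F (ι → F) (ρ x) = (((χ x : ℤˣ) : ℤ) : F) * tr (m (θ x)) := by
      intro x
      show LinearMap.trace F (ι → F) ((((χ x : ℤˣ) : ℤ) : F) • Matrix.toLin' (m (θ x) : Matrix ι ι F)) = _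
      rw [map_smul, Matrix.trace_toLin'_eq, smul_eq_mul]
      rfl
    rw [← h1, Finset.sum_congr rfl (fun x _ => h3 x), mul_comm, ← mul_assoc, mul_invOf_self, one_mul]

end Cfsg.Agent.H269.ThreeA6
end

-- part: H269/ThreeA6/Sums
section
/-!
# Traces on the complement, dimensions of the spaces of linear characters
-/

set_option autoImplicit false
set_option linter.unusedSectionVars false

universe u v

namespace Cfsg.Agent.H269.ThreeA6

open Cfsg Cfsg.Geo Matrix Equiv Cfsg.Agent.H915.LD Cfsg.Agent.H930.Six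

variable {ι : Type} [Fintype ι] [DecidableEq ι] {F : Type u} [Field F] {G : Type v} [Group G]
variable {m : G →* GL ι F} {φ : G →* Perm (Fin 6)}

theorem tr_psi_conj (ψ : Perm (Fin 4) →* G) (g x : Perm (Fin 4)) : tr (m (ψ (g * x * g⁻¹))) = tr (m (ψ x)) := by
  rw [map_mul, map_mul, map_inv, map_mul, map_mul, map_inv, tr_conj]

theorem tr_one' : tr (m 1) = (Fintype.card ι : F) := by
  rw [map_one]
  show Matrix.trace (1 : Matrix ι ι F) = _
  rw [Matrix.trace_one]

/-- the classes of `S₄` -/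
def kap (x : Perm (Fin 4)) : Fin 5 :=
  if x = 1 then 0 else if x * x = 1 then (if Perm.sign x = 1 then 1 else 2) else if x * x * x = 1 then 3 else 4

theorem kap_card : ∀ k : Fin 5, (Finset.univ.filter fun x : Perm (Fin 4) => kap x = k).card = ![1, 3, 6, 8, 6] k := by
  (delta Cfsg.Agent.H269.ThreeA6.kap; set_option synthInstance.maxSize 9000 in open scoped Cfsg.Agent.Lib.FastPerm in (simp only [Cfsg.Agent.Lib.FastPerm.sw_dec, Cfsg.Agent.Lib.FastPerm.sw_ite, Cfsg.Agent.Lib.FastPerm.sw_beq, Cfsg.Agent.Lib.FastPerm.sw_bne]; decide +kernel))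

theorem traces [Finite G] (h : Cov m φ) (hc : Nat.card φ.ker = 3) {ψ : Perm (Fin 4) →* G} (hψ : ∀ x, φ (ψ x) = eps x) :
    ∀ x, tr (m (ψ x)) = ![(Fintype.card ι : F), tr (m (ψ (_root_.Equiv.swap 0 1))), tr (m (ψ (_root_.Equiv.swap 0 1))), 0,
      tr (m (ψ c[0, 2, 1, 3]))] (kap x) := by
  have d1 : ∀ x : Perm (Fin 4), kap x = 0 → x = 1 := by (delta Cfsg.Agent.H269.ThreeA6.kap; set_option synthInstance.maxSize 9000 in open scoped Cfsg.Agent.Lib.FastPerm in (simp only [Cfsg.Agent.Lib.FastPerm.sw_dec, Cfsg.Agent.Lib.FastPerm.sw_ite, Cfsg.Agent.Lib.FastPerm.sw_beq, Cfsg.Agent.Lib.FastPerm.sw_bne]; decide +kernel))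
  have d2 : ∀ x : Perm (Fin 4), kap x = 1 → ∃ g, x = g * (_root_.Equiv.swap 0 1 * swap 2 3) * g⁻¹ := by (delta Cfsg.Agent.H269.ThreeA6.kap; set_option synthInstance.maxSize 9000 in open scoped Cfsg.Agent.Lib.FastPerm in (simp only [Cfsg.Agent.Lib.FastPerm.sw_dec, Cfsg.Agent.Lib.FastPerm.sw_ite, Cfsg.Agent.Lib.FastPerm.sw_beq, Cfsg.Agent.Lib.FastPerm.sw_bne]; decide +kernel))
  have d3 : ∀ x : Perm (Fin 4), kap x = 2 → ∃ g, x = g * _root_.Equiv.swap 0 1 * g⁻¹ := by (delta Cfsg.Agent.H269.ThreeA6.kap; set_option synthInstance.maxSize 9000 in open scoped Cfsg.Agent.Lib.FastPerm in (simp only [Cfsg.Agent.Lib.FastPerm.sw_dec, Cfsg.Agent.Lib.FastPerm.sw_ite, Cfsg.Agent.Lib.FastPerm.sw_beq, Cfsg.Agent.Lib.FastPerm.sw_bne]; decide +kernel))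
  have d4 : ∀ x : Perm (Fin 4), kap x = 3 → x ^ 3 = 1 ∧ x ≠ 1 := by (delta Cfsg.Agent.H269.ThreeA6.kap; set_option synthInstance.maxSize 9000 in open scoped Cfsg.Agent.Lib.FastPerm in (simp only [Cfsg.Agent.Lib.FastPerm.sw_dec, Cfsg.Agent.Lib.FastPerm.sw_ite, Cfsg.Agent.Lib.FastPerm.sw_beq, Cfsg.Agent.Lib.FastPerm.sw_bne]; decide +kernel))
  have d5 : ∀ x : Perm (Fin 4), kap x = 4 → ∃ g, x = g * c[0, 2, 1, 3] * g⁻¹ := by (delta Cfsg.Agent.H269.ThreeA6.kap; set_option synthInstance.maxSize 9000 in open scoped Cfsg.Agent.Lib.FastPerm in (simp only [Cfsg.Agent.Lib.FastPerm.sw_dec, Cfsg.Agent.Lib.FastPerm.sw_ite, Cfsg.Agent.Lib.FastPerm.sw_beq, Cfsg.Agent.Lib.FastPerm.sw_bne]; decide +kernel))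
  intro x
  obtain ⟨k, hk⟩ : ∃ k, k = kap x := ⟨_, rfl⟩
  rw [← hk]
  fin_cases k
  · have h1 := d1 x hk.symm
    rw [h1, map_one]
    exact tr_one'
  · obtain ⟨g, rfl⟩ := d2 x hk.symm
    rw [tr_psi_conj]
    show _ = tr (m (ψ (_root_.Equiv.swap 0 1)))
    obtain ⟨s, hs⟩ := h.surj (s := swap 2 4 * swap 3 5) (Perm.mem_alternatingGroup.2 (by decide))
    have h1 : s * ψ (_root_.Equiv.swap 0 1) * s⁻¹ = ψ (_root_.Equiv.swap 0 1 * swap 2 3) := by
      refine h.inv_conj hc ?_ ?_ ?_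
      · rw [← map_mul, show (_root_.Equiv.swap 0 1 : Perm (Fin 4)) * _root_.Equiv.swap 0 1 = 1 by decide, map_one]
      · rw [← map_mul, show (_root_.Equiv.swap 0 1 * swap 2 3 : Perm (Fin 4)) * (_root_.Equiv.swap 0 1 * swap 2 3) = 1 by decide, map_one]
      · rw [hs, hψ, hψ]
        decide
    rw [← h1, map_mul, map_mul, map_inv, tr_conj]
  · obtain ⟨g, rfl⟩ := d3 x hk.symm
    rw [tr_psi_conj]
    rfl
  · obtain ⟨h1, h2⟩ := d4 x hk.symm
    refine h.tr_three (by rw [hc]) ?_ ?_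
    · rw [hψ, ← map_pow, h1, map_one]
    · rw [hψ]
      intro h3
      exact h2 (eps_injective (h3.trans (map_one eps).symm))
  · obtain ⟨g, rfl⟩ := d5 x hk.symm
    rw [tr_psi_conj]
    rfl

/-- sums over the classes -/
theorem sum_kap (f : Fin 5 → F) : ∑ x : Perm (Fin 4), f (kap x) = f 0 + 3 * f 1 + 6 * f 2 + 8 * f 3 + 6 * f 4 := by
  rw [← Finset.sum_fiberwise_of_maps_to (g := kap) (t := Finset.univ) (fun _ _ => Finset.mem_univ _)]
  have h1 : ∀ k : Fin 5, ∑ x ∈ Finset.univ.filter (fun x : Perm (Fin 4) => kap x = k), f (kap x) =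
      ((![1, 3, 6, 8, 6] k : ℕ) : F) * f k := by
    intro k
    rw [Finset.sum_congr rfl (g := fun _ => f k) (fun x hx => by rw [(Finset.mem_filter.1 hx).2]), Finset.sum_const,
      kap_card, nsmul_eq_mul]
  rw [Finset.sum_congr rfl (fun k _ => h1 k), Fin.sum_univ_five]
  simp

theorem sum_triv [Finite G] (h : Cov m φ) (hc : Nat.card φ.ker = 3) {ψ : Perm (Fin 4) →* G} (hψ : ∀ x, φ (ψ x) = eps x) :
    ∑ x, ((((1 : Perm (Fin 4) →* ℤˣ) x : ℤˣ) : ℤ) : F) * tr (m (ψ x)) =
      (Fintype.card ι : F) + 9 * tr (m (ψ (_root_.Equiv.swap (0 : Fin 4) 1))) + 6 * tr (m (ψ c[(0 : Fin 4), 2, 1, 3])) := by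
  rw [Finset.sum_congr rfl (fun x _ => by rw [traces h hc hψ x])]
  simp only [MonoidHom.one_apply, Units.val_one, Int.cast_one, one_mul]
  rw [sum_kap]
  simp only [_root_.Nat.succ_eq_add_one, _root_.Nat.reduceAdd, _root_.Fin.isValue, _root_.Matrix.cons_val_zero, _root_.Matrix.cons_val_one, _root_.Matrix.cons_val, _root_.MulZeroClass.mul_zero, _root_.add_zero, _root_.add_left_inj]
  ring

theorem sign_kap : ∀ x : Perm (Fin 4), Perm.sign x = ![1, 1, -1, 1, -1] (kap x) := by (delta Cfsg.Agent.H269.ThreeA6.kap; set_option synthInstance.maxSize 9000 in open scoped Cfsg.Agent.Lib.FastPerm in (simp only [Cfsg.Agent.Lib.FastPerm.sw_dec, Cfsg.Agent.Lib.FastPerm.sw_ite, Cfsg.Agent.Lib.FastPerm.sw_beq, Cfsg.Agent.Lib.FastPerm.sw_bne]; decide +kernel))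

theorem sum_sign [Finite G] (h : Cov m φ) (hc : Nat.card φ.ker = 3) {ψ : Perm (Fin 4) →* G} (hψ : ∀ x, φ (ψ x) = eps x) :
    ∑ x, (((Perm.sign x : ℤˣ) : ℤ) : F) * tr (m (ψ x)) =
      (Fintype.card ι : F) - 3 * tr (m (ψ (_root_.Equiv.swap (0 : Fin 4) 1))) - 6 * tr (m (ψ c[(0 : Fin 4), 2, 1, 3])) := by
  rw [Finset.sum_congr rfl (fun x _ => by rw [traces h hc hψ x, sign_kap x])]
  rw [sum_kap (fun k => (((![1, 1, -1, 1, -1] k : ℤˣ) : ℤ) : F) * ![(Fintype.card ι : F), tr (m (ψ (_root_.Equiv.swap (0 : Fin 4) 1))), tr (m (ψ (_root_.Equiv.swap (0 : Fin 4) 1))), 0,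
      tr (m (ψ c[(0 : Fin 4), 2, 1, 3]))] k)]
  simp only [_root_.Nat.succ_eq_add_one, _root_.Nat.reduceAdd, _root_.Fin.isValue, _root_.Matrix.cons_val_zero, _root_.Units.val_one, _root_.Int.cast_one, _root_.one_mul, _root_.Matrix.cons_val_one, _root_.Matrix.cons_val, _root_.Units.val_neg, _root_.Int.reduceNeg, _root_.Int.cast_neg, _root_.neg_mul, _root_.mul_neg, _root_.MulZeroClass.mul_zero, _root_.add_zero]
  ring

/-- the dihedral group of order 8 -/
def D8 : Subgroup (Perm (Fin 4)) where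
  carrier := {x | x * (_root_.Equiv.swap (0 : Fin 4) 1 * swap (2 : Fin 4) 3) = (_root_.Equiv.swap (0 : Fin 4) 1 * swap (2 : Fin 4) 3) * x}
  mul_mem' := by
    intro a b ha hb
    show a * b * (_root_.Equiv.swap (0 : Fin 4) 1 * swap (2 : Fin 4) 3) = (_root_.Equiv.swap (0 : Fin 4) 1 * swap (2 : Fin 4) 3) * (a * b)
    rw [mul_assoc, show b * (_root_.Equiv.swap (0 : Fin 4) 1 * swap (2 : Fin 4) 3) = (_root_.Equiv.swap (0 : Fin 4) 1 * swap (2 : Fin 4) 3) * b from hb, ← mul_assoc,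
      show a * (_root_.Equiv.swap (0 : Fin 4) 1 * swap (2 : Fin 4) 3) = (_root_.Equiv.swap (0 : Fin 4) 1 * swap (2 : Fin 4) 3) * a from ha, mul_assoc]
  one_mem' := by
    show 1 * (_root_.Equiv.swap (0 : Fin 4) 1 * swap (2 : Fin 4) 3) = (_root_.Equiv.swap (0 : Fin 4) 1 * swap (2 : Fin 4) 3) * 1
    rw [one_mul, mul_one]
  inv_mem' := by
    intro a ha
    show a⁻¹ * (_root_.Equiv.swap (0 : Fin 4) 1 * swap (2 : Fin 4) 3) = (_root_.Equiv.swap (0 : Fin 4) 1 * swap (2 : Fin 4) 3) * a⁻¹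
    rw [inv_mul_eq_iff_eq_mul, ← mul_assoc, eq_mul_inv_iff_mul_eq]
    exact (show a * (_root_.Equiv.swap (0 : Fin 4) 1 * swap (2 : Fin 4) 3) = (_root_.Equiv.swap (0 : Fin 4) 1 * swap (2 : Fin 4) 3) * a from ha).symm

instance : DecidablePred (· ∈ D8) := fun x => decEq (x * (_root_.Equiv.swap (0 : Fin 4) 1 * swap (2 : Fin 4) 3)) ((_root_.Equiv.swap (0 : Fin 4) 1 * swap (2 : Fin 4) 3) * x)

theorem card_D8 : Fintype.card D8 = 8 := by (set_option synthInstance.maxSize 9000 in open scoped Cfsg.Agent.Lib.FastPerm in decide +kernel)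

/-- the linear character with `C ↦ 1`, reflections `↦ -1` -/
def chi3 : D8 →* ℤˣ where
  toFun x := if (x : Perm (Fin 4)) * c[(0 : Fin 4), 2, 1, 3] = c[(0 : Fin 4), 2, 1, 3] * (x : Perm (Fin 4)) then 1 else -1
  map_one' := by decide
  map_mul' := by (set_option synthInstance.maxSize 9000 in open scoped Cfsg.Agent.Lib.FastPerm in (simp only [Cfsg.Agent.Lib.FastPerm.sw_dec, Cfsg.Agent.Lib.FastPerm.sw_ite, Cfsg.Agent.Lib.FastPerm.sw_beq, Cfsg.Agent.Lib.FastPerm.sw_bne]; decide +kernel))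

/-- classes of `D8` -/
def kap3 (x : D8) : Fin 4 :=
  if (x : Perm (Fin 4)) = 1 then 0 else if (x : Perm (Fin 4)) = _root_.Equiv.swap (0 : Fin 4) 1 * swap (2 : Fin 4) 3 then 1 else
    if (x : Perm (Fin 4)) * x = 1 then 2 else 3

theorem kap3_card : ∀ k : Fin 4, (Finset.univ.filter fun x : D8 => kap3 x = k).card = ![1, 1, 4, 2] k := by
  (delta Cfsg.Agent.H269.ThreeA6.kap3; set_option synthInstance.maxSize 9000 in open scoped Cfsg.Agent.Lib.FastPerm in (simp only [Cfsg.Agent.Lib.FastPerm.sw_dec, Cfsg.Agent.Lib.FastPerm.sw_ite, Cfsg.Agent.Lib.FastPerm.sw_beq, Cfsg.Agent.Lib.FastPerm.sw_bne]; decide +kernel))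

theorem chi3_kap : ∀ x : D8, chi3 x = ![1, 1, -1, 1] (kap3 x) := by (delta Cfsg.Agent.H269.ThreeA6.chi3 Cfsg.Agent.H269.ThreeA6.kap3; set_option synthInstance.maxSize 9000 in open scoped Cfsg.Agent.Lib.FastPerm in (simp only [Cfsg.Agent.Lib.FastPerm.sw_dec, Cfsg.Agent.Lib.FastPerm.sw_ite, Cfsg.Agent.Lib.FastPerm.sw_beq, Cfsg.Agent.Lib.FastPerm.sw_bne]; decide +kernel))

theorem kap_kap3 : ∀ x : D8, (kap3 x = 0 → kap x = 0) ∧ (kap3 x = 1 → kap x = 1) ∧ (kap3 x = 2 → kap x = 1 ∨ kap x = 2) ∧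
    (kap3 x = 3 → kap x = 4) := by (delta Cfsg.Agent.H269.ThreeA6.kap Cfsg.Agent.H269.ThreeA6.kap3; set_option synthInstance.maxSize 9000 in open scoped Cfsg.Agent.Lib.FastPerm in (simp only [Cfsg.Agent.Lib.FastPerm.sw_dec, Cfsg.Agent.Lib.FastPerm.sw_ite, Cfsg.Agent.Lib.FastPerm.sw_beq, Cfsg.Agent.Lib.FastPerm.sw_bne]; decide +kernel))

theorem sum_D8 [Finite G] (h : Cov m φ) (hc : Nat.card φ.ker = 3) {ψ : Perm (Fin 4) →* G} (hψ : ∀ x, φ (ψ x) = eps x) :
    ∑ x : D8, (((chi3 x : ℤˣ) : ℤ) : F) * tr (m ((ψ.comp D8.subtype) x)) =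
      (Fintype.card ι : F) - 3 * tr (m (ψ (_root_.Equiv.swap (0 : Fin 4) 1))) + 2 * tr (m (ψ c[(0 : Fin 4), 2, 1, 3])) := by
  have h0 : ∀ x : D8, tr (m ((ψ.comp D8.subtype) x)) = ![(Fintype.card ι : F), tr (m (ψ (_root_.Equiv.swap (0 : Fin 4) 1))), tr (m (ψ (_root_.Equiv.swap (0 : Fin 4) 1))),
      tr (m (ψ c[(0 : Fin 4), 2, 1, 3]))] (kap3 x) := by
    intro x
    show tr (m (ψ (x : Perm (Fin 4)))) = _
    rw [traces h hc hψ]
    obtain ⟨h1, h2, h3, h4⟩ := kap_kap3 x
    obtain ⟨k, hk⟩ : ∃ k, k = kap3 x := ⟨_, rfl⟩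
    rw [← hk] at h1 h2 h3 h4 ⊢
    fin_cases k
    · rw [h1 rfl]; rfl
    · rw [h2 rfl]; rfl
    · rcases h3 rfl with h5 | h5 <;> rw [h5] <;> rfl
    · rw [h4 rfl]; rfl
  rw [Finset.sum_congr rfl (fun x _ => by rw [h0 x, chi3_kap x])]
  rw [← Finset.sum_fiberwise_of_maps_to (g := kap3) (t := Finset.univ) (fun _ _ => Finset.mem_univ _)]
  obtain ⟨f, hf⟩ : ∃ f : Fin 4 → F, f = fun k => (((![1, 1, -1, 1] k : ℤˣ) : ℤ) : F) * ![(Fintype.card ι : F), tr (m (ψ (_root_.Equiv.swap (0 : Fin 4) 1))), tr (m (ψ (_root_.Equiv.swap (0 : Fin 4) 1))),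
      tr (m (ψ c[(0 : Fin 4), 2, 1, 3]))] k := ⟨_, rfl⟩
  have h1 : ∀ k : Fin 4, ∑ x ∈ Finset.univ.filter (fun x : D8 => kap3 x = k), (((![1, 1, -1, 1] (kap3 x) : ℤˣ) : ℤ) : F) *
      ![(Fintype.card ι : F), tr (m (ψ (_root_.Equiv.swap (0 : Fin 4) 1))), tr (m (ψ (_root_.Equiv.swap (0 : Fin 4) 1))), tr (m (ψ c[(0 : Fin 4), 2, 1, 3]))] (kap3 x) =
      ((![1, 1, 4, 2] k : ℕ) : F) * f k := by
    intro k
    rw [Finset.sum_congr rfl (g := fun _ => f k) (fun x hx => by rw [(Finset.mem_filter.1 hx).2, hf]), Finset.sum_const,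
      kap3_card, nsmul_eq_mul]
  rw [Finset.sum_congr rfl (fun k _ => h1 k), Fin.sum_univ_four, hf]
  simp only [_root_.Nat.succ_eq_add_one, _root_.Nat.reduceAdd, _root_.Fin.isValue, _root_.Matrix.cons_val_zero, _root_.Nat.cast_one, _root_.Units.val_one, _root_.Int.cast_one, _root_.one_mul, _root_.Matrix.cons_val_one, _root_.Matrix.cons_val, _root_.Nat.cast_ofNat, _root_.Units.val_neg, _root_.Int.reduceNeg, _root_.Int.cast_neg, _root_.neg_mul, _root_.mul_neg, _root_.add_left_inj]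
  ring

end Cfsg.Agent.H269.ThreeA6
end

-- part: H269/ThreeA6/Sign
section
/-!
# Multiplicities of the linear characters; no sign vector
-/

set_option autoImplicit false
set_option linter.unusedSectionVars false

universe u v

namespace Cfsg.Agent.H269.ThreeA6

open Cfsg Cfsg.Geo Matrix Equiv Cfsg.Agent.H915.LD Cfsg.Agent.H930.Six

variable {ι : Type} [Fintype ι] [DecidableEq ι] {F : Type u} [Field F] {G : Type v} [Group G]
variable {m : G →* GL ι F} {φ : G →* Perm (Fin 6)}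

/-- elements over the range of `eps` -/
theorem exists_scal_psi (h : Cov m φ) {ψ : Perm (Fin 4) →* G} (hψ : ∀ x, φ (ψ x) = eps x) {y : G} {x : Perm (Fin 4)}
    (hy : φ y = eps x) : ∃ (k : G) (c : F), φ k = 1 ∧ y = k * ψ x ∧ (m k : Matrix ι ι F) = c • (1 : Matrix ι ι F) ∧
      (m y : Matrix ι ι F) = c • (m (ψ x) : Matrix ι ι F) := by
  have hk : φ (y * (ψ x)⁻¹) = 1 := by rw [map_mul, map_inv, hy, hψ, mul_inv_cancel]
  obtain ⟨c, hc⟩ := h.scal hk
  refine ⟨y * (ψ x)⁻¹, c, hk, by group, hc, ?_⟩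
  have h1 : m y = m (y * (ψ x)⁻¹) * m (ψ x) := by rw [← map_mul]; congr 1; group
  rw [h1, Units.val_mul, hc, Matrix.smul_mul, one_mul]

/-- **Lemma B for the sign characters.** -/
theorem bound [Finite G] (h : Cov m φ) {ψ : Perm (Fin 4) →* G} (hψ : ∀ x, φ (ψ x) = eps x)
    {H : Type} [Group H] (θ : H →* Perm (Fin 4)) (χ : H →* ℤˣ) (E : Submodule F (ι → F))
    (hE : ∀ v, v ∈ E ↔ ∀ x, (m ((ψ.comp θ) x) : Matrix ι ι F) *ᵥ v = (((χ x : ℤˣ) : ℤ) : F) • v) :
    Module.finrank F E * Fintype.card ι ≤ ((eps.comp θ).range).relIndex (alternatingGroup (Fin 6)) := by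
  classical
  rw [← h.index_comap]
  have h1 : ∀ y : G, ∃ s : F, y ∈ ((eps.comp θ).range).comap φ → ∀ v ∈ E, (m y : Matrix ι ι F) *ᵥ v = s • v := by
    intro y
    by_cases hy : y ∈ ((eps.comp θ).range).comap φ
    · obtain ⟨x, hx⟩ := hy
      obtain ⟨k, c, -, -, -, hc⟩ := exists_scal_psi h hψ (x := θ x) hx.symm
      refine ⟨c * (((χ x : ℤˣ) : ℤ) : F), fun _ v hv => ?_⟩
      have h2 := (hE v).1 hv x
      rw [hc, Matrix.smul_mulVec, mul_smul]
      congr 1
    · exact ⟨0, fun h2 => absurd h2 hy⟩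
  choose s hs using h1
  exact h.lemmaB _ s E (fun y hy v hv => hs y hy v hv)

theorem relIndex_of_card {T : Subgroup (Perm (Fin 6))} {n k : ℕ} (hT : T ≤ alternatingGroup (Fin 6))
    (hn : Nat.card T = n) (hk : n * k = 360) : T.relIndex (alternatingGroup (Fin 6)) = k := by
  have h1 := (T.subgroupOf (alternatingGroup (Fin 6))).card_mul_index
  rw [Nat.card_congr (Subgroup.subgroupOfEquivOfLe hT).toEquiv, hn, card_alt6] at h1
  change n * T.relIndex (alternatingGroup (Fin 6)) = 360 at h1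
  have hn0 : 0 < n := by
    rcases Nat.eq_zero_or_pos n with h0 | h0
    · rw [h0, zero_mul] at hk; omega
    · exact h0
  exact Nat.eq_of_mul_eq_mul_left hn0 (h1.trans hk.symm)

theorem range_le {H : Type} [Group H] (θ : H →* Perm (Fin 4)) : (eps.comp θ).range ≤ alternatingGroup (Fin 6) := by
  rintro _ ⟨x, rfl⟩
  exact eps_mem _

theorem relIndex_full : ((eps.comp (MonoidHom.id (Perm (Fin 4)))).range).relIndex (alternatingGroup (Fin 6)) = 15 := by
  refine relIndex_of_card (range_le _) (n := 24) ?_ rfl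
  rw [Nat.card_congr (MonoidHom.ofInjective (f := eps.comp (MonoidHom.id (Perm (Fin 4)))) eps_injective).symm.toEquiv,
    Nat.card_eq_fintype_card]
  decide

theorem relIndex_D8 : ((eps.comp D8.subtype).range).relIndex (alternatingGroup (Fin 6)) = 45 := by
  refine relIndex_of_card (range_le _) (n := 8) ?_ rfl
  rw [Nat.card_congr (MonoidHom.ofInjective (f := eps.comp D8.subtype)
    (eps_injective.comp Subtype.val_injective)).symm.toEquiv, Nat.card_eq_fintype_card, card_D8]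

theorem cast_ne_zero {p : ℕ} [Fact p.Prime] [CharP F p] {n : ℕ} (h : ¬ p ∣ n) : (n : F) ≠ 0 := fun h1 =>
  h ((CharP.cast_eq_zero_iff F p n).1 h1)

theorem prime_not_dvd {p : ℕ} (hp : p.Prime) (h5 : 5 ≤ p) (a b : ℕ) : ¬ p ∣ 2 ^ a * 3 ^ b := by
  intro h
  rcases hp.dvd_mul.1 h with h1 | h1
  · have := Nat.le_of_dvd (by norm_num) (hp.dvd_of_dvd_pow h1)
    omega
  · have := Nat.le_of_dvd (by norm_num) (hp.dvd_of_dvd_pow h1)
    omega

/-- **The multiplicities.** Either the sign character or the trivial character occurs (and in the second case the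
trace of the involutions vanishes). -/
theorem cases [Finite G] (h : Cov m φ) (p : ℕ) [hp : Fact p.Prime] [CharP F p] (hp5 : 5 ≤ p) (hc : Nat.card φ.ker = 3)
    (hn : Fintype.card ι = 12) {ψ : Perm (Fin 4) →* G} (hψ : ∀ x, φ (ψ x) = eps x) :
    (∃ v : ι → F, v ≠ 0 ∧ ∀ x, (m (ψ x) : Matrix ι ι F) *ᵥ v = (((Perm.sign x : ℤˣ) : ℤ) : F) • v) ∨
    ((∃ v : ι → F, v ≠ 0 ∧ ∀ x, (m (ψ x) : Matrix ι ι F) *ᵥ v = v) ∧ tr (m (ψ (_root_.Equiv.swap (0 : Fin 4) 1))) = 0) := by
  have c24 : (Fintype.card (Perm (Fin 4)) : F) = 24 := by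
    rw [show Fintype.card (Perm (Fin 4)) = 24 by decide]; norm_num
  have n24 : (24 : F) ≠ 0 := by
    have := cast_ne_zero (F := F) (p := p) (n := 24) (prime_not_dvd hp.out hp5 3 1)
    exact_mod_cast this
  have n8 : (8 : F) ≠ 0 := by
    have := cast_ne_zero (F := F) (p := p) (n := 8) (prime_not_dvd hp.out hp5 3 0)
    exact_mod_cast this
  have n6 : (6 : F) ≠ 0 := by
    have := cast_ne_zero (F := F) (p := p) (n := 6) (prime_not_dvd hp.out hp5 1 1)
    exact_mod_cast this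
  obtain ⟨E1, hE1, hs1⟩ := exists_space (F := F) ψ 1 (by rw [c24]; exact n24) m
  obtain ⟨E2, hE2, hs2⟩ := exists_space (F := F) ψ Perm.sign (by rw [c24]; exact n24) m
  obtain ⟨E3, hE3, hs3⟩ := exists_space (F := F) (ψ.comp D8.subtype) chi3 (by rw [card_D8]; exact_mod_cast n8) m
  rw [sum_triv h hc hψ, c24, hn] at hs1
  rw [sum_sign h hc hψ, c24, hn] at hs2
  rw [sum_D8 h hc hψ, card_D8, hn] at hs3
  have b1 := bound h hψ (MonoidHom.id (Perm (Fin 4))) 1 E1 hE1
  have b2 := bound h hψ (MonoidHom.id (Perm (Fin 4))) Perm.sign E2 hE2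
  have b3 := bound h hψ D8.subtype chi3 E3 hE3
  rw [relIndex_full, hn] at b1 b2
  rw [relIndex_D8, hn] at b3
  have e1 : Module.finrank F E1 = 0 ∨ Module.finrank F E1 = 1 := by omega
  have e2 : Module.finrank F E2 = 0 ∨ Module.finrank F E2 = 1 := by omega
  have e3 : Module.finrank F E3 ≤ 3 := by omega
  obtain ⟨j, hj⟩ : ∃ j, j = tr (m (ψ (_root_.Equiv.swap (0 : Fin 4) 1))) := ⟨_, rfl⟩
  obtain ⟨c, hcc⟩ : ∃ c, c = tr (m (ψ c[(0 : Fin 4), 2, 1, 3])) := ⟨_, rfl⟩
  obtain ⟨r, hr⟩ : ∃ r, r = Module.finrank F E3 := ⟨_, rfl⟩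
  rw [← hj] at hs1 hs2 hs3 ⊢
  rw [← hcc] at hs1 hs2 hs3
  rw [← hr] at hs3 e3
  have hvec : ∀ E : Submodule F (ι → F), Module.finrank F E = 1 → ∃ v ∈ E, v ≠ 0 := by
    intro E hE
    have h1 : E ≠ ⊥ := by
      rintro rfl
      rw [finrank_bot] at hE
      omega
    obtain ⟨v, hv, hv0⟩ := Submodule.exists_mem_ne_zero_of_ne_bot h1
    exact ⟨v, hv, hv0⟩
  push_cast at hs1 hs2 hs3
  rcases e2 with e2 | e2
  · rw [e2] at hs2
    rcases e1 with e1 | e1
    · -- (0, 0)
      exfalso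
      rw [e1] at hs1
      have hj4 : j = -4 := by
        have : (6 : F) * (j + 4) = 0 := by push_cast at hs1 hs2; linear_combination -hs1 - hs2
        exact eq_neg_of_add_eq_zero_left ((mul_eq_zero.1 this).resolve_left n6)
      have hc4 : c = 4 := by
        have : (6 : F) * (c - 4) = 0 := by push_cast at hs1 hs2; rw [hj4] at hs1; linear_combination -hs1
        exact sub_eq_zero.1 ((mul_eq_zero.1 this).resolve_left n6)
      have h8 : ((4 - r : ℕ) : F) = 0 := by
        rw [Nat.cast_sub (by omega)]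
        have : (8 : F) * (((4 : ℕ) : F) - (r : F)) = 0 := by
          rw [hj4, hc4] at hs3
          push_cast
          linear_combination -hs3
        exact (mul_eq_zero.1 this).resolve_left n8
      refine cast_ne_zero (F := F) (p := p) (fun h9 => ?_) h8
      have := Nat.le_of_dvd (by omega) h9
      omega
    · -- (1, 0)
      right
      rw [e1] at hs1
      have hj0 : j = 0 := by
        have : (6 : F) * j = 0 := by push_cast at hs1 hs2; linear_combination -hs1 - hs2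
        exact (mul_eq_zero.1 this).resolve_left n6
      obtain ⟨v, hv, hv0⟩ := hvec E1 e1
      refine ⟨⟨v, hv0, fun x => ?_⟩, hj0⟩
      have := (hE1 v).1 hv x
      simpa using this
  · left
    obtain ⟨v, hv, hv0⟩ := hvec E2 e2
    exact ⟨v, hv0, (hE2 v).1 hv⟩

/-! ### double cosets -/

def pi1 : Perm (Fin 6) := _root_.Equiv.swap (0 : Fin 6) 4 * _root_.Equiv.swap (1 : Fin 6) 5

def pi2 : Perm (Fin 6) := c[(3 : Fin 6), 4, 5]

theorem pi_cases : ∀ a b : Fin 6, a ≠ b → ((a = 4 ∨ a = 5) ∧ (b = 4 ∨ b = 5)) ∨ ∃ x : Perm (Fin 4),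
    (((eps x * pi1)⁻¹ a = 4 ∨ (eps x * pi1)⁻¹ a = 5) ∧ ((eps x * pi1)⁻¹ b = 4 ∨ (eps x * pi1)⁻¹ b = 5)) ∨
    (((eps x * pi2)⁻¹ a = 4 ∨ (eps x * pi2)⁻¹ a = 5) ∧ ((eps x * pi2)⁻¹ b = 4 ∨ (eps x * pi2)⁻¹ b = 5)) := by
  (set_option synthInstance.maxSize 9000 in open scoped Cfsg.Agent.Lib.FastPerm in decide +kernel)

theorem pi1_mem : pi1 ∈ alternatingGroup (Fin 6) := Perm.mem_alternatingGroup.2 (by decide)

theorem pi2_mem : pi2 ∈ alternatingGroup (Fin 6) := Perm.mem_alternatingGroup.2 (by decide)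

theorem double_coset {r : Perm (Fin 6)} (hr : r ∈ alternatingGroup (Fin 6)) (hne : ∀ x, eps x ≠ r) :
    ∃ x y : Perm (Fin 4), r = eps x * pi1 * eps y ∨ r = eps x * pi2 * eps y := by
  have key : ∀ s : Perm (Fin 6), s ∈ alternatingGroup (Fin 6) → ((s⁻¹ (r 4) = 4 ∨ s⁻¹ (r 4) = 5) ∧
      (s⁻¹ (r 5) = 4 ∨ s⁻¹ (r 5) = 5)) → ∃ y, r = s * eps y := by
    intro s hs hh
    obtain ⟨y, hy⟩ := exists_eps (r := s⁻¹ * r) (mul_mem (inv_mem hs) hr) hh.1 hh.2
    exact ⟨y, by rw [hy]; group⟩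
  rcases pi_cases (r 4) (r 5) (fun h => by have := r.injective h; revert this; decide) with h1 | ⟨x, h1 | h1⟩
  · exfalso
    obtain ⟨x, hx⟩ := exists_eps hr h1.1 h1.2
    exact hne x hx
  · obtain ⟨y, hy⟩ := key (eps x * pi1) (mul_mem (eps_mem x) pi1_mem) h1
    exact ⟨x, y, Or.inl hy⟩
  · obtain ⟨y, hy⟩ := key (eps x * pi2) (mul_mem (eps_mem x) pi2_mem) h1
    exact ⟨x, y, Or.inr hy⟩

/-- **No sign vector.** -/
theorem no_sign [Finite G] (h : Cov m φ) (p : ℕ) [hp : Fact p.Prime] [CharP F p] (hp5 : 5 ≤ p) (hc : Nat.card φ.ker = 3)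
    (hn : Fintype.card ι = 12) {ψ : Perm (Fin 4) →* G} (hψ : ∀ x, φ (ψ x) = eps x) {v : ι → F} (hv0 : v ≠ 0)
    (hv : ∀ x, (m (ψ x) : Matrix ι ι F) *ᵥ v = (((Perm.sign x : ℤˣ) : ℤ) : F) • v) : False := by
  classical
  have h2 : (2 : F) ≠ 0 := by
    have := cast_ne_zero (F := F) (p := p) (n := 2) (prime_not_dvd hp.out hp5 1 0)
    exact_mod_cast this
  have hne1 : (-1 : F) ≠ 1 := by
    intro h1
    apply h2
    have : (1 : F) + 1 = 0 := by nth_rewrite 1 [← h1]; ring
    rw [← this]; norm_num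
  obtain ⟨Y, hY⟩ : ∃ Y : Subgroup G, Y = ((eps.comp (MonoidHom.id (Perm (Fin 4)))).range).comap φ := ⟨_, rfl⟩
  have hYmem : ∀ y, y ∈ Y ↔ ∃ x, eps x = φ y := by
    intro y; rw [hY]; exact Iff.rfl
  have hYi : Y.index = 15 := by rw [hY, h.index_comap, relIndex_full]
  have h1 : ∀ y : G, ∃ s : F, y ∈ Y → (m y : Matrix ι ι F) *ᵥ v = s • v := by
    intro y
    by_cases hy : y ∈ Y
    · obtain ⟨x, hx⟩ := (hYmem y).1 hy
      obtain ⟨k, c, -, -, -, hc⟩ := exists_scal_psi h hψ (x := x) hx.symm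
      refine ⟨c * (((Perm.sign x : ℤˣ) : ℤ) : F), fun _ => ?_⟩
      rw [hc, Matrix.smul_mulVec, mul_smul, hv]
    · exact ⟨0, fun h2 => absurd h2 hy⟩
  choose χ hχ using h1
  have huniq : ∀ y ∈ Y, ∀ c : F, (m y : Matrix ι ι F) *ᵥ v = c • v → χ y = c := by
    intro y hy c hcy
    have h3 := hχ y hy
    rw [hcy] at h3
    have h4 : (c - χ y) • v = 0 := by rw [sub_smul, h3, sub_self]
    exact (sub_eq_zero.1 ((smul_eq_zero.1 h4).resolve_right hv0)).symm
  have hψY : ∀ x, ψ x ∈ Y := fun x => (hYmem _).2 ⟨x, (hψ x).symm⟩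
  have hχψ : ∀ x, χ (ψ x) = (((Perm.sign x : ℤˣ) : ℤ) : F) := fun x => huniq _ (hψY x) _ (hv x)
  have hmul : ∀ a ∈ Y, ∀ b ∈ Y, χ (a * b) = χ a * χ b := by
    intro a ha b hb
    apply huniq _ (mul_mem ha hb)
    rw [map_mul, Units.val_mul, ← Matrix.mulVec_mulVec, hχ b hb, Matrix.mulVec_smul, hχ a ha, smul_smul, mul_comm]
  have hone : χ 1 = 1 := by
    apply huniq _ (one_mem _)
    rw [map_one, Units.val_one, Matrix.one_mulVec, one_smul]
  have hconj : ∀ s ∈ Y, ∀ y ∈ Y, χ (s * y * s⁻¹) = χ y := by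
    intro s hs y hy
    have h3 : χ s * χ s⁻¹ = 1 := by rw [← hmul s hs _ (inv_mem hs), mul_inv_cancel, hone]
    rw [hmul _ (mul_mem hs hy) _ (inv_mem hs), hmul s hs y hy]
    calc χ s * χ y * χ s⁻¹ = χ y * (χ s * χ s⁻¹) := by ring
      _ = χ y := by rw [h3, mul_one]
  have hcardY : (Nat.card Y : F) ≠ 0 := by
    have h3 := Y.card_mul_index
    rw [hYi] at h3
    have h4 : Nat.card G = 3 * 360 := by
      have h5 := φ.ker.card_mul_index
      rw [hc, Subgroup.index_ker, h.range, card_alt6] at h5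
      exact h5.symm
    rw [h4] at h3
    have h5 : Nat.card Y = 2 ^ 3 * 3 ^ 2 := by omega
    rw [h5]
    exact cast_ne_zero (F := F) (p := p) (prime_not_dvd hp.out hp5 3 2)
  have hfin := lemmaH (m := m) Y χ hv0 hcardY hχ ?_
  · rw [hYi, hn] at hfin
    omega
  -- the condition on the double cosets
  have hinv : ∀ g s s' : G, s ∈ Y → s' ∈ Y → (∃ y ∈ Y, g⁻¹ * y * g ∈ Y ∧ χ y ≠ χ (g⁻¹ * y * g)) →
      ∃ y ∈ Y, (s * g * s')⁻¹ * y * (s * g * s') ∈ Y ∧ χ y ≠ χ ((s * g * s')⁻¹ * y * (s * g * s')) := by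
    rintro g s s' hs hs' ⟨y, hy, hy1, hy2⟩
    refine ⟨s * y * s⁻¹, mul_mem (mul_mem hs hy) (inv_mem hs), ?_, ?_⟩
    · have e : (s * g * s')⁻¹ * (s * y * s⁻¹) * (s * g * s') = s'⁻¹ * (g⁻¹ * y * g) * s'⁻¹⁻¹ := by group
      rw [e]
      exact mul_mem (mul_mem (inv_mem hs') hy1) (inv_mem (inv_mem hs'))
    · have e : (s * g * s')⁻¹ * (s * y * s⁻¹) * (s * g * s') = s'⁻¹ * (g⁻¹ * y * g) * s'⁻¹⁻¹ := by group
      rw [e, hconj s hs y hy, hconj _ (inv_mem hs') _ hy1]
      exact hy2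
  have hp1 : ∀ g, φ g = pi1 → ∃ y ∈ Y, g⁻¹ * y * g ∈ Y ∧ χ y ≠ χ (g⁻¹ * y * g) := by
    intro g hg
    have e : g⁻¹ * ψ (swap 2 3) * g⁻¹⁻¹ = ψ (_root_.Equiv.swap 0 1 * swap 2 3) := by
      refine h.inv_conj hc ?_ ?_ ?_
      · rw [← map_mul, show (swap 2 3 : Perm (Fin 4)) * swap 2 3 = 1 by decide, map_one]
      · rw [← map_mul, show (_root_.Equiv.swap 0 1 * swap 2 3 : Perm (Fin 4)) * (_root_.Equiv.swap 0 1 * swap 2 3) = 1 by decide, map_one]
      · rw [map_inv, hg, hψ, hψ]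
        decide
    rw [inv_inv] at e
    refine ⟨ψ (swap 2 3), hψY _, ?_, ?_⟩
    · rw [e]; exact hψY _
    · rw [e, hχψ, hχψ, show Perm.sign (swap 2 3 : Perm (Fin 4)) = -1 by decide,
        show Perm.sign (_root_.Equiv.swap 0 1 * swap 2 3 : Perm (Fin 4)) = 1 by decide]
      simpa using hne1
  have hp2 : ∀ g, φ g = pi2 → ∃ y ∈ Y, g⁻¹ * y * g ∈ Y ∧ χ y ≠ χ (g⁻¹ * y * g) := by
    intro g hg
    have hy : φ (ψ c[0, 1, 2]) = c[0, 1, 2] := by rw [hψ]; decide
    have hnc := h.nc (by rw [hc]) hy hg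
    obtain ⟨k, hk⟩ : ∃ k, k = g⁻¹ * ψ c[0, 1, 2] * g * (ψ c[0, 1, 2])⁻¹ := ⟨_, rfl⟩
    have hk1 : φ k = 1 := by
      rw [hk, map_mul, map_mul, map_mul, map_inv, map_inv, hy, hg]
      decide
    have hkne : k ≠ 1 := by
      intro h3
      apply hnc
      rw [hk, mul_inv_eq_one, mul_assoc, inv_mul_eq_iff_eq_mul] at h3
      exact h3
    have hkY : k ∈ Y := (hYmem _).2 ⟨1, by rw [map_one, hk1]⟩
    have e : g⁻¹ * ψ c[0, 1, 2] * g = k * ψ c[0, 1, 2] := by rw [hk]; group
    refine ⟨ψ c[0, 1, 2], hψY _, ?_, ?_⟩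
    · rw [e]; exact mul_mem hkY (hψY _)
    · rw [e, hmul _ hkY _ (hψY _), hχψ, show Perm.sign (c[0, 1, 2] : Perm (Fin 4)) = 1 by decide]
      intro h3
      obtain ⟨c, hcc⟩ := h.scal hk1
      have h4 : χ k = (c : F) := by
        apply huniq _ hkY
        rw [hcc, Matrix.smul_mulVec, Matrix.one_mulVec]
      rw [h4] at h3
      have h5 : (c : F) = 1 := by simpa using h3.symm
      rw [h5] at hcc
      exact hkne (h.eq_one_of_scal hcc)
  intro g hg
  have hgne : ∀ x, eps x ≠ φ g := fun x hx => hg ((hYmem g).2 ⟨x, hx⟩)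
  obtain ⟨x, y, hxy⟩ := double_coset (h.sign g) hgne
  obtain ⟨g', hg'⟩ : ∃ g', g' = (ψ x)⁻¹ * g * (ψ y)⁻¹ := ⟨_, rfl⟩
  have e : g = ψ x * g' * ψ y := by rw [hg']; group
  rw [e]
  apply hinv _ _ _ (hψY x) (hψY y)
  rcases hxy with hxy | hxy
  · apply hp1
    rw [hg', map_mul, map_mul, map_inv, map_inv, hψ, hψ, hxy]; group
  · apply hp2
    rw [hg', map_mul, map_mul, map_inv, map_inv, hψ, hψ, hxy]; group

end Cfsg.Agent.H269.ThreeA6
end

-- part: H269/ThreeA6/Triv
section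
/-!
# No vector fixed by the complement: the relation module of the 15 translates
-/

set_option autoImplicit false
set_option linter.unusedSectionVars false

universe u v

namespace Cfsg.Agent.H269.ThreeA6

open Cfsg Cfsg.Geo Matrix Equiv Cfsg.Agent.H915.LD Cfsg.Agent.H930.Six
open scoped commutatorElement

/-- the duads -/
abbrev Duad := {d : Finset (Fin 6) // d.card = 2}

def act (s : Perm (Fin 6)) (d : Duad) : Duad := ⟨d.1.map s.toEmbedding, by rw [Finset.card_map]; exact d.2⟩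

theorem act_one (d : Duad) : act 1 d = d := by
  apply Subtype.ext
  exact Finset.map_refl

theorem act_mul (s t : Perm (Fin 6)) (d : Duad) : act (s * t) d = act s (act t d) := by
  apply Subtype.ext
  show d.1.map (s * t).toEmbedding = (d.1.map t.toEmbedding).map s.toEmbedding
  rw [Finset.map_map]
  rfl

def d0 : Duad := ⟨{4, 5}, by decide⟩

theorem exists_eps' {r : Perm (Fin 6)} (hr : r ∈ alternatingGroup (Fin 6)) (h : act r d0 = d0) : ∃ x, eps x = r := by
  have h1 : ({4, 5} : Finset (Fin 6)).map r.toEmbedding = {4, 5} := congrArg Subtype.val h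
  have h2 : ∀ k, k ∈ ({4, 5} : Finset (Fin 6)) → r k = 4 ∨ r k = 5 := by
    intro k hk
    have h3 : r k ∈ ({4, 5} : Finset (Fin 6)).map r.toEmbedding := Finset.mem_map_of_mem r.toEmbedding hk
    rw [h1] at h3
    simpa using h3
  exact exists_eps hr (h2 4 (by decide)) (h2 5 (by decide))

theorem trans_aux : ∀ d : Duad, act 1 d0 = d ∨ ∃ x : Perm (Fin 4), act (eps x * pi1) d0 = d ∨ act (eps x * pi2) d0 = d := by
  decide +kernel

theorem act_trans (d : Duad) : ∃ s ∈ alternatingGroup (Fin 6), act s d0 = d := by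
  rcases trans_aux d with h | ⟨x, h | h⟩
  · exact ⟨1, one_mem _, h⟩
  · exact ⟨_, mul_mem (eps_mem x) pi1_mem, h⟩
  · exact ⟨_, mul_mem (eps_mem x) pi2_mem, h⟩

theorem card_duad : Fintype.card Duad = 15 := by decide

theorem fixed_three : (Finset.univ.filter fun d : Duad => d = act (eps (_root_.Equiv.swap 0 1)) d).card = 3 := by decide +kernel

variable {ι : Type} [Fintype ι] [DecidableEq ι] {F : Type u} [Field F] {G : Type v} [Group G]
variable {m : G →* GL ι F} {φ : G →* Perm (Fin 6)}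

/-- a multiple of an idempotent with trace zero and small rank vanishes -/
theorem eq_zero_of_idem {κ : Type} [Fintype κ] [DecidableEq κ] (p : ℕ) [hp : Fact p.Prime] [CharP F p] (h5 : 5 ≤ p)
    {B : Matrix ι κ F} {D : Matrix κ κ F} (hDD : D * D = (2 : F) • D) (htr : D.trace = 0) (hBD : B * D = 0)
    (hker : Module.finrank F (LinearMap.ker (Matrix.toLin' B)) ≤ 3) : D = 0 := by
  have h2 : (2 : F) ≠ 0 := by
    have := cast_ne_zero (F := F) (p := p) (n := 2) (prime_not_dvd hp.out h5 1 0)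
    exact_mod_cast this
  obtain ⟨K, hK⟩ : ∃ K : Matrix κ κ F, K = (2 : F)⁻¹ • D := ⟨_, rfl⟩
  have hKK : K * K = K := by
    rw [hK, Matrix.smul_mul, Matrix.mul_smul, hDD, smul_smul, smul_smul, mul_assoc, inv_mul_cancel₀ h2, mul_one]
  have hKt : K.trace = 0 := by rw [hK, Matrix.trace_smul, htr, smul_zero]
  have hBK : B * K = 0 := by rw [hK, Matrix.mul_smul, hBD, smul_zero]
  let f : (κ → F) →ₗ[F] (κ → F) := Matrix.toLin' K
  have hproj : LinearMap.IsProj (LinearMap.range f) f := by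
    refine ⟨fun x => ⟨x, rfl⟩, ?_⟩
    rintro _ ⟨x, rfl⟩
    show Matrix.toLin' K (Matrix.toLin' K x) = Matrix.toLin' K x
    rw [← Matrix.toLin'_mul_apply, hKK]
  have h1 := hproj.trace
  have h3 : LinearMap.trace F (κ → F) f = 0 := by
    show LinearMap.trace F (κ → F) (Matrix.toLin' K) = 0
    rw [Matrix.trace_toLin'_eq, hKt]
  rw [h3] at h1
  have hle : LinearMap.range f ≤ LinearMap.ker (Matrix.toLin' B) := by
    rintro _ ⟨x, rfl⟩
    rw [LinearMap.mem_ker]
    show Matrix.toLin' B (Matrix.toLin' K x) = 0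
    rw [← Matrix.toLin'_mul_apply, hBK]
    simp
  have h4 : Module.finrank F (LinearMap.range f) ≤ 3 := (Submodule.finrank_mono hle).trans hker
  have h6 : Module.finrank F (LinearMap.range f) = 0 := by
    by_contra h7
    refine cast_ne_zero (F := F) (p := p) (fun h9 => ?_) h1.symm
    have := Nat.le_of_dvd (Nat.pos_of_ne_zero h7) h9
    omega
  have h7 : f = 0 := by
    rw [← LinearMap.range_eq_bot]
    exact Submodule.finrank_eq_zero.1 h6
  have h8 : K = 0 := by
    have h9 : Matrix.toLin' K = Matrix.toLin' 0 := by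
      rw [map_zero]; exact h7
    exact Matrix.toLin'.injective h9
  rw [hK] at h8
  exact (smul_eq_zero.1 h8).resolve_left (inv_ne_zero h2)

/-- **No fixed vector** (if the trace of the involutions vanishes). -/
theorem no_triv [Finite G] (h : Cov m φ) (p : ℕ) [hp : Fact p.Prime] [CharP F p] (hp5 : 5 ≤ p) (hc : Nat.card φ.ker = 3)
    (hn : Fintype.card ι = 12) {ψ : Perm (Fin 4) →* G} (hψ : ∀ x, φ (ψ x) = eps x) {v : ι → F} (hv0 : v ≠ 0)
    (hv : ∀ x, (m (ψ x) : Matrix ι ι F) *ᵥ v = v) (hj : tr (m (ψ (_root_.Equiv.swap 0 1))) = 0) : False := by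
  classical
  obtain ⟨Y, hY⟩ : ∃ Y : Subgroup G, Y = ((eps.comp (MonoidHom.id (Perm (Fin 4)))).range).comap φ := ⟨_, rfl⟩
  have hYmem : ∀ y, y ∈ Y ↔ ∃ x, eps x = φ y := by
    intro y; rw [hY]; exact Iff.rfl
  have hYact : ∀ y, act (φ y) d0 = d0 → y ∈ Y := fun y hy => (hYmem y).2 (exists_eps' (h.sign y) hy)
  have h1 : ∀ y : G, ∃ s : F, y ∈ Y → (m y : Matrix ι ι F) *ᵥ v = s • v := by
    intro y
    by_cases hy : y ∈ Y
    · obtain ⟨x, hx⟩ := (hYmem y).1 hy
      obtain ⟨k, c, -, -, -, hc⟩ := exists_scal_psi h hψ (x := x) hx.symm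
      refine ⟨c, fun _ => ?_⟩
      rw [hc, Matrix.smul_mulVec, hv]
    · exact ⟨0, fun h2 => absurd h2 hy⟩
  choose χ hχ using h1
  have huniq : ∀ y ∈ Y, ∀ c : F, (m y : Matrix ι ι F) *ᵥ v = c • v → χ y = c := by
    intro y hy c hcy
    have h3 := hχ y hy
    rw [hcy] at h3
    have h4 : (c - χ y) • v = 0 := by rw [sub_smul, h3, sub_self]
    exact (sub_eq_zero.1 ((smul_eq_zero.1 h4).resolve_right hv0)).symm
  have hψY : ∀ x, ψ x ∈ Y := fun x => (hYmem _).2 ⟨x, (hψ x).symm⟩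
  have hχψ : ∀ x, χ (ψ x) = 1 := fun x => huniq _ (hψY x) _ (by rw [hv, one_smul])
  have hmul : ∀ a ∈ Y, ∀ b ∈ Y, χ (a * b) = χ a * χ b := by
    intro a ha b hb
    apply huniq _ (mul_mem ha hb)
    rw [map_mul, Units.val_mul, ← Matrix.mulVec_mulVec, hχ b hb, Matrix.mulVec_smul, hχ a ha, smul_smul, mul_comm]
  -- representatives
  have hrex : ∀ d : Duad, ∃ g : G, act (φ g) d0 = d := by
    intro d
    obtain ⟨s, hs, hsd⟩ := act_trans d
    obtain ⟨g, hg⟩ := h.surj hs
    exact ⟨g, by rw [hg, hsd]⟩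
  choose r hr using hrex
  obtain ⟨yy, hyy⟩ : ∃ yy : G → Duad → G, ∀ g d, yy g d = (r (act (φ g) d))⁻¹ * g * r d := ⟨_, fun _ _ => rfl⟩
  have hyyY : ∀ g d, yy g d ∈ Y := by
    intro g d
    apply hYact
    rw [hyy, map_mul, map_mul, map_inv, act_mul, act_mul, hr]
    have h3 : act (φ (r (act (φ g) d)))⁻¹ (act (φ (r (act (φ g) d))) d0) = d0 := by
      rw [← act_mul, inv_mul_cancel, act_one]
    rw [hr] at h3
    exact h3
  let Mx : G → Matrix Duad Duad F := fun g => Matrix.of fun p q => if p = act (φ g) q then χ (yy g q) else 0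
  have hMx : ∀ g p q, Mx g p q = if p = act (φ g) q then χ (yy g q) else 0 := fun _ _ _ => rfl
  let B : Matrix ι Duad F := Matrix.of fun i q => ((m (r q) : Matrix ι ι F) *ᵥ v) i
  have hB : ∀ i q, B i q = ((m (r q) : Matrix ι ι F) *ᵥ v) i := fun _ _ => rfl
  have hint : ∀ g, (m g : Matrix ι ι F) * B = B * Mx g := by
    intro g
    ext i q
    rw [Matrix.mul_apply, Matrix.mul_apply]
    have e1 : ∑ k, (m g : Matrix ι ι F) i k * B k q = ((m g : Matrix ι ι F) *ᵥ ((m (r q) : Matrix ι ι F) *ᵥ v)) i := rfl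
    rw [e1]
    simp only [hMx, mul_ite, mul_zero]
    rw [Finset.sum_ite_eq' Finset.univ (act (φ g) q), if_pos (Finset.mem_univ _), hB]
    have e2 : g * r q = r (act (φ g) q) * yy g q := by rw [hyy]; group
    rw [Matrix.mulVec_mulVec, ← Units.val_mul, ← map_mul, e2, map_mul, Units.val_mul, ← Matrix.mulVec_mulVec,
      hχ _ (hyyY g q), Matrix.mulVec_smul, Pi.smul_apply, smul_eq_mul, mul_comm]
  have hMmul : ∀ a b, Mx (a * b) = Mx a * Mx b := by
    intro a b
    ext p q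
    rw [Matrix.mul_apply]
    simp only [hMx, mul_ite, mul_zero]
    rw [Finset.sum_ite_eq' Finset.univ (act (φ b) q), if_pos (Finset.mem_univ _), map_mul, act_mul]
    have e : yy (a * b) q = yy a (act (φ b) q) * yy b q := by
      rw [hyy, hyy, hyy, map_mul, act_mul]; group
    rw [e, hmul _ (hyyY _ _) _ (hyyY _ _), ite_mul, zero_mul]
  have hMscal : ∀ (k : G) (c : F), φ k = 1 → (m k : Matrix ι ι F) = c • (1 : Matrix ι ι F) → Mx k = c • (1 : Matrix Duad Duad F) := by
    intro k c hk hkc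
    ext p q
    rw [hMx, hk, act_one, Matrix.smul_apply, Matrix.one_apply]
    by_cases hpq : p = q
    · rw [if_pos hpq, if_pos hpq, smul_eq_mul, mul_one]
      apply huniq _ (hyyY k q)
      have e : yy k q = k := by
        rw [hyy, hk, act_one, mul_assoc, h.central hk, ← mul_assoc, inv_mul_cancel, one_mul]
      rw [e, hkc, Matrix.smul_mulVec, Matrix.one_mulVec]
    · rw [if_neg hpq, if_neg hpq, smul_zero]
  have hMone : Mx 1 = 1 := by
    rw [hMscal 1 1 (map_one φ) (by rw [map_one, Units.val_one, one_smul]), one_smul]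
  -- `B` is surjective
  have hBsurj : LinearMap.range (Matrix.toLin' B) = ⊤ := by
    rcases h.irr.1 (LinearMap.range (Matrix.toLin' B)) (by
      rintro _ ⟨_, ⟨g, rfl⟩, rfl⟩
      rintro _ ⟨_, ⟨a, rfl⟩, rfl⟩
      refine ⟨Mx g *ᵥ a, ?_⟩
      rw [Matrix.toLin'_apply, Matrix.toLin'_apply, Matrix.toLin'_apply, Matrix.mulVec_mulVec, Matrix.mulVec_mulVec, ← hint g]) with h3 | h3
    · exfalso
      have h4 : Matrix.toLin' B (Pi.single d0 1) = 0 := by
        rw [LinearMap.range_eq_bot.1 h3]; rfl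
      rw [Matrix.toLin'_apply, Matrix.mulVec_single_one] at h4
      have h5 : (m (r d0) : Matrix ι ι F) *ᵥ v = 0 := by
        funext i
        exact congrFun h4 i
      apply hv0
      have h6 := congrArg (fun w => ((m (r d0))⁻¹ : GL ι F).1 *ᵥ w) h5
      simp only [Matrix.mulVec_mulVec, Matrix.mulVec_zero, ← Units.val_mul, inv_mul_cancel, Units.val_one,
        Matrix.one_mulVec] at h6
      exact h6
    · exact h3
  obtain ⟨S, hS⟩ : ∃ S : Matrix Duad ι F, B * S = 1 := by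
    obtain ⟨f, hf⟩ := (Matrix.toLin' B).exists_rightInverse_of_surjective hBsurj
    refine ⟨LinearMap.toMatrix' f, ?_⟩
    have h3 := congrArg LinearMap.toMatrix' hf
    rw [LinearMap.toMatrix'_comp, LinearMap.toMatrix'_toLin', LinearMap.toMatrix'_id] at h3
    exact h3
  have hker : Module.finrank F (LinearMap.ker (Matrix.toLin' B)) ≤ 3 := by
    have h3 := (Matrix.toLin' B).finrank_range_add_finrank_ker
    rw [hBsurj, finrank_top, Module.finrank_fintype_fun_eq_card, Module.finrank_fintype_fun_eq_card, hn, card_duad] at h3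
    omega
  obtain ⟨N, hN⟩ : ∃ N : Matrix Duad Duad F, N = 1 - S * B := ⟨_, rfl⟩
  have hBN : B * N = 0 := by
    rw [hN, Matrix.mul_sub, Matrix.mul_one, ← Matrix.mul_assoc, hS, Matrix.one_mul, sub_self]
  have hNX : ∀ X : Matrix Duad Duad F, B * X = 0 → N * X = X := by
    intro X hX
    rw [hN, Matrix.sub_mul, Matrix.one_mul, Matrix.mul_assoc, hX, Matrix.mul_zero, sub_zero]
  have hBMN : ∀ g, B * (Mx g * N) = 0 := by
    intro g
    rw [← Matrix.mul_assoc, ← hint g, Matrix.mul_assoc, hBN, Matrix.mul_zero]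
  have htrN : N.trace = 3 := by
    rw [hN, Matrix.trace_sub, Matrix.trace_one, Matrix.trace_mul_comm, hS, Matrix.trace_one, card_duad, hn]
    norm_num
  have htrMN : ∀ g, (Mx g * N).trace = (Mx g).trace - tr (m g) := by
    intro g
    rw [hN, Matrix.mul_sub, Matrix.mul_one, Matrix.trace_sub, ← Matrix.mul_assoc, Matrix.trace_mul_comm, ← Matrix.mul_assoc,
      ← hint g, Matrix.mul_assoc, hS, Matrix.mul_one]
    rfl
  -- the involution
  obtain ⟨J, hJ⟩ : ∃ J, J = ψ (_root_.Equiv.swap 0 1) := ⟨_, rfl⟩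
  have hJJ : J * J = 1 := by rw [hJ, ← map_mul, show (_root_.Equiv.swap 0 1 : Perm (Fin 4)) * _root_.Equiv.swap 0 1 = 1 by decide, map_one]
  have hφJ : φ J = eps (_root_.Equiv.swap 0 1) := by rw [hJ, hψ]
  have htrJ : (Mx J).trace = 3 := by
    have h3 : ∀ q, Mx J q q = if q = act (eps (_root_.Equiv.swap 0 1)) q then 1 else 0 := by
      intro q
      rw [hMx, hφJ]
      by_cases hq : q = act (eps (_root_.Equiv.swap 0 1)) q
      · rw [if_pos hq, if_pos hq]
        obtain ⟨x, hx⟩ := (hYmem _).1 (hyyY J q)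
        have e : yy J q = (r q)⁻¹ * J * r q := by rw [hyy, hφJ, ← hq]
        have e2 : yy J q * yy J q = 1 := by
          rw [e]
          calc (r q)⁻¹ * J * r q * ((r q)⁻¹ * J * r q) = (r q)⁻¹ * (J * J) * r q := by group
            _ = 1 := by rw [hJJ]; group
        have e3 : x * x = 1 := by
          apply eps_injective
          rw [map_mul, hx, ← map_mul, e2, map_one, map_one]
        have e4 : yy J q = ψ x := by
          apply h.inv_unique hc
          · rw [← hx, hψ]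
          · exact e2
          · rw [← map_mul, e3, map_one]
        rw [e4, hχψ]
      · rw [if_neg hq, if_neg hq]
    show ∑ q, Mx J q q = 3
    rw [Finset.sum_congr rfl (fun q _ => h3 q), Finset.sum_boole, fixed_three]
    norm_num
  have hMJ : Mx J * Mx J = 1 := by rw [← hMmul, hJJ, hMone]
  have hJN : Mx J * N = N := by
    obtain ⟨D, hD⟩ : ∃ D : Matrix Duad Duad F, D = N - Mx J * N := ⟨_, rfl⟩
    have hBD : B * D = 0 := by rw [hD, Matrix.mul_sub, hBN, hBMN, sub_zero]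
    have hND := hNX D hBD
    have hMD : Mx J * D = -D := by
      rw [hD, Matrix.mul_sub, ← Matrix.mul_assoc, hMJ, Matrix.one_mul, neg_sub]
    have hDD : D * D = (2 : F) • D := by
      conv_lhs => rw [show D * D = (N - Mx J * N) * D by rw [← hD]]
      rw [Matrix.sub_mul, Matrix.mul_assoc, hND, hMD, sub_neg_eq_add, two_smul]
    have htr : D.trace = 0 := by
      rw [hD, Matrix.trace_sub, htrN, htrMN, htrJ, hJ, hj]
      norm_num
    have h3 := eq_zero_of_idem p hp5 hDD htr hBD hker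
    rw [hD, sub_eq_zero] at h3
    exact h3.symm
  -- the elements acting trivially on the relations
  let T : Subgroup G :=
    { carrier := {g | Mx g * N = N}
      mul_mem' := by
        intro a b ha hb
        show Mx (a * b) * N = N
        rw [hMmul, Matrix.mul_assoc, show Mx b * N = N from hb, show Mx a * N = N from ha]
      one_mem' := by
        show Mx 1 * N = N
        rw [hMone, Matrix.one_mul]
      inv_mem' := by
        intro a ha
        show Mx a⁻¹ * N = N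
        have h3 : Mx a⁻¹ * (Mx a * N) = N := by
          rw [← Matrix.mul_assoc, ← hMmul, inv_mul_cancel, hMone, Matrix.one_mul]
        rwa [show Mx a * N = N from ha] at h3 }
  have hTmem : ∀ g, g ∈ T ↔ Mx g * N = N := fun g => Iff.rfl
  have hTn : T.Normal := by
    refine ⟨fun g hg x => ?_⟩
    rw [hTmem] at hg ⊢
    have h3 : N * (Mx x⁻¹ * N) = Mx x⁻¹ * N := hNX _ (hBMN _)
    rw [hMmul, hMmul, Matrix.mul_assoc, Matrix.mul_assoc, ← h3, ← Matrix.mul_assoc (Mx g), hg, h3, ← Matrix.mul_assoc,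
      ← hMmul, mul_inv_cancel, hMone, Matrix.one_mul]
  have hJT : J ∈ T := hJN
  have hTtop : T = ⊤ := by
    have hsimple : IsSimpleGroup (alternatingGroup (Fin 6)) := alternatingGroup.isSimpleGroup (by simp)
    let f : G →* alternatingGroup (Fin 6) := φ.codRestrict _ (fun g => h.sign g)
    have hf : Function.Surjective f := by
      rintro ⟨s, hs⟩
      obtain ⟨g, hg⟩ := h.surj hs
      exact ⟨g, Subtype.ext hg⟩
    have h3 : T.map f = ⊤ := by
      rcases hsimple.eq_bot_or_eq_top_of_normal _ (hTn.map f hf) with h4 | h4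
      · exfalso
        have h5 := Subgroup.mem_map_of_mem f hJT
        rw [h4, Subgroup.mem_bot] at h5
        have h6 : φ J = 1 := congrArg Subtype.val h5
        rw [hφJ] at h6
        have h7 := eps_injective (h6.trans (map_one eps).symm)
        revert h7
        decide
      · exact h4
    have h4 : commutator G ≤ T := by
      rw [commutator_def, Subgroup.commutator_le]
      have h5 : ∀ g : G, ∃ t ∈ T, ∃ k, φ k = 1 ∧ g = k * t := by
        intro g
        obtain ⟨t, ht, htg⟩ : f g ∈ T.map f := by rw [h3]; exact Subgroup.mem_top _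
        have h6 : φ t = φ g := congrArg Subtype.val htg
        exact ⟨t, ht, g * t⁻¹, by rw [map_mul, map_inv, h6, mul_inv_cancel], by group⟩
      intro a _ b _
      obtain ⟨t, ht, k, hk, rfl⟩ := h5 a
      obtain ⟨t', ht', k', hk', rfl⟩ := h5 b
      have c1 := h.central hk
      have c2 := h.central hk'
      have e : ⁅k * t, k' * t'⁆ = ⁅t, t'⁆ := by
        rw [commutatorElement_def, commutatorElement_def]
        have e1 : k * t * (k' * t') = k' * t' * (t'⁻¹ * t * t') * k := by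
          calc k * t * (k' * t') = k * (t * k') * t' := by group
            _ = k * (k' * t) * t' := by rw [c2]
            _ = k * (k' * t * t') := by group
            _ = (k' * t * t') * k := c1 _
            _ = k' * t' * (t'⁻¹ * t * t') * k := by group
        calc k * t * (k' * t') * (k * t)⁻¹ * (k' * t')⁻¹
            = (k * t) * (k' * t') * (t⁻¹ * k⁻¹) * (t'⁻¹ * k'⁻¹) := by group
          _ = k * (t * k') * (t' * t⁻¹ * k⁻¹ * t'⁻¹ * k'⁻¹) := by group
          _ = k * (k' * t) * (t' * t⁻¹ * k⁻¹ * t'⁻¹ * k'⁻¹) := by rw [c2]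
          _ = k * (k' * (t * t' * t⁻¹)) * k⁻¹ * t'⁻¹ * k'⁻¹ := by group
          _ = (k' * (t * t' * t⁻¹)) * k * k⁻¹ * t'⁻¹ * k'⁻¹ := by rw [c1]
          _ = k' * (t * t' * t⁻¹ * t'⁻¹) * k'⁻¹ := by group
          _ = (t * t' * t⁻¹ * t'⁻¹) * k' * k'⁻¹ := by rw [c2]
          _ = t * t' * t⁻¹ * t'⁻¹ := by group
      rw [e]
      exact mul_mem (mul_mem (mul_mem ht ht') (inv_mem ht)) (inv_mem ht')
    rw [h.perf] at h4
    exact top_le_iff.1 h4
  -- a central element
  obtain ⟨z, hz⟩ : ∃ z : φ.ker, z ≠ 1 := by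
    by_contra hcon
    push Not at hcon
    have h3 : Nat.card φ.ker = 1 := by
      rw [Nat.card_eq_one_iff_unique]
      exact ⟨⟨fun a b => (hcon a).trans (hcon b).symm⟩, ⟨1⟩⟩
    omega
  obtain ⟨c, hcc⟩ := h.scal z.2
  have hzT : (z : G) ∈ T := by rw [hTtop]; exact Subgroup.mem_top _
  rw [hTmem, hMscal _ _ z.2 hcc, Matrix.smul_mul, Matrix.one_mul] at hzT
  have h3 : ((c : F) - 1) • N = 0 := by rw [sub_smul, one_smul, hzT, sub_self]
  rcases smul_eq_zero.1 h3 with h4 | h4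
  · rw [sub_eq_zero] at h4
    rw [h4] at hcc
    exact hz (Subtype.ext (h.eq_one_of_scal hcc))
  · rw [h4, Matrix.trace_zero] at htrN
    have := cast_ne_zero (F := F) (p := p) (n := 3) (prime_not_dvd hp.out hp5 0 1)
    exact this (by exact_mod_cast htrN.symm)

/-- **`3·A₆` has no absolutely irreducible representation of degree 12 in characteristic `p ≥ 5`.** -/
theorem no_three_odd [Finite F] [Finite G] (h : Cov m φ) (p : ℕ) [Fact p.Prime] [CharP F p] (hp : 5 ≤ p)
    (hk : Nat.card φ.ker = 3) (hn : Fintype.card ι = 12) : False := by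
  obtain ⟨ψ, hψ⟩ := exists_psi h hk
  rcases cases h p hp hk hn hψ with ⟨v, hv0, hv⟩ | ⟨⟨v, hv0, hv⟩, hj⟩
  · exact no_sign h p hp hk hn hψ hv0 hv
  · exact no_triv h p hp hk hn hψ hv0 hv hj

end Cfsg.Agent.H269.ThreeA6
end
end
end
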