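import Cfsg.Agent.H637.OrthMain
set_option linter.all false

/-!
# Sylow `2`-subgroups of orthogonal groups over fields of odd order: odd dimension
-/

set_option autoImplicit false

namespace Cfsg.Agent.H637

open Matrix Subgroup QuadraticMap
open Cfsg.Agent.ClassicalGeometry.Reflection
open Cfsg.Agent.LieClassical.OmegaReindex
open scoped commutatorElement

section Prod

variable {X₁ X₂ Z : Type*} [Group X₁] [Group X₂] [CommGroup Z]

/-- **Direct products**, a variant in which the images of `χ₁` and `χ₂` may differ. -/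
theorem good_prod' (χ₁ : X₁ →* Z) (χ₂ : X₂ →* Z) (χ : X₁ × X₂ →* Z)
    (hχ : ∀ a b, χ (a, b) = χ₁ a * χ₂ b) (S₁ : Subgroup X₁) (S₂ : Subgroup X₂)
    (h₁ : Good χ₁.ker S₁) (h₂ : Good χ₂.ker S₂) (R : Set Z)
    (hR₁ : ∀ z ∈ R, ∃ a ∈ S₁, a ^ 2 = 1 ∧ χ₁ a = z) (hR₂ : ∀ z ∈ R, ∃ b ∈ S₂, b ^ 2 = 1 ∧ χ₂ b = z)
    (hS₂ : ∀ b ∈ S₂, χ₂ b ∈ closure R) :
    Good χ.ker (S₁.prod S₂) := by
  have hinv : ∀ z ∈ R, z⁻¹ = z := by
    intro z hz
    obtain ⟨a, ha, ha2, hz'⟩ := hR₁ z hz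
    rw [inv_eq_iff_mul_eq_one, ← hz', ← map_mul, ← pow_two, ha2, map_one]
  set K := S₁.prod S₂ ⊓ χ.ker with hK
  have hmemK : ∀ a b, (a, b) ∈ K ↔ (a ∈ S₁ ∧ b ∈ S₂) ∧ χ₁ a * χ₂ b = 1 := by
    intro a b
    rw [hK, mem_inf, MonoidHom.mem_ker, hχ, Subgroup.mem_prod]
  -- elements `(d, 1)` and `(1, d)`
  have e₁ : ∀ d ∈ S₁ ⊓ χ₁.ker, (d, (1 : X₂)) ∈ sqSub K := by
    intro d hd
    have hle : ∀ x ∈ S₁ ⊓ χ₁.ker, (x, (1 : X₂)) ∈ K := by
      intro x hx
      refine (hmemK _ _).2 ⟨⟨hx.1, S₂.one_mem⟩, ?_⟩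
      rw [map_one, mul_one]; exact hx.2
    refine ⟨hle d hd, ?_⟩
    have h3 : ⁅S₁ ⊓ χ₁.ker, S₁ ⊓ χ₁.ker⁆ ≤ ⁅K, K⁆.comap (MonoidHom.inl X₁ X₂) := by
      rw [commutator_le]
      intro x hx y hy
      rw [mem_comap, map_commutatorElement]
      exact commutator_mem_commutator (hle x hx) (hle y hy)
    have h5 := h3 (h₁ d hd)
    rw [mem_comap] at h5
    convert h5 using 1
    simp
  have e₂ : ∀ d ∈ S₂ ⊓ χ₂.ker, ((1 : X₁), d) ∈ sqSub K := by
    intro d hd
    have hle : ∀ x ∈ S₂ ⊓ χ₂.ker, ((1 : X₁), x) ∈ K := by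
      intro x hx
      refine (hmemK _ _).2 ⟨⟨S₁.one_mem, hx.1⟩, ?_⟩
      rw [map_one, one_mul]; exact hx.2
    refine ⟨hle d hd, ?_⟩
    have h3 : ⁅S₂ ⊓ χ₂.ker, S₂ ⊓ χ₂.ker⁆ ≤ ⁅K, K⁆.comap (MonoidHom.inr X₁ X₂) := by
      rw [commutator_le]
      intro x hx y hy
      rw [mem_comap, map_commutatorElement]
      exact commutator_mem_commutator (hle x hx) (hle y hy)
    have h5 := h3 (h₂ d hd)
    rw [mem_comap] at h5
    convert h5 using 1
    simp
  have e₃ : ∀ z ∈ closure R, ∃ a ∈ S₁, ∃ b ∈ S₂, χ₁ a = z⁻¹ ∧ χ₂ b = z ∧ (a, b) ∈ sqSub K := by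
    intro z hz
    induction hz using closure_induction with
    | mem z hz =>
      obtain ⟨a, ha, ha2, haz⟩ := hR₁ z hz
      obtain ⟨b, hb, hb2, hbz⟩ := hR₂ z hz
      refine ⟨a, ha, b, hb, by rw [haz, hinv z hz], hbz, (hmemK _ _).2 ⟨⟨ha, hb⟩, ?_⟩, ?_⟩
      · rw [haz, hbz, ← haz, ← map_mul, ← pow_two, ha2, map_one]
      · have : ((a, b) : X₁ × X₂) ^ 2 = 1 := by
          rw [Prod.pow_mk, ha2, hb2]; rfl
        rw [this]
        exact Subgroup.one_mem _
    | one => exact ⟨1, S₁.one_mem, 1, S₂.one_mem, by rw [map_one, inv_one], map_one _,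
        Subgroup.one_mem _⟩
    | mul x y _ _ ihx ihy =>
      obtain ⟨a, ha, b, hb, h3, h4, h5⟩ := ihx
      obtain ⟨a', ha', b', hb', h3', h4', h5'⟩ := ihy
      exact ⟨a * a', S₁.mul_mem ha ha', b * b', S₂.mul_mem hb hb', by rw [map_mul, h3, h3', mul_inv],
        by rw [map_mul, h4, h4'], Subgroup.mul_mem _ h5 h5'⟩
    | inv x _ ih =>
      obtain ⟨a, ha, b, hb, h3, h4, h5⟩ := ih
      exact ⟨a⁻¹, S₁.inv_mem ha, b⁻¹, S₂.inv_mem hb, by rw [map_inv, h3],
        by rw [map_inv, h4], Subgroup.inv_mem _ h5⟩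
  apply good_of_le_sqSub
  rintro ⟨x, y⟩ hxy
  obtain ⟨⟨hx, hy⟩, hxy1⟩ := (hmemK x y).1 hxy
  obtain ⟨a, ha, b, hb, h3, h4, h5⟩ := e₃ (χ₂ y) (hS₂ y hy)
  have h6 : (a⁻¹ * x, (1 : X₂)) ∈ sqSub K := by
    apply e₁
    refine ⟨S₁.mul_mem (S₁.inv_mem ha) hx, ?_⟩
    change χ₁ (a⁻¹ * x) = 1
    rw [map_mul, map_inv, h3, inv_inv, mul_comm, hxy1]
  have h7 : ((1 : X₁), b⁻¹ * y) ∈ sqSub K := by
    apply e₂
    refine ⟨S₂.mul_mem (S₂.inv_mem hb) hy, ?_⟩
    change χ₂ (b⁻¹ * y) = 1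
    rw [map_mul, map_inv, h4, inv_mul_cancel]
  have h8 : ((x, y) : X₁ × X₂) = (a, b) * ((a⁻¹ * x, 1) * (1, b⁻¹ * y)) := by
    ext <;> simp
  rw [h8]
  exact Subgroup.mul_mem _ h5 (Subgroup.mul_mem _ h6 h7)

theorem goodSyl_prod' {X : Type*} [Group X] [Finite X] [Finite X₁] [Finite X₂]
    (χ₁ : X₁ →* Z) (χ₂ : X₂ →* Z) (χ : X →* Z) (f : X₁ × X₂ →* X) (hf : Function.Injective f)
    (hc : (Nat.card X).factorization 2 = (Nat.card X₁).factorization 2 +
      (Nat.card X₂).factorization 2)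
    (hχ : ∀ a b, χ (f (a, b)) = χ₁ a * χ₂ b) (h₁ : GoodSyl χ₁) (h₂ : GoodSyl χ₂) (R : Set Z)
    (hR₁ : ∀ z ∈ R, ∃ a, a ^ 2 = 1 ∧ χ₁ a = z) (hR₂ : ∀ z ∈ R, ∃ b, b ^ 2 = 1 ∧ χ₂ b = z)
    (hS₂ : ∀ S : Sylow 2 X₂, ∀ b ∈ (S : Subgroup X₂), χ₂ b ∈ closure R) : GoodSyl χ := by
  obtain ⟨S₁⟩ := (inferInstance : Nonempty (Sylow 2 X₁))
  obtain ⟨S₂⟩ := (inferInstance : Nonempty (Sylow 2 X₂))
  obtain ⟨S, hS⟩ := sylow_prod f hf hc S₁ S₂
  apply goodSyl_of_exists S
  rw [hS]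
  apply Good.map
  refine good_prod' χ₁ χ₂ (χ.comp f) hχ S₁ S₂ (h₁ S₁) (h₂ S₂) R ?_ ?_ (hS₂ S₂)
  · intro z hz
    obtain ⟨a, ha, haz⟩ := hR₁ z hz
    obtain ⟨b, hb, hb2, hbz⟩ := exists_mem_sylow (χ := χ₁) ha S₁
    exact ⟨b, hb, hb2, hbz.trans haz⟩
  · intro z hz
    obtain ⟨a, ha, haz⟩ := hR₂ z hz
    obtain ⟨b, hb, hb2, hbz⟩ := exists_mem_sylow (χ := χ₂) ha S₂
    exact ⟨b, hb, hb2, hbz.trans haz⟩

end Prod

section Odd

variable {F : Type*} [Field F] [Fintype F]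

/-- The isometry group of a form of dimension one. -/
theorem isometry_unit (d : F) (hd : d ≠ 0)
    (g : Cfsg.isometryGroup F (⇑(DQ (fun _ : Unit => d)))) :
    g = 1 ∨ ((g : GL Unit F) : Matrix Unit Unit F) = -1 := by
  have h1 := (mem_isometryGroup_iff _ _).1 g.2 (fun _ => 1)
  rw [DQ_apply, DQ_apply] at h1
  simp only [Finset.univ_unique, Finset.sum_singleton, mul_one] at h1
  have h2 : (((g : GL Unit F) : Matrix Unit Unit F) *ᵥ fun _ => 1) (default : Unit) =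
      ((g : GL Unit F) : Matrix Unit Unit F) () () := by
    rw [Matrix.mulVec, dotProduct]
    simp
  rw [h2] at h1
  have h3 : ((g : GL Unit F) : Matrix Unit Unit F) () () *
      ((g : GL Unit F) : Matrix Unit Unit F) () () = 1 := by
    apply mul_left_cancel₀ hd
    rw [h1, mul_one]
  rcases mul_self_eq_one_iff.1 h3 with h | h
  · left
    apply Subtype.ext
    apply Units.ext
    ext i j
    change ((g : GL Unit F) : Matrix Unit Unit F) () () = (1 : Matrix Unit Unit F) () ()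
    rw [h, Matrix.one_apply_eq]
  · right
    ext i j
    change ((g : GL Unit F) : Matrix Unit Unit F) () () = (-1 : Matrix Unit Unit F) () ()
    rw [h, Matrix.neg_apply, Matrix.one_apply_eq]

theorem card_isometry_unit (h2 : (2 : F) ≠ 0) (d : F) (hd : d ≠ 0) :
    Nat.card (Cfsg.isometryGroup F (⇑(DQ (fun _ : Unit => d)))) = 2 := by
  have hm1 : (-1 : GL Unit F) ∈ Cfsg.isometryGroup F (⇑(DQ (fun _ : Unit => d))) := by
    rw [mem_isometryGroup_iff]
    intro x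
    rw [Units.val_neg, Units.val_one, Matrix.neg_mulVec, Matrix.one_mulVec, QuadraticMap.map_neg]
  rw [Nat.card_eq_two_iff]
  refine ⟨1, ⟨-1, hm1⟩, ?_, ?_⟩
  · intro h
    have h3 := congrArg (fun g : Cfsg.isometryGroup F (⇑(DQ (fun _ : Unit => d))) =>
      ((g : GL Unit F) : Matrix Unit Unit F) () ()) h
    change (1 : F) = (-1 : Matrix Unit Unit F) () () at h3
    rw [Matrix.neg_apply, Matrix.one_apply_eq] at h3
    apply h2
    linear_combination h3
  · ext g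
    simp only [Set.mem_insert_iff, Set.mem_singleton_iff, Set.mem_univ, iff_true]
    rcases isometry_unit d hd g with h | h
    · exact Or.inl h
    · right
      apply Subtype.ext
      apply Units.ext
      rw [h]
      rfl

theorem goodSyl_unit (h2 : (2 : F) ≠ 0) (d : F) (hd : d ≠ 0) :
    GoodSyl (chi (fun _ : Unit => d)) := by
  intro S x hx
  have h1 : x = 1 := by
    rcases isometry_unit d hd x with h | h
    · exact h
    · exfalso
      have h3 : chi (fun _ : Unit => d) x = 1 := hx.2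
      have h4 := congrArg (fun z : Fˣ × ℤˣ => ((z.1 : Fˣ) : F)) h3
      change ((x : GL Unit F) : Matrix Unit Unit F).det = 1 at h4
      rw [h, Matrix.det_neg, Matrix.det_one, Fintype.card_unit, pow_one, mul_one] at h4
      apply h2
      linear_combination -h4
  rw [h1, one_pow]
  exact Subgroup.one_mem _

/-- **Odd dimension**: the standard form of dimension `2 m + 1 ≥ 5`. -/
theorem goodK_odd (hF : Odd (Fintype.card F)) (m : ℕ) (hm : 2 ≤ m) :
    GoodK (Cfsg.isometryGroup F (Cfsg.quadFormOdd m F)) := by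
  have h2 := two_ne_zero_of_odd hF
  rw [← coe_quadOdd]
  have hQ := quadOdd_nondegenerate (m := m) h2
  have hQ0 := disc_ne_zero' (quadOdd m F) hQ
  set d : F := 2 * disc (quadOdd m F) with hd
  have hd0 : d ≠ 0 := mul_ne_zero h2 hQ0
  have hc1 : Fintype.card (Fin (2 * m)) = 2 * m := Fintype.card_fin _
  have hcd0 : ∀ i, (Sum.elim (one' (Fin (2 * m)) F) (fun _ : Unit => d)) i ≠ 0 := by
    intro i
    rcases i with i | i
    · exact one_ne_zero
    · exact hd0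
  have hdisc : disc (DQ (Sum.elim (one' (Fin (2 * m)) F) (fun _ : Unit => d))) =
      disc (quadOdd m F) * ((2 ^ (m + 1)) * (2 ^ (m + 1))) := by
    rw [disc_DQ, Fintype.prod_sum_type]
    simp only [Sum.elim_inl, Sum.elim_inr, Finset.univ_unique, Finset.prod_singleton]
    rw [← disc_DQ, disc_one, hc1, hd]
    ring
  have hnd := DQ_nondegenerate h2 _ hcd0
  have hcard : Fintype.card (Unit ⊕ (Fin m ⊕ Fin m)) = Fintype.card (Fin (2 * m) ⊕ Unit) := by
    simp only [Fintype.card_sum, Fintype.card_fin, Fintype.card_unit]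
    ring
  have hsq : IsSquare (disc (DQ (Sum.elim (one' (Fin (2 * m)) F) (fun _ : Unit => d))) *
      disc (quadOdd m F)) := ⟨disc (quadOdd m F) * 2 ^ (m + 1), by rw [hdisc]; ring⟩
  obtain ⟨e, he⟩ := exists_equiv h2
    (DQ (Sum.elim (one' (Fin (2 * m)) F) (fun _ : Unit => d))) (quadOdd m F) hnd hQ hcard hsq
  have e1 := isoConj e _ _ he
  refine GoodK.congr e1 ?_
  rw [goodK_iff (chi (Sum.elim (one' (Fin (2 * m)) F) (fun _ : Unit => d)))
    (ker_chi h2 _ hcd0 (by rw [Fintype.card_sum, hc1]; omega))]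
  have h11 : (chi (fun _ : Unit => d)) ⟨-1, by
      rw [mem_isometryGroup_iff]
      intro x
      rw [Units.val_neg, Units.val_one, Matrix.neg_mulVec, Matrix.one_mulVec,
        QuadraticMap.map_neg]⟩ ∈ closure (RR F) :=
    chi_mem_closure h2 _ (fun _ => hd0) _
  -- the reflection generates
  have hv : DQ (fun _ : Unit => d) (fun _ => 1) ≠ 0 := by
    rw [DQ_apply]
    simpa using hd0
  set r := reflIso (DQ (fun _ : Unit => d)) (fun _ => 1) hv with hr
  have hrR := chi_reflIso_mem h2 (fun _ : Unit => d) (fun _ => 1) hv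
  have hne : r ≠ 1 := by
    intro h
    have h3 := det_reflIso (DQ (fun _ : Unit => d)) (fun _ => 1) hv
    rw [← hr, h] at h3
    change (1 : Matrix Unit Unit F).det = -1 at h3
    rw [Matrix.det_one] at h3
    apply h2
    linear_combination h3
  have hall : ∀ g : Cfsg.isometryGroup F (⇑(DQ (fun _ : Unit => d))), g = 1 ∨ g = r := by
    intro g
    rcases isometry_unit d hd0 g with h | h
    · exact Or.inl h
    · right
      rcases isometry_unit d hd0 r with h' | h'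
      · exact absurd h' hne
      · apply Subtype.ext
        apply Units.ext
        rw [h, h']
  refine goodSyl_prod' (chi (one' (Fin (2 * m)) F)) (chi (fun _ : Unit => d))
    (chi (Sum.elim (one' (Fin (2 * m)) F) (fun _ : Unit => d)))
    (oblk (one' (Fin (2 * m)) F) (fun _ : Unit => d)) (oblk_injective _ _) ?_
    (fun a b => chi_oblk h2 _ _ one'_ne (fun _ => hd0) a b)
    ((goodK_iff _ (ker_chi_one hF _ (by rw [hc1]; omega))).1 ((goodK_even hF m).2 hm))
    (goodSyl_unit h2 d hd0) {chi (fun _ : Unit => d) r} ?_ ?_ ?_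
  · rw [fact_one hF (Fin (2 * m)) m hc1 (by omega), card_isometry_unit h2 d hd0,
      Nat.card_congr e1.toEquiv, Nat.factorization_def _ Nat.prime_two,
      Nat.factorization_def _ Nat.prime_two, val_odd hF m, padicValNat_self]
  · intro z hz
    rw [Set.mem_singleton_iff] at hz
    subst hz
    exact exists_chi_eq h2 _ one'_ne (by rw [hc1]; omega) _ hrR
  · intro z hz
    rw [Set.mem_singleton_iff] at hz
    subst hz
    exact ⟨r, by rw [pow_two, hr, reflIso_mul_self], rfl⟩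
  · intro _ b _
    rcases hall b with h | h
    · rw [h, map_one]; exact Subgroup.one_mem _
    · rw [h]; exact Subgroup.subset_closure rfl

end Odd

end Cfsg.Agent.H637
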